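import Cfsg.Agent.Lib.S3A6Q9.Frame
import Cfsg.Agent.Lib.LargeExtraspecial.FourGroup

/-
The group side: an involution z with extraspecial Q of order 2^9, and the action of C(z)/Q on
Q/Z(Q).  Every conjugate s of z in Q yields the linear data `Rep.Local`.
-/

set_option autoImplicit false
set_option linter.unusedSectionVars false
open scoped commutatorElement

namespace Cfsg.Agent.S3A6Q9

open Module
open Cfsg.Agent.LargeExtraspecial (Data Cfg conjS mem_conjS)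

/-- The configuration studied here. -/
structure Base (G : Type*) [Group G] (H : Type*) [Group H] (V : Type*) [AddCommGroup V] [Module (ZMod 2) V] where
  z : G
  Q : Subgroup G
  D : Data Q z
  card : Nat.card Q = 2 ^ 9
  R : Rep H V
  phi : ↥(Subgroup.centralizer ({z} : Set G)) →* H
  phi_surj : Function.Surjective phi
  phi_ker : ∀ m, phi m = 1 ↔ (m : G) ∈ Q
  p : G → V
  p_mul : ∀ a ∈ Q, ∀ b ∈ Q, p (a * b) = p a + p b
  p_surj : ∀ v, ∃ a ∈ Q, p a = v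
  p_zero : ∀ a ∈ Q, p a = 0 ↔ a = 1 ∨ a = z
  p_sq : ∀ a ∈ Q, a * a = 1 ↔ R.Q.q (p a) = 0
  p_comm : ∀ a ∈ Q, ∀ b ∈ Q, a * b = b * a ↔ R.Q.B (p a) (p b) = 0
  p_conj : ∀ (m : ↥(Subgroup.centralizer ({z} : Set G))) (a : G), a ∈ Q →
    p ((m : G) * a * (m : G)⁻¹) = R.a (phi m) (p a)

namespace Base

variable {G : Type*} [Group G] {H : Type*} [Group H] {V : Type*} [AddCommGroup V] [Module (ZMod 2) V]
variable (B : Base G H V)

/-- The centralizer of z. -/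
abbrev M : Subgroup G := Subgroup.centralizer ({B.z} : Set G)

theorem mem_M {x : G} : x ∈ B.M ↔ x * B.z = B.z * x := Subgroup.mem_centralizer_singleton_iff

theorem Q_le_M : B.Q ≤ B.M := fun q hq => B.mem_M.mpr (B.D.z_central q hq)

theorem Q_conj {m a : G} (hm : m ∈ B.M) (ha : a ∈ B.Q) : m * a * m⁻¹ ∈ B.Q := B.D.norm m (B.mem_M.mp hm) a ha

theorem p_one : B.p 1 = 0 := (B.p_zero 1 (one_mem _)).mpr (Or.inl rfl)
theorem p_z : B.p B.z = 0 := (B.p_zero _ B.D.z_mem).mpr (Or.inr rfl)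

theorem p_inv {a : G} (ha : a ∈ B.Q) : B.p a⁻¹ = B.p a := by
  have h := B.p_mul a ha a⁻¹ (inv_mem ha)
  rw [mul_inv_cancel, B.p_one] at h
  exact (eq_of_add0 h.symm).symm

theorem p_mul_z {a : G} (ha : a ∈ B.Q) : B.p (a * B.z) = B.p a := by
  rw [B.p_mul a ha _ B.D.z_mem, B.p_z, add_zero]

theorem eq_of_p {a b : G} (ha : a ∈ B.Q) (hb : b ∈ B.Q) (h : B.p a = B.p b) : a = b ∨ a = b * B.z := by
  have h0 : B.p (b⁻¹ * a) = 0 := by rw [B.p_mul _ (inv_mem hb) _ ha, B.p_inv hb, h, add_self0]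
  rcases (B.p_zero _ (mul_mem (inv_mem hb) ha)).mp h0 with e | e
  · exact Or.inl (inv_mul_eq_one.mp e).symm
  · exact Or.inr (by rw [← e, mul_inv_cancel_left])

theorem exists_lift (h : H) : ∃ m : B.M, B.phi m = h := B.phi_surj h

/-- Conjugates of z. -/
def Conj (v : G) : Prop := ∃ g : G, g * B.z * g⁻¹ = v

/-- The extraspecial subgroup attached to a conjugate of z. -/
noncomputable def Qof (v : G) : Subgroup G := by
  classical exact if h : B.Conj v then conjS h.choose B.Q else ⊥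

theorem Qof_eq {g v : G} (h : g * B.z * g⁻¹ = v) : B.Qof v = conjS g B.Q := by
  have hv : B.Conj v := ⟨g, h⟩
  unfold Qof
  rw [dif_pos hv]
  exact B.D.conjS_eq_of_conj_eq (hv.choose_spec.trans h.symm)

theorem Qof_z : B.Qof B.z = B.Q := by
  rw [B.Qof_eq (g := 1) (by simp)]
  ext x; rw [mem_conjS]; simp

theorem Conj.conj {v : G} (h : B.Conj v) (x : G) : B.Conj (x * v * x⁻¹) := by
  obtain ⟨g, rfl⟩ := h
  exact ⟨x * g, by group⟩

theorem Qof_conj {v : G} (h : B.Conj v) (x : G) : B.Qof (x * v * x⁻¹) = conjS x (B.Qof v) := by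
  obtain ⟨g, rfl⟩ := h
  rw [B.Qof_eq rfl, B.Qof_eq (g := x * g) (by group)]
  ext y; simp only [mem_conjS]; group

theorem mem_Qof_conj {v : G} (h : B.Conj v) {x a : G} : x * a * x⁻¹ ∈ B.Qof (x * v * x⁻¹) ↔ a ∈ B.Qof v := by
  rw [B.Qof_conj h, mem_conjS, show x⁻¹ * (x * a * x⁻¹) * x = a by group]

theorem data {v : G} (h : B.Conj v) : Data (B.Qof v) v := by
  obtain ⟨g, rfl⟩ := h
  rw [B.Qof_eq rfl]; exact B.D.conjugate g

theorem Conj.ne_one {v : G} (h : B.Conj v) : v ≠ 1 := (B.data h).z_ne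

theorem Conj.sq {v : G} (h : B.Conj v) : v * v = 1 := (B.data h).z_sq

theorem Qof_le {v a : G} (h : B.Conj v) (ha : a ∈ B.Qof v) : a * v = v * a := (B.data h).z_central a ha

variable [Finite G]

theorem card_ge : 32 ≤ Nat.card B.Q := by rw [B.card]; norm_num

/-- Collinearity is symmetrical. -/
theorem symm {u v : G} (hu : B.Conj u) (hv : B.Conj v) (h : u ∈ B.Qof v) (hne : u ≠ v) : v ∈ B.Qof u := by
  obtain ⟨g, rfl⟩ := hv
  obtain ⟨k, rfl⟩ := hu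
  rw [B.Qof_eq rfl, mem_conjS] at h ⊢
  have h1 : g⁻¹ * k * B.z * (g⁻¹ * k)⁻¹ ∈ B.Q := by
    rwa [show g⁻¹ * k * B.z * (g⁻¹ * k)⁻¹ = g⁻¹ * (k * B.z * k⁻¹) * g by group]
  have h2 : g⁻¹ * k * B.z * (g⁻¹ * k)⁻¹ ≠ B.z := fun e => hne (by
    calc k * B.z * k⁻¹ = g * (g⁻¹ * k * B.z * (g⁻¹ * k)⁻¹) * g⁻¹ := by group
      _ = g * B.z * g⁻¹ := by rw [e])
  have h3 := mem_conjS.mp (B.D.mem_conj h1 h2 B.card_ge)
  rwa [show (g⁻¹ * k)⁻¹ * B.z * (g⁻¹ * k) = k⁻¹ * (g * B.z * g⁻¹) * k by group] at h3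

theorem symm_z {v : G} (hv : B.Conj v) (h : v ∈ B.Q) (hne : v ≠ B.z) : B.z ∈ B.Qof v :=
  B.symm hv ⟨1, by group⟩ (B.Qof_z.symm ▸ h) hne

omit [Finite G] in
theorem p_ne_zero {v : G} (hv : B.Conj v) (h : v ∈ B.Q) (hne : v ≠ B.z) : B.p v ≠ 0 := fun e =>
  ((B.p_zero v h).mp e).elim (Conj.ne_one B hv) hne

/-- The image in V of a subgroup. -/
def pimg (K : Subgroup G) : Submodule (ZMod 2) V where
  carrier := {v | ∃ a ∈ K, a ∈ B.Q ∧ B.p a = v}
  zero_mem' := ⟨1, one_mem _, one_mem _, B.p_one⟩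
  add_mem' := by
    rintro _ _ ⟨a, ha, haQ, rfl⟩ ⟨b, hb, hbQ, rfl⟩
    exact ⟨a * b, mul_mem ha hb, mul_mem haQ hbQ, B.p_mul a haQ b hbQ⟩
  smul_mem' := by
    intro c v hv
    rcases zmod2_cases c with rfl | rfl
    · rw [zero_smul]; exact ⟨1, one_mem _, one_mem _, B.p_one⟩
    · rw [one_smul]; exact hv

omit [Finite G] in
theorem mem_pimg {K : Subgroup G} {v : V} : v ∈ B.pimg K ↔ ∃ a ∈ K, a ∈ B.Q ∧ B.p a = v := Iff.rfl

omit [Finite G] in
theorem p_mem_pimg {K : Subgroup G} (hz : B.z ∈ K) {a : G} (ha : a ∈ B.Q) :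
    B.p a ∈ B.pimg K ↔ a ∈ K := by
  refine ⟨fun ⟨b, hb, hbQ, e⟩ => ?_, fun h => ⟨a, h, ha, rfl⟩⟩
  rcases B.eq_of_p ha hbQ e.symm with rfl | rfl
  · exact hb
  · exact mul_mem hb hz

theorem card_pimg [Finite V] {K : Subgroup G} (hz : B.z ∈ K) :
    Nat.card (K ⊓ B.Q : Subgroup G) = 2 * 2 ^ finrank (ZMod 2) (B.pimg K) := by
  have hc := Module.natCard_eq_pow_finrank (K := ZMod 2) (V := B.pimg K)
  rw [Nat.card_zmod] at hc
  rw [← hc]
  let f : ↥(K ⊓ B.Q : Subgroup G) →* Multiplicative ↥(B.pimg K) :=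
    { toFun := fun a => Multiplicative.ofAdd ⟨B.p a, a, a.2.1, a.2.2, rfl⟩
      map_one' := congrArg Multiplicative.ofAdd (Subtype.ext B.p_one)
      map_mul' := fun a b => congrArg Multiplicative.ofAdd (Subtype.ext (B.p_mul a a.2.2 b b.2.2)) }
  have hsurj : Function.Surjective f := fun v => by
    obtain ⟨a, ha, haQ, e⟩ := (Multiplicative.toAdd v).2
    exact ⟨⟨a, ha, haQ⟩, Multiplicative.toAdd.injective (Subtype.ext e)⟩
  have hk : Nat.card f.ker = 2 := by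
    rw [Nat.card_eq_two_iff]
    refine ⟨1, ⟨⟨B.z, hz, B.D.z_mem⟩, congrArg Multiplicative.ofAdd (Subtype.ext B.p_z)⟩, ?_, ?_⟩
    · intro e; exact B.D.z_ne (congrArg (fun x => ((x.1 : ↥(K ⊓ B.Q : Subgroup G)) : G)) e).symm
    · refine Set.eq_univ_iff_forall.mpr fun a => ?_
      have h0 : B.p a.1.1 = 0 := congrArg Subtype.val (congrArg Multiplicative.toAdd a.2)
      rcases (B.p_zero _ a.1.2.2).mp h0 with e | e
      · exact Or.inl (Subtype.ext (Subtype.ext e))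
      · exact Or.inr (Subtype.ext (Subtype.ext e))
  rw [Subgroup.card_eq_card_quotient_mul_card_subgroup f.ker, hk,
    Nat.card_congr (QuotientGroup.quotientKerEquivOfSurjective f hsurj).toEquiv,
    Nat.card_congr (Multiplicative.toAdd (α := ↥(B.pimg K))), mul_comm]

theorem card_cent [Finite V] {s : G} (hs : s ∈ B.Q) (hs0 : B.p s ≠ 0) :
    Nat.card (Subgroup.centralizer ({s} : Set G) ⊓ B.Q : Subgroup G) = 2 ^ 8 := by
  have hz : B.z ∈ Subgroup.centralizer ({s} : Set G) :=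
    Subgroup.mem_centralizer_singleton_iff.mpr (B.D.z_central s hs).symm
  have e : B.pimg (Subgroup.centralizer ({s} : Set G)) = B.R.Q.perp (Submodule.span (ZMod 2) {B.p s}) := by
    ext v
    rw [B.R.Q.mem_perp]
    constructor
    · rintro ⟨a, ha, haQ, rfl⟩ w hw
      obtain ⟨c, rfl⟩ := Submodule.mem_span_singleton.mp hw
      rw [map_smul, LinearMap.smul_apply, (B.p_comm s hs a haQ).mp (Subgroup.mem_centralizer_singleton_iff.mp ha).symm,
        smul_zero]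
    · intro h
      obtain ⟨a, ha, rfl⟩ := B.p_surj v
      exact ⟨a, Subgroup.mem_centralizer_singleton_iff.mpr
        ((B.p_comm s hs a ha).mpr (h _ (Submodule.mem_span_singleton_self _))).symm, ha, rfl⟩
  rw [B.card_pimg hz, e]
  have h := B.R.Q.finrank_perp (Submodule.span (ZMod 2) ({B.p s} : Set V))
  have h1 : finrank (ZMod 2) (Submodule.span (ZMod 2) ({B.p s} : Set V)) = 1 := finrank_span_singleton hs0
  rw [h1, B.R.dim] at h
  rw [show finrank (ZMod 2) (B.R.Q.perp (Submodule.span (ZMod 2) ({B.p s} : Set V))) = 7 by omega]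
  norm_num

/-- The space attached to a conjugate of z in Q. -/
noncomputable def Eof (s : G) : Submodule (ZMod 2) V := B.pimg (B.Qof s)

/-- The group attached to a conjugate of z in Q. -/
noncomputable def Tof (s : G) : Subgroup H := ((B.Qof s).subgroupOf B.M).map B.phi

theorem mem_Tof {s : G} {h : H} : h ∈ B.Tof s ↔ ∃ m : B.M, (m : G) ∈ B.Qof s ∧ B.phi m = h := Iff.rfl

theorem exists_move {s : G} (hs : s ∈ B.Q) (hne : B.p s ≠ 0) : ∃ q ∈ B.Q, q * s * q⁻¹ = s * B.z :=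
  B.D.exists_conj_eq hs (fun e => hne (e ▸ B.p_one)) (fun e => hne (e ▸ B.p_z))

theorem phi_Q {q : G} (hq : q ∈ B.Q) : B.phi ⟨q, B.Q_le_M hq⟩ = 1 := (B.phi_ker _).mpr hq

theorem conj_of_p {s a : G} (hs : B.Conj s) (hsQ : s ∈ B.Q) (hne : s ≠ B.z) (ha : a ∈ B.Q) (h : B.p a = B.p s) :
    ∃ q ∈ B.Q, q * s * q⁻¹ = a := by
  rcases B.eq_of_p ha hsQ h with rfl | rfl
  · exact ⟨1, one_mem _, by group⟩
  · exact B.exists_move hsQ (B.p_ne_zero hs hsQ hne)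

/-- An element of H fixing the image of s lifts to an element centralizing s. -/
theorem lift_fix {s : G} (hs : B.Conj s) (hsQ : s ∈ B.Q) (hne : s ≠ B.z) {h : H} (hh : B.R.a h (B.p s) = B.p s) :
    ∃ m : B.M, B.phi m = h ∧ (m : G) * s * (m : G)⁻¹ = s := by
  obtain ⟨m, rfl⟩ := B.exists_lift h
  rw [← B.p_conj m s hsQ] at hh
  obtain ⟨q, hq, hqe⟩ := B.conj_of_p hs hsQ hne (B.Q_conj m.2 hsQ) hh
  refine ⟨(⟨q, B.Q_le_M hq⟩ : B.M)⁻¹ * m, by rw [map_mul, map_inv, B.phi_Q hq, inv_one, one_mul], ?_⟩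
  show q⁻¹ * (m : G) * s * (q⁻¹ * (m : G))⁻¹ = s
  calc q⁻¹ * (m : G) * s * (q⁻¹ * (m : G))⁻¹ = q⁻¹ * ((m : G) * s * (m : G)⁻¹) * q := by group
    _ = q⁻¹ * (q * s * q⁻¹) * q := by rw [hqe]
    _ = s := by group

theorem local_data [Finite V] {s : G} (hs : B.Conj s) (hsQ : s ∈ B.Q) (hne : s ≠ B.z) :
    B.R.Local (B.p s) (B.Eof s) (B.Tof s) := by
  have C : Cfg B.Q (B.Qof s) B.z s := ⟨B.D, B.data hs, hsQ, B.symm_z hs hsQ hne, hne⟩
  have hzP : B.z ∈ B.Qof s := B.symm_z hs hsQ hne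
  have hs0 := B.p_ne_zero hs hsQ hne
  refine ⟨hs0, ⟨s, (B.data hs).z_mem, hsQ, rfl⟩, ?_, ?_, ⟨?_, ?_⟩, ?_, ?_, ?_, ?_, ?_, ?_⟩
  · rintro _ ⟨a, ha, haQ, rfl⟩ _ ⟨b, hb, hbQ, rfl⟩
    exact (B.p_comm a haQ b hbQ).mp (congrArg Subtype.val
      (C.E_elementary.1.is_comm.comm ⟨a, haQ, ha⟩ ⟨b, hbQ, hb⟩))
  · rintro _ ⟨a, ha, haQ, rfl⟩
    exact (B.p_sq a haQ).mp (C.E_sq ⟨haQ, ha⟩)
  · rintro _ ⟨a, ha, rfl⟩ _ ⟨b, hb, rfl⟩
    rw [← map_mul, ← map_mul]
    have hc : ⁅(a : G), (b : G)⁆ ∈ B.Q := by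
      have ha' : (a : G) ∈ B.Qof s := ha
      have hb' : (b : G) ∈ B.Qof s := hb
      rcases (B.data hs).comm (a : G) ha' (b : G) hb' with e | e <;> rw [e]
      · exact one_mem _
      · exact hsQ
    rw [← mul_inv_eq_one, ← map_inv, ← map_mul, B.phi_ker]
    show (a : G) * (b : G) * ((b : G) * (a : G))⁻¹ ∈ B.Q
    rw [commutatorElement_def] at hc
    simpa [mul_assoc] using hc
  · rintro _ ⟨a, ha, rfl⟩
    rw [← map_mul, B.phi_ker]
    show (a : G) * (a : G) ∈ B.Q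
    have ha' : (a : G) ∈ B.Qof s := ha
    rcases (B.data hs).sq ha' with e | e <;> rw [e]
    · exact one_mem _
    · exact hsQ
  · rintro _ ⟨m, hm, rfl⟩
    have hm' : (m : G) ∈ B.Qof s := hm
    rw [← B.p_conj m s hsQ, (B.data hs).z_central (m : G) hm', mul_inv_cancel_right]
  · -- |T| |E| = 2^8
    obtain ⟨g, hg⟩ := id hs
    have hP : B.Qof s = conjS g B.Q := B.Qof_eq hg
    have hM : Nat.card ((B.Qof s).subgroupOf B.M) = 2 ^ 8 := by
      set s0 := g⁻¹ * B.z * g with hs0def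
      have hs0Q : s0 ∈ B.Q := by rw [hs0def]; exact mem_conjS.mp (hP ▸ hzP)
      have hs0ne : B.p s0 ≠ 0 := B.p_ne_zero ⟨g⁻¹, by rw [hs0def]; group⟩ hs0Q fun e => hne (by
        rw [← hg]
        calc g * B.z * g⁻¹ = g * s0 * g⁻¹ := by rw [e]
          _ = B.z := by rw [hs0def]; group)
      rw [← B.card_cent hs0Q hs0ne]
      refine Nat.card_congr
        { toFun := fun x => ⟨g⁻¹ * (x : G) * g, ?_, ?_⟩
          invFun := fun a => ⟨⟨g * (a : G) * g⁻¹, ?_⟩, ?_⟩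
          left_inv := fun x => by apply Subtype.ext; apply Subtype.ext; show g * (g⁻¹ * (x : G) * g) * g⁻¹ = _; group
          right_inv := fun a => by apply Subtype.ext; show g⁻¹ * (g * (a : G) * g⁻¹) * g = _; group }
      · refine Subgroup.mem_centralizer_singleton_iff.mpr ?_
        rw [hs0def, show g⁻¹ * (x : G) * g * (g⁻¹ * B.z * g) = g⁻¹ * ((x : G) * B.z) * g by group,
          B.mem_M.mp x.1.2]
        group
      · exact mem_conjS.mp (hP ▸ (show (x : G) ∈ B.Qof s from x.2))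
      · refine B.mem_M.mpr ?_
        have h := Subgroup.mem_centralizer_singleton_iff.mp a.2.1
        have h' : (a : G) * (g⁻¹ * B.z * g) = (g⁻¹ * B.z * g) * (a : G) := h
        calc g * (a : G) * g⁻¹ * B.z = g * ((a : G) * (g⁻¹ * B.z * g)) * g⁻¹ := by group
          _ = g * ((g⁻¹ * B.z * g) * (a : G)) * g⁻¹ := by rw [h']
          _ = _ := by group
      · show g * (a : G) * g⁻¹ ∈ B.Qof s
        rw [hP, mem_conjS, show g⁻¹ * (g * (a : G) * g⁻¹) * g = (a : G) by group]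
        exact a.2.2
    let f : ↥((B.Qof s).subgroupOf B.M) →* H := B.phi.comp ((B.Qof s).subgroupOf B.M).subtype
    have hr : Nat.card f.range = Nat.card (B.Tof s) := by
      refine Nat.card_congr (Equiv.setCongr (Set.ext fun h => ?_))
      constructor
      · rintro ⟨m, rfl⟩; exact ⟨m.1, m.2, rfl⟩
      · rintro ⟨m, hm, rfl⟩; exact ⟨⟨m, hm⟩, rfl⟩
    have hk : Nat.card f.ker = Nat.card (B.Qof s ⊓ B.Q : Subgroup G) := Nat.card_congr
      { toFun := fun m => ⟨(m.1.1 : G), m.1.2, (B.phi_ker _).mp m.2⟩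
        invFun := fun a => ⟨⟨⟨a.1, B.Q_le_M a.2.2⟩, a.2.1⟩, (B.phi_ker _).mpr a.2.2⟩
        left_inv := fun m => rfl
        right_inv := fun a => rfl }
    have h := Subgroup.card_eq_card_quotient_mul_card_subgroup f.ker
    rw [Nat.card_congr (QuotientGroup.quotientKerEquivRange f).toEquiv, hr, hk, hM, B.card_pimg hzP] at h
    show Nat.card (B.Tof s) * 2 ^ finrank (ZMod 2) (B.pimg (B.Qof s)) = 2 ^ 7
    rw [show Nat.card (B.Tof s) * (2 * 2 ^ finrank (ZMod 2) (B.pimg (B.Qof s))) =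
      2 * (Nat.card (B.Tof s) * 2 ^ finrank (ZMod 2) (B.pimg (B.Qof s))) by ring] at h
    omega
  · intro h hh
    obtain ⟨m, rfl, hm⟩ := B.lift_fix hs hsQ hne hh
    rintro _ ⟨t, ht, rfl⟩
    rw [← map_inv, ← map_mul, ← map_mul]
    refine ⟨m * t * m⁻¹, ?_, rfl⟩
    show (m : G) * (t : G) * (m : G)⁻¹ ∈ B.Qof s
    have h' := (B.mem_Qof_conj hs (x := (m : G))).mpr ht
    rwa [hm] at h'
  · intro h hh
    obtain ⟨m, rfl, hm⟩ := B.lift_fix hs hsQ hne hh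
    rintro _ ⟨a, ha, haQ, rfl⟩
    refine ⟨(m : G) * a * (m : G)⁻¹, ?_, B.Q_conj m.2 haQ, B.p_conj m a haQ⟩
    have h' := (B.mem_Qof_conj hs (x := (m : G))).mpr ha
    rwa [hm] at h'
  · rintro _ ⟨m, hm, rfl⟩ v hv
    obtain ⟨a, haQ, rfl⟩ := B.p_surj v
    have hA : a ∈ Cfg.A B.Q s := Cfg.mem_A.mpr ⟨haQ, (B.p_comm a haQ s hsQ).mpr hv⟩
    have hB : (m : G) ∈ Cfg.A (B.Qof s) B.z := Cfg.mem_A.mpr ⟨hm, B.mem_M.mp m.2⟩
    have h := C.comm_mem hA hB
    refine ⟨_, h.2, h.1, ?_⟩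
    rw [commutatorElement_def, show a * (m : G) * a⁻¹ * (m : G)⁻¹ = a * ((m : G) * a⁻¹ * (m : G)⁻¹) by group,
      B.p_mul a haQ _ (B.Q_conj m.2 (inv_mem haQ)), B.p_conj m _ (inv_mem haQ), B.p_inv haQ, add_comm]
  · rintro _ ⟨m, hm, rfl⟩ _ ⟨a, ha, haQ, rfl⟩
    rw [← B.p_conj m a haQ]
    have e : (m : G) * a * (m : G)⁻¹ = ⁅(m : G), a⁆ * a := by rw [commutatorElement_def]; group
    have hm' : (m : G) ∈ B.Qof s := hm
    rcases (B.data hs).comm (m : G) hm' a ha with h | h <;> rw [e, h]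
    · left; rw [one_mul]
    · right; rw [B.p_mul s hsQ a haQ, add_assoc, add_self0, add_zero]

theorem Eof_conj {s : G} (hs : B.Conj s) (m : B.M) :
    B.Eof ((m : G) * s * (m : G)⁻¹) = (B.Eof s).map (B.R.a (B.phi m)).toLinearMap := by
  ext v
  constructor
  · rintro ⟨a, ha, haQ, rfl⟩
    have haQ' : (m : G)⁻¹ * a * (m : G) ∈ B.Q := by
      have := B.Q_conj (inv_mem m.2) haQ
      rwa [inv_inv] at this
    refine ⟨B.p ((m : G)⁻¹ * a * (m : G)), ⟨_, ?_, haQ', rfl⟩, ?_⟩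
    · rwa [← B.mem_Qof_conj hs (x := (m : G)), show (m : G) * ((m : G)⁻¹ * a * (m : G)) * (m : G)⁻¹ = a by group]
    · show B.R.a (B.phi m) _ = B.p a
      rw [← B.p_conj m _ haQ', show (m : G) * ((m : G)⁻¹ * a * (m : G)) * (m : G)⁻¹ = a by group]
  · rintro ⟨_, ⟨a, ha, haQ, rfl⟩, rfl⟩
    exact ⟨_, (B.mem_Qof_conj hs).mpr ha, B.Q_conj m.2 haQ, B.p_conj m a haQ⟩

theorem Tof_conj {s : G} (hs : B.Conj s) (m : B.M) :
    B.Tof ((m : G) * s * (m : G)⁻¹) = (B.Tof s).map (MulAut.conj (B.phi m)).toMonoidHom := by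
  ext h
  constructor
  · rintro ⟨t, ht, rfl⟩
    refine ⟨B.phi (m⁻¹ * t * m), ⟨_, ?_, rfl⟩, ?_⟩
    · show (m : G)⁻¹ * (t : G) * (m : G) ∈ B.Qof s
      rw [← B.mem_Qof_conj hs (x := (m : G)), show (m : G) * ((m : G)⁻¹ * (t : G) * (m : G)) * (m : G)⁻¹ = t by group]
      exact ht
    · show B.phi m * B.phi (m⁻¹ * t * m) * (B.phi m)⁻¹ = B.phi t
      simp only [map_mul, map_inv]; group
  · rintro ⟨_, ⟨t, ht, rfl⟩, rfl⟩
    exact ⟨m * t * m⁻¹, (B.mem_Qof_conj hs).mpr ht, by simp⟩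

omit [Finite G] in
theorem conj_image {s : G} (hs : B.Conj s) (hsQ : s ∈ B.Q) (hne : s ≠ B.z) (m : B.M) :
    B.Conj ((m : G) * s * (m : G)⁻¹) ∧ (m : G) * s * (m : G)⁻¹ ∈ B.Q ∧ (m : G) * s * (m : G)⁻¹ ≠ B.z ∧
      B.p ((m : G) * s * (m : G)⁻¹) = B.R.a (B.phi m) (B.p s) := by
  refine ⟨Conj.conj B hs _, B.Q_conj m.2 hsQ, fun e => hne ?_, B.p_conj m s hsQ⟩
  calc s = (m : G)⁻¹ * ((m : G) * s * (m : G)⁻¹) * (m : G) := by group
    _ = (m : G)⁻¹ * (B.z * (m : G)) := by rw [e]; group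
    _ = B.z := by rw [← B.mem_M.mp m.2]; group

end Base

end Cfsg.Agent.S3A6Q9
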