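import Cfsg.Agent.Lib.S3A6Q9.TypeOne

/-
Centres: the five y-lines in the fixed space of c0 are three centres, permuted cyclically by `hl`,
and two further lines fixed by a product of `hl` and a power of y and interchanged by `ga`.
-/

set_option autoImplicit false

namespace Cfsg.Agent.S3A6Q9

open Module Equiv Equiv.Perm

namespace Rep

variable {H : Type*} [Group H] {V : Type*} [AddCommGroup V] [Module (ZMod 2) V] (R : Rep H V)

/-- The centre of c0. -/
noncomputable def cen (L : Lab) : Submodule (ZMod 2) V := R.S c0 ⊓ R.S L.ga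

/-- A vector lying in some centre. -/
def Centre (L : Lab) (v : V) : Prop := ∃ h : S6, sign h = 1 ∧ R.a (R.el h) v ∈ R.cen L

theorem Y_pow_apply (n : ℕ) (v : V) : R.a (R.y ^ n) v = (⇑R.Y)^[n] v := by
  induction n generalizing v with
  | zero => rw [pow_zero, R.a_one]; rfl
  | succ n ih => rw [pow_succ, R.a_mul, ih, Function.iterate_succ_apply]

theorem el_comm_ypow {σ : S6} (n : ℕ) : R.el σ * R.y ^ n = R.y ^ n * R.el σ :=
  (Commute.pow_right (show Commute (R.el σ) R.y from R.comm_y (R.pi_el σ)) n).eq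

theorem Y_cen {L : Lab} {v : V} (h : v ∈ R.cen L) : R.Y v ∈ R.cen L := ⟨R.Y_S h.1, R.Y_S h.2⟩

theorem ypow_cen {L : Lab} {v : V} (h : v ∈ R.cen L) (n : ℕ) : R.a (R.y ^ n) v ∈ R.cen L := by
  induction n with
  | zero => rw [pow_zero, R.a_one]; exact h
  | succ n ih => rw [pow_succ', R.a_mul]; exact R.Y_cen ih

theorem Centre.of_el {L : Lab} {σ : S6} (hσ : sign σ = 1) {v : V} (h : R.Centre L (R.a (R.el σ) v)) :
    R.Centre L v := by
  obtain ⟨h, hh, hm⟩ := h
  exact ⟨h * σ, by rw [map_mul, hh, hσ, one_mul], by rw [R.a_el_mul hh hσ]; exact hm⟩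

theorem Centre.el {L : Lab} {σ : S6} (hσ : sign σ = 1) {v : V} (h : R.Centre L v) :
    R.Centre L (R.a (R.el σ) v) := by
  have hσ' : sign σ⁻¹ = 1 := by rw [map_inv, hσ, inv_one]
  refine Centre.of_el R hσ' ?_
  rwa [← R.a_el_mul hσ' hσ, inv_mul_cancel, R.a_el_one]

theorem Centre.ypow {L : Lab} {v : V} (h : R.Centre L v) (n : ℕ) : R.Centre L (R.a (R.y ^ n) v) := by
  obtain ⟨h, hh, hm⟩ := h
  refine ⟨h, hh, ?_⟩
  rw [R.a_comm (R.el_comm_ypow n)]
  exact R.ypow_cen hm n

theorem Centre.of_ypow {L : Lab} {v : V} {n : ℕ} (h : R.Centre L (R.a (R.y ^ n) v)) : R.Centre L v := by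
  have := Centre.ypow R h (2 * n)
  rwa [← R.a_mul, ← pow_add, show 2 * n + n = 3 * n by ring, pow_mul, R.y3, one_pow, R.a_one] at this

variable (hI : R.TypeI) {L : Lab} (hL : R.Labelled L)
include hI hL

theorem ka_elts {k : S6} (hk : k ∈ (1 :: L.ka)) : sign k = 1 ∧ ∀ v ∈ R.cen L, R.a (R.el k) v = v := by
  have hg := hL.1.1
  simp only [Lab.ka, List.mem_cons, List.not_mem_nil, or_false] at hk
  rcases hk with rfl | rfl | rfl | rfl
  · exact ⟨map_one _, fun v _ => R.a_el_one v⟩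
  · exact ⟨sign_c0, fun v hv => R.mem_S.mp hv.1⟩
  · exact ⟨hg.sga, fun v hv => R.mem_S.mp hv.2⟩
  · exact ⟨by rw [map_mul, sign_c0, hg.sga, one_mul],
      fun v hv => by rw [R.a_el_mul sign_c0 hg.sga, R.mem_S.mp hv.2, R.mem_S.mp hv.1]⟩

theorem gl_S0 {v : V} (hv : v ∈ R.S c0) : R.a (R.el L.gl) v = v := hL.2.1 v hv

theorem finrank_cen [Finite V] : finrank (ZMod 2) (R.cen L) = 2 ∧
    (R.S c0).map ((R.a (R.el L.ga)).toLinearMap + LinearMap.id) = R.cen L := by
  have hg := hL.1.1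
  refine R.plane hI (R.comm_y (R.pi_el _)) (R.finrank_S_c0 hI) (fun _ => R.Y_S) ?_ ?_ hL.2.2
  · intro v hv
    rw [R.mem_S, ← R.a_el_mul sign_c0 hg.sga, ← hg.gac, R.a_el_mul hg.sga sign_c0, R.mem_S.mp hv]
  · rw [← R.el_mul hg.sga hg.sga, hg.ga2, R.el_one]

theorem ha_cen [Finite V] {v : V} (hv : v ∈ R.cen L) : R.a (R.el L.ha) v = v := by
  have hg := hL.1.1
  -- ha maps the centre to itself
  have hmap : ∀ w ∈ R.cen L, R.a (R.el L.ha) w ∈ R.cen L := by
    intro w hw
    have key : ∀ k : S6, k ∈ (1 :: L.ka) → R.a (R.el L.ha) w ∈ R.S (L.ha * k * L.ha⁻¹) := fun k hk =>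
      (R.S_conj_el hg.sha (R.ka_elts hI hL hk).1).mpr (R.mem_S.mpr ((R.ka_elts hI hL hk).2 w hw))
    -- ha cyclically permutes ka, so both generators occur as images
    set W := R.a (R.el L.ha) w
    have h1 := key c0 (by simp [Lab.ka])
    have h2 := key L.ga (by simp [Lab.ka])
    have h3 := key (c0 * L.ga) (by simp [Lab.ka])
    have hca := hg.ha_c
    have hga := hg.ha_ga
    simp only [Lab.ka, List.mem_cons, List.not_mem_nil, or_false] at hca hga
    have hs0 : sign c0 = 1 := sign_c0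
    have hprod : L.ha * (c0 * L.ga) * L.ha⁻¹ = (L.ha * c0 * L.ha⁻¹) * (L.ha * L.ga * L.ha⁻¹) := by group
    have hne : L.ha * c0 * L.ha⁻¹ ≠ L.ha * L.ga * L.ha⁻¹ := fun e => by
      have e2 : c0 = L.ga := mul_left_cancel (mul_right_cancel e)
      obtain ⟨v, hv, hne⟩ := hL.2.2
      exact hne (e2 ▸ R.mem_S.mp hv)
    have inS : ∀ k, L.ha * c0 * L.ha⁻¹ = k ∨ L.ha * L.ga * L.ha⁻¹ = k → W ∈ R.S k := by
      rintro k (rfl | rfl) <;> assumption
    have mulS : ∀ a b : S6, sign a = 1 → sign b = 1 → W ∈ R.S a → W ∈ R.S b → W ∈ R.S (a * b) :=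
      fun a b ha hb hWa hWb => R.mem_S.mpr (by rw [R.a_el_mul ha hb, R.mem_S.mp hWb, R.mem_S.mp hWa])
    have sp : sign (c0 * L.ga) = 1 := by rw [map_mul, hs0, hg.sga, one_mul]
    have hcc : c0 * c0 = 1 := basic_facts.2.1
    rcases hca with e | e | e <;> rcases hga with e' | e' | e'
    · exact absurd (e.trans e'.symm) hne
    · exact ⟨inS _ (Or.inl e), inS _ (Or.inr e')⟩
    · refine ⟨inS _ (Or.inl e), ?_⟩
      have := mulS _ _ hs0 sp (inS _ (Or.inl e)) (inS _ (Or.inr e'))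
      rwa [← mul_assoc, hcc, one_mul] at this
    · exact ⟨inS _ (Or.inr e'), inS _ (Or.inl e)⟩
    · exact absurd (e.trans e'.symm) hne
    · refine ⟨?_, inS _ (Or.inl e)⟩
      have := mulS _ _ sp hg.sga (inS _ (Or.inr e')) (inS _ (Or.inl e))
      rwa [mul_assoc, hg.ga2, mul_one] at this
    · refine ⟨inS _ (Or.inr e'), ?_⟩
      have := mulS _ _ hs0 sp (inS _ (Or.inr e')) (inS _ (Or.inl e))
      rwa [← mul_assoc, hcc, one_mul] at this
    · refine ⟨?_, inS _ (Or.inr e')⟩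
      have := mulS _ _ sp hg.sga (inS _ (Or.inl e)) (inS _ (Or.inr e'))
      rwa [mul_assoc, hg.ga2, mul_one] at this
    · exact absurd (e.trans e'.symm) hne
  -- gl centralizes the centre and inverts ha modulo ka
  have hfix : ∀ w ∈ R.cen L, R.a (R.el L.gl) w = w := fun w hw => R.gl_S0 hI hL hw.1
  have hgi : L.gl⁻¹ = L.gl := inv_eq_of_mul_eq_one_right hg.gl2
  have e := (R.ka_elts hI hL hg.ha_inv).2 v hv
  rw [hgi] at e
  rw [R.a_el_mul (by rw [map_mul, map_mul, hg.sgl, hg.sha, one_mul, one_mul]) hg.sha,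
    R.a_el_mul (by rw [map_mul, hg.sgl, hg.sha, one_mul]) hg.sgl, R.a_el_mul hg.sgl hg.sha,
    hfix _ (hmap v hv), hfix _ (hmap _ (hmap v hv))] at e
  have h3 : R.a (R.el L.ha) (R.a (R.el L.ha) (R.a (R.el L.ha) v)) = v := by
    rw [← R.a_el_mul hg.sha hg.sha, ← R.a_el_mul (by rw [map_mul, hg.sha, one_mul]) hg.sha, hg.ha3, R.a_el_one]
  rwa [e] at h3

theorem gens_cen [Finite V] {g : S6} (hg : g ∈ [c0, L.ga, L.gl, L.ha]) :
    sign g = 1 ∧ ∀ v ∈ R.cen L, R.a (R.el g) v = v := by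
  simp only [List.mem_cons, List.not_mem_nil, or_false] at hg
  rcases hg with rfl | rfl | rfl | rfl
  · exact ⟨sign_c0, fun v hv => R.mem_S.mp hv.1⟩
  · exact ⟨hL.1.1.sga, fun v hv => R.mem_S.mp hv.2⟩
  · exact ⟨hL.1.1.sgl, fun v hv => R.gl_S0 hI hL hv.1⟩
  · exact ⟨hL.1.1.sha, fun v hv => R.ha_cen hI hL hv⟩

theorem S_gl [Finite V] : R.S L.gl = R.S c0 ∧ R.S (c0 * L.gl) = R.S c0 := by
  have hg := hL.1.1
  have h0 := R.finrank_S_c0 hI
  have hs : sign (c0 * L.gl) = 1 := by rw [map_mul, sign_c0, hg.sgl, one_mul]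
  have h2 : c0 * L.gl * (c0 * L.gl) = 1 := by
    rw [mul_assoc, ← mul_assoc L.gl, hg.glc, mul_assoc c0 L.gl, hg.gl2, mul_one, basic_facts.2.1]
  refine ⟨(Submodule.eq_of_le_of_finrank_le (fun v hv => R.mem_S.mpr (R.gl_S0 hI hL hv)) ?_).symm,
    (Submodule.eq_of_le_of_finrank_le (fun v hv => R.mem_S.mpr ?_) ?_).symm⟩
  · rw [R.finrank_S hI hg.sgl hg.gl2 hg.gl1, h0]
  · rw [R.a_el_mul sign_c0 hg.sgl, R.gl_S0 hI hL hv, R.mem_S.mp hv]
  · rw [R.finrank_S hI hs h2 (fun e => ?_), h0]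
    have e' : L.gl = c0 := by
      have := congrArg (fun x => c0 * x) e
      simpa [← mul_assoc, basic_facts.2.1] using this
    -- then ga * gl would be an involution
    have h := hg.comm
    rw [e'] at h
    rw [show L.ga * c0 * (L.ga * c0) = L.ga * (c0 * L.ga) * c0 by group, ← hg.gac,
      ← mul_assoc L.ga, hg.ga2, one_mul, basic_facts.2.1] at h
    exact basic_facts.2.2.1 h.symm

theorem hl_S0 [Finite V] {v : V} (hv : v ∈ R.S c0) : R.a (R.el L.hl) v ∈ R.S c0 := by
  have h := (R.S_conj_el hL.1.1.shl sign_c0).mpr hv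
  rcases hL.1.1.hl_c with e | e <;> rw [e] at h
  · rwa [(R.S_gl hI hL).1] at h
  · rwa [(R.S_gl hI hL).2] at h

/-- The centre of c0 and its image under hl meet trivially. -/
theorem cen_disjoint [Finite V] {v : V} (hv : v ∈ R.cen L) (hv' : R.a (R.el L.hl) v ∈ R.cen L) : v = 0 := by
  obtain ⟨a, ha, b, hb, h5, h1⟩ := hL.1.1.five
  obtain ⟨sa, fa⟩ := R.gens_cen hI hL ha
  obtain ⟨sb, fb⟩ := R.gens_cen hI hL hb
  have hs := sign_conj (h := L.hl) sb
  refine (R.a (R.el L.hl)).map_eq_zero_iff.mp (R.f5_fpf hI h5 h1 ?_)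
  rw [R.a_el_mul sa hs, R.mem_S.mp ((R.S_conj_el hL.1.1.shl sb).mpr (R.mem_S.mpr (fb v hv))), fa _ hv']

theorem hl_not_trivial [Finite V] : ∃ v ∈ R.S c0, R.a (R.el L.hl) v ≠ v := by
  by_contra! h
  obtain ⟨v, hv, h0⟩ := Submodule.exists_mem_ne_zero_of_ne_bot (p := R.cen L) fun e => by
    have := (R.finrank_cen hI hL).1; rw [e, finrank_bot] at this; omega
  exact h0 (R.cen_disjoint hI hL hv ((h v hv.1).symm ▸ hv))

/-- The vectors of `S c0` outside the centres, given one of them. -/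
theorem noncentre [Finite V] {s : V} (hs : s ∈ R.S c0) (hs0 : s ≠ 0) (hnc : ¬ R.Centre L s) :
    (∀ v ∈ R.S c0, v = 0 ∨ R.Centre L v ∨
      ∃ i < 3, v = R.a (R.y ^ i) s ∨ v = R.a (R.y ^ i) (R.a (R.el L.ga) s)) ∧
    (∃ i, R.a (R.y ^ i * R.el L.hl) s = s) ∧
    Function.Injective (fun p : Fin 3 × Bool =>
      R.a (R.y ^ p.1.val) (if p.2 then R.a (R.el L.ga) s else s)) := by
  classical
  have hg := hL.1.1
  set t := R.a (R.el L.ga) s with ht
  set A := fun p : Fin 3 × Bool => R.a (R.y ^ p.1.val) (if p.2 then t else s) with hA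
  have hyfix : ∀ n : ℕ, n % 3 ≠ 0 → ∀ v, R.a (R.y ^ n) v = v → v = 0 := by
    intro n hn v hv
    rw [← Nat.mod_add_div n 3, pow_add, pow_mul, R.y3, one_pow, mul_one] at hv
    rcases (show n % 3 = 1 ∨ n % 3 = 2 by omega) with e | e <;> rw [e] at hv
    · exact R.Y_fpf hI (by rwa [pow_one] at hv)
    · refine R.Y_fpf hI ?_
      conv_lhs => rw [← hv]
      rw [← R.a_mul, show R.y * R.y ^ 2 = R.y ^ 3 from (pow_succ' R.y 2).symm, R.y3, R.a_one]
  have htS : t ∈ R.S c0 := by
    rw [R.mem_S, ht, ← R.a_el_mul sign_c0 hg.sga, ← hg.gac, R.a_el_mul hg.sga sign_c0, R.mem_S.mp hs]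
  have htnc : ¬ R.Centre L t := fun h => hnc (Centre.of_el R hg.sga h)
  have hst : ∀ n : ℕ, R.a (R.y ^ n) s ≠ t := by
    intro n hn
    have h2 : R.a (R.y ^ (n + n)) s = s := by
      rw [pow_add, R.a_mul, hn, ht, ← R.a_comm (R.el_comm_ypow n), hn, R.a_el_invol hg.sga hg.ga2]
    have h3 : n % 3 = 0 := by
      by_contra h
      exact hs0 (hyfix (n + n) (by omega) s h2)
    rw [← Nat.mod_add_div n 3, h3, zero_add, pow_mul, R.y3, one_pow, R.a_one] at hn
    exact hnc ⟨1, map_one _, by rw [R.a_el_one]; exact ⟨hs, R.mem_S.mpr hn.symm⟩⟩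
  have hinj : Function.Injective A := by
    rintro ⟨i, b⟩ ⟨j, c⟩ h
    simp only [hA] at h
    have h' := congrArg (R.a (R.y ^ (3 - j.val))) h
    rw [← R.a_mul, ← R.a_mul, ← pow_add, ← pow_add, Nat.sub_add_cancel j.isLt.le, R.y3, R.a_one] at h'
    have hij : b = c → (i, b) = (j, c) := by
      rintro rfl
      rw [Prod.mk.injEq]
      refine ⟨Fin.ext ?_, rfl⟩
      by_contra hne
      have hi := i.isLt; have hj := j.isLt
      have h0 := hyfix _ (by omega) _ h'
      cases b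
      · exact hs0 h0
      · exact hs0 ((R.a (R.el L.ga)).map_eq_zero_iff.mp h0)
    cases b <;> cases c
    · exact hij rfl
    · exact absurd h' (hst _)
    · exfalso
      simp only [if_true] at h'
      refine hst (2 * (3 - j.val + i.val)) ?_
      rw [if_neg Bool.false_ne_true] at h'
      conv_lhs => rw [← h']
      rw [← R.a_mul, ← pow_add, show 2 * (3 - j.val + i.val) + (3 - j.val + i.val) = 3 * (3 - j.val + i.val) by ring,
        pow_mul, R.y3, one_pow, R.a_one]
    · exact hij rfl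
  have hcover : ∀ v ∈ R.S c0, v = 0 ∨ R.Centre L v ∨
      ∃ i < 3, v = R.a (R.y ^ i) s ∨ v = R.a (R.y ^ i) t := by
    haveI := Fintype.ofFinite V
    let E : ℕ → Finset V := fun k =>
      (Finset.univ.filter fun v => v ∈ R.cen L ∧ v ≠ 0).image (fun v => R.a (R.el L.hl ^ k) v)
    let X : Finset V := Finset.univ.image A
    let S0 : Finset V := Finset.univ.filter fun v => v ∈ R.S c0
    have hcenc : (Finset.univ.filter fun v => v ∈ R.cen L ∧ v ≠ 0).card = 3 := by
      have h : (Finset.univ.filter fun v => v ∈ R.cen L).card = 4 := by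
        rw [← Fintype.card_subtype]
        have := Module.card_eq_pow_finrank (K := ZMod 2) (V := R.cen L)
        rw [(R.finrank_cen hI hL).1, ZMod.card] at this
        exact (Fintype.card_congr (Equiv.subtypeEquivRight fun _ => Iff.rfl)).trans this
      have e : (Finset.univ.filter fun v => v ∈ R.cen L ∧ v ≠ 0) =
          (Finset.univ.filter fun v => v ∈ R.cen L).erase 0 := by ext v; simp [and_comm]
      rw [e, Finset.card_erase_of_mem (by simp), h]
    have hE : ∀ k, (E k).card = 3 := fun k => by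
      rw [Finset.card_image_of_injective _ (R.a (R.el L.hl ^ k)).injective, hcenc]
    have hpow : ∀ k, ∀ v ∈ R.S c0, R.a (R.el L.hl ^ k) v ∈ R.S c0 := by
      intro k
      induction k with
      | zero => intro v hv; rwa [pow_zero, R.a_one]
      | succ k ih => intro v hv; rw [pow_succ', R.a_mul]; exact R.hl_S0 hI hL (ih v hv)
    have h3 : R.el L.hl ^ 3 = 1 := by
      rw [pow_succ, pow_two, ← R.el_mul hg.shl hg.shl, ← R.el_mul (by rw [map_mul, hg.shl, one_mul]) hg.shl,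
        hg.hl3, R.el_one]
    have hmem : ∀ k v, v ∈ E k ↔ ∃ w, (w ∈ R.cen L ∧ w ≠ 0) ∧ R.a (R.el L.hl ^ k) w = v := fun k v => by
      simp [E]
    have d01 : Disjoint (E 0) (E 1) := by
      rw [Finset.disjoint_left]
      intro v h0 h1
      obtain ⟨a, ⟨ha, -⟩, rfl⟩ := (hmem _ _).mp h0
      obtain ⟨b, ⟨hb, hb0⟩, e⟩ := (hmem _ _).mp h1
      rw [pow_zero, R.a_one, pow_one] at e
      exact hb0 (R.cen_disjoint hI hL hb (e ▸ ha))
    have d12 : Disjoint (E 1) (E 2) := by
      rw [Finset.disjoint_left]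
      intro v h0 h1
      obtain ⟨a, ⟨ha, -⟩, rfl⟩ := (hmem _ _).mp h0
      obtain ⟨b, ⟨hb, hb0⟩, e⟩ := (hmem _ _).mp h1
      rw [pow_two, R.a_mul, pow_one] at e
      exact hb0 (R.cen_disjoint hI hL hb ((R.a (R.el L.hl)).injective e ▸ ha))
    have d02 : Disjoint (E 0) (E 2) := by
      rw [Finset.disjoint_left]
      intro v h0 h1
      obtain ⟨a, ⟨ha, ha0⟩, rfl⟩ := (hmem _ _).mp h0
      obtain ⟨b, ⟨hb, hb0⟩, e⟩ := (hmem _ _).mp h1
      rw [pow_zero, R.a_one] at e
      refine ha0 (R.cen_disjoint hI hL ha ?_)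
      rw [← e, ← R.a_mul, ← pow_succ', h3, R.a_one]
      exact hb
    have hEC : ∀ k v, v ∈ E k → R.Centre L v := by
      intro k v hv
      obtain ⟨w, ⟨hw, -⟩, rfl⟩ := (hmem _ _).mp hv
      clear hv
      have hwC : R.Centre L w := ⟨1, map_one _, by rwa [R.a_el_one]⟩
      induction k with
      | zero => rwa [pow_zero, R.a_one]
      | succ k ih => rw [pow_succ', R.a_mul]; exact Centre.el R hg.shl ih
    have hXC : ∀ v ∈ X, ¬ R.Centre L v := by
      intro v hv hC
      obtain ⟨⟨i, b⟩, -, rfl⟩ := Finset.mem_image.mp hv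
      have := Centre.of_ypow R hC
      cases b
      · exact hnc this
      · exact htnc this
    set U := insert 0 ((E 0 ∪ E 1 ∪ E 2) ∪ X) with hU
    have hsub : U ⊆ S0 := by
      intro v hv
      simp only [S0, Finset.mem_filter, Finset.mem_univ, true_and]
      simp only [hU, Finset.mem_insert, Finset.mem_union] at hv
      have hk : ∀ k, v ∈ E k → v ∈ R.S c0 := fun k h => by
        obtain ⟨w, ⟨hw, -⟩, rfl⟩ := (hmem _ _).mp h
        exact hpow k w hw.1
      rcases hv with rfl | ((h | h) | h) | h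
      · exact zero_mem _
      · exact hk 0 h
      · exact hk 1 h
      · exact hk 2 h
      · obtain ⟨⟨i, b⟩, -, rfl⟩ := Finset.mem_image.mp h
        have hyS : ∀ (n : ℕ) (u : V), u ∈ R.S c0 → R.a (R.y ^ n) u ∈ R.S c0 := fun n u hu => by
          rw [R.mem_S, R.a_comm (R.el_comm_ypow n), R.mem_S.mp hu]
        cases b
        · exact hyS _ _ hs
        · exact hyS _ _ htS
    have h0U : (0 : V) ∉ (E 0 ∪ E 1 ∪ E 2) ∪ X := by
      simp only [Finset.mem_union]
      have hk : ∀ k, (0 : V) ∉ E k := fun k h => by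
        obtain ⟨w, ⟨-, hw⟩, e⟩ := (hmem _ _).mp h
        exact hw ((R.a (R.el L.hl ^ k)).map_eq_zero_iff.mp e)
      rintro (((h | h) | h) | h)
      · exact hk 0 h
      · exact hk 1 h
      · exact hk 2 h
      · exact hXC 0 h ⟨1, map_one _, by rw [R.a_el_one]; exact zero_mem _⟩
    have hdis : Disjoint (E 0 ∪ E 1 ∪ E 2) X := by
      rw [Finset.disjoint_left]
      intro v hv hX
      simp only [Finset.mem_union] at hv
      rcases hv with (h | h) | h <;> exact hXC v hX (hEC _ v h)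
    have hcU : U.card = 16 := by
      rw [hU, Finset.card_insert_of_notMem h0U, Finset.card_union_of_disjoint hdis,
        Finset.card_union_of_disjoint (Finset.disjoint_union_left.mpr ⟨d02, d12⟩),
        Finset.card_union_of_disjoint d01, hE, hE, hE, Finset.card_image_of_injective _ hinj]
      simp
    have hcS : S0.card = 16 := by
      rw [← Fintype.card_subtype]
      have := Module.card_eq_pow_finrank (K := ZMod 2) (V := R.S c0)
      rw [R.finrank_S_c0 hI, ZMod.card] at this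
      exact (Fintype.card_congr (Equiv.subtypeEquivRight fun _ => Iff.rfl)).trans this
    intro v hv
    have : v ∈ U := (Finset.eq_of_subset_of_card_le hsub (by omega)).symm ▸ (by simpa [S0] using hv)
    simp only [hU, Finset.mem_insert, Finset.mem_union] at this
    rcases this with rfl | ((h | h) | h) | h
    · exact Or.inl rfl
    · exact Or.inr (Or.inl (hEC _ v h))
    · exact Or.inr (Or.inl (hEC _ v h))
    · exact Or.inr (Or.inl (hEC _ v h))
    · obtain ⟨⟨i, b⟩, -, rfl⟩ := Finset.mem_image.mp h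
      refine Or.inr (Or.inr ⟨i.val, i.isLt, ?_⟩)
      cases b
      · exact Or.inl rfl
      · exact Or.inr rfl
  refine ⟨hcover, ?_, hinj⟩
  set g := R.a (R.el L.hl)
  have hnc1 : ¬ R.Centre L (g s) := fun h => hnc (Centre.of_el R hg.shl h)
  rcases hcover (g s) (R.hl_S0 hI hL hs) with h | h | ⟨i, hi, h | h⟩
  · exact absurd (g.map_eq_zero_iff.mp h) hs0
  · exact absurd h hnc1
  · refine ⟨3 - i, ?_⟩
    rw [R.a_mul, show R.a (R.el L.hl) s = R.a (R.y ^ i) s from h, ← R.a_mul, ← pow_add,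
      Nat.sub_add_cancel hi.le, R.y3, R.a_one]
  -- hl cannot move the line of s to the line of t
  exfalso
  have hgy : ∀ n v, g (R.a (R.y ^ n) v) = R.a (R.y ^ n) (g v) := fun n v => R.a_comm (R.el_comm_ypow n) v
  have hnc2 : ¬ R.Centre L (g t) := fun h => htnc (Centre.of_el R hg.shl h)
  rcases hcover (g t) (R.hl_S0 hI hL htS) with h' | h' | ⟨j, hj, h' | h'⟩
  · exact absurd (g.map_eq_zero_iff.mp h') fun e => hs0 ((R.a (R.el L.ga)).map_eq_zero_iff.mp e)
  · exact absurd h' hnc2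
  · -- g³ s would lie in the line of t
    have h3 : g (g (g s)) = s := by
      show R.a (R.el L.hl) (R.a (R.el L.hl) (R.a (R.el L.hl) s)) = s
      rw [← R.a_el_mul hg.shl hg.shl, ← R.a_el_mul (by rw [map_mul, hg.shl, one_mul]) hg.shl, hg.hl3, R.a_el_one]
    rw [h, hgy, h', hgy, hgy, h, ← R.a_mul, ← R.a_mul, ← pow_add, ← pow_add] at h3
    refine hst (2 * (i + j + i)) ?_
    conv_lhs => rw [← h3]
    rw [← R.a_mul, ← pow_add, show 2 * (i + j + i) + (i + j + i) = 3 * (i + j + i) by ring,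
      pow_mul, R.y3, one_pow, R.a_one]
  · -- g would then map two lines to one
    refine hst (2 * i + j + 3 - j + j) ?_
    apply g.injective
    rw [hgy, h, h', ← R.a_mul, ← pow_add]
    have : (2 * i + j + 3 - j + j + i) = 3 * (i + 1) + j := by omega
    rw [this, pow_add, pow_mul, R.y3, one_pow, one_mul]

end Rep

end Cfsg.Agent.S3A6Q9
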