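import Mathlib

/-
Finite facts about the symmetric groups of degree 3 and 6 used for the centralizer problem
2^(1+8).(S3 × A6).  The involution `c0 = (01)(23)` of A6 lies in two four-groups; `Lab` records
one of the two ways to label them.
-/

set_option autoImplicit false

namespace Cfsg.Agent.S3A6Q9

open Equiv Equiv.Perm

abbrev S3 := Perm (Fin 3)
abbrev S6 := Perm (Fin 6)

/-- `(01)(23)`. -/
def c0 : S6 := swap 0 1 * swap 2 3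
/-- `(02)(13)`. -/
def g1 : S6 := swap 0 2 * swap 1 3
/-- `(01)(45)`. -/
def g2 : S6 := swap 0 1 * swap 4 5
/-- `(012)`. -/
def h1 : S6 := swap 0 1 * swap 1 2
/-- `(024)(135)`. -/
def h2 : S6 := swap 0 2 * swap 2 4 * (swap 1 3 * swap 3 5)
/-- `(03)(15)`. -/
def c4 : S6 := swap 0 3 * swap 1 5
/-- an element of order 5. -/
def f5 : S6 := c0 * c4
/-- the transposition `(45)`. -/
def o1 : S6 := swap 4 5
/-- `(01)(23)(45)`. -/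
def o3 : S6 := swap 0 1 * swap 2 3 * swap 4 5
/-- the intermediate steps from `c0` to `c4` in the commuting graph. -/
def p1 : S6 := swap 2 3 * swap 4 5
def p2 : S6 := swap 2 4 * swap 3 5
def p3 : S6 := swap 0 1 * swap 3 5

/-- A labelling of the two four-groups through `c0`: `⟨c0, ga⟩` is normalized by `ha`,
`⟨c0, gl⟩` by `hl`. -/
structure Lab where
  ga : S6
  ha : S6
  gl : S6
  hl : S6

/-- the four-group ⟨c0, ga⟩ without 1 -/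
def Lab.ka (L : Lab) : List S6 := [c0, L.ga, c0 * L.ga]

/-- the facts needed about a labelling -/
structure Lab.Good (L : Lab) : Prop where
  sga : sign L.ga = 1
  sha : sign L.ha = 1
  sgl : sign L.gl = 1
  shl : sign L.hl = 1
  ga2 : L.ga * L.ga = 1
  gl2 : L.gl * L.gl = 1
  ga1 : L.ga ≠ 1
  gl1 : L.gl ≠ 1
  gac : L.ga * c0 = c0 * L.ga
  glc : L.gl * c0 = c0 * L.gl
  comm : (L.ga * L.gl) * (L.ga * L.gl) = c0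
  ha3 : L.ha * L.ha * L.ha = 1
  hl3 : L.hl * L.hl * L.hl = 1
  ha_c : L.ha * c0 * L.ha⁻¹ ∈ L.ka
  ha_ga : L.ha * L.ga * L.ha⁻¹ ∈ L.ka
  ha_cyc : (L.ha * c0 * L.ha⁻¹ = L.ga ∧ L.ha * L.ga * L.ha⁻¹ = c0 * L.ga) ∨
    (L.ha * c0 * L.ha⁻¹ = c0 * L.ga ∧ L.ha * L.ga * L.ha⁻¹ = c0)
  ha_inv : L.gl * L.ha * L.gl⁻¹ * L.ha ∈ (1 :: L.ka)
  hl_c : L.hl * c0 * L.hl⁻¹ = L.gl ∨ L.hl * c0 * L.hl⁻¹ = c0 * L.gl
  five : ∃ a ∈ [c0, L.ga, L.gl, L.ha], ∃ b ∈ [c0, L.ga, L.gl, L.ha],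
      (a * (L.hl * b * L.hl⁻¹)) ^ 5 = 1 ∧ a * (L.hl * b * L.hl⁻¹) ≠ 1
  fix_ka : ∀ x : S6, sign x = 1 → x * x = 1 → x ≠ 1 →
      (∀ g ∈ [L.ga, L.gl, L.ha, L.ha * L.gl], x * (g * x * g⁻¹) = g * x * g⁻¹ * x) → x ∈ L.ka
  common : ∀ h : S6, sign h = 1 → ∃ p : S6, sign p = -1 ∧ p * c0 * p⁻¹ ∈ L.ka ∧ p * L.ga * p⁻¹ ∈ L.ka ∧
      (h⁻¹ * p * h) * c0 * (h⁻¹ * p * h)⁻¹ ∈ L.ka ∧ (h⁻¹ * p * h) * L.ga * (h⁻¹ * p * h)⁻¹ ∈ L.ka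

/-- generators-in-words of the normalizer of ⟨c0, ga⟩ in A6 -/
def Lab.normList (L : Lab) : List S6 :=
  [1, c0, L.ga, c0 * L.ga].flatMap fun k => [k, k * L.gl].flatMap fun m => [m, m * L.ha, m * L.ha * L.ha]

/-- the first labelling -/
def lab1 : Lab := ⟨g1, h1, g2, h2⟩
/-- the second labelling -/
def lab2 : Lab := ⟨g2, h2, g1, h1⟩

theorem exists_conj_c0 : ∀ x : S6, sign x = 1 → x * x = 1 → x ≠ 1 →
    ∃ h : S6, sign h = 1 ∧ h * c0 * h⁻¹ = x := by decide +kernel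

theorem exists_conj_odd : ∀ x : S6, sign x = -1 → x * x = 1 →
    ∃ h : S6, sign h = 1 ∧ (h * o1 * h⁻¹ = x ∨ h * o3 * h⁻¹ = x) := by decide +kernel

theorem odd_centralizes : g1 * o1 = o1 * g1 ∧ g2 * o1 = o1 * g2 ∧ g1 * o3 = o3 * g1 ∧ g2 * o3 = o3 * g2 ∧
    sign o1 = -1 ∧ sign o3 = -1 := by decide +kernel

theorem path_facts : sign p1 = 1 ∧ sign p2 = 1 ∧ sign p3 = 1 ∧ sign c4 = 1 ∧ p1 * p1 = 1 ∧ p2 * p2 = 1 ∧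
    p3 * p3 = 1 ∧ c4 * c4 = 1 ∧ p1 ≠ 1 ∧ p2 ≠ 1 ∧ p3 ≠ 1 ∧ c4 ≠ 1 ∧
    c0 * p1 = p1 * c0 ∧ p1 * p2 = p2 * p1 ∧ p2 * p3 = p3 * p2 ∧ p3 * c4 = c4 * p3 := by decide +kernel

theorem basic_facts : sign c0 = 1 ∧ c0 * c0 = 1 ∧ c0 ≠ 1 ∧ f5 ^ 5 = 1 ∧ f5 ≠ 1 ∧ sign f5 = 1 ∧
    sign g1 = 1 ∧ sign g2 = 1 ∧ g1 * c0 = c0 * g1 ∧ g2 * c0 = c0 * g2 ∧ g1 * g1 = 1 ∧ g2 * g2 = 1 ∧
    (g1 * g2) * (g1 * g2) = c0 := by decide +kernel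

theorem centralizer_c0 : ∀ x : S6, sign x = 1 → x * c0 = c0 * x →
    x ∈ [1, c0, g1, c0 * g1, g2, c0 * g2, g1 * g2, g2 * g1] := by decide +kernel

theorem exists_conj_f5 : ∀ g : S6, g ^ 5 = 1 → g ≠ 1 →
    ∃ h : S6, sign h = 1 ∧ (h * f5 * h⁻¹ = g ∨ h * f5 * h⁻¹ = g * g) := by decide +kernel

theorem labs_ga : (lab1.ga = g1 ∧ lab1.gl = g2) ∧ (lab2.ga = g2 ∧ lab2.gl = g1) := ⟨⟨rfl, rfl⟩, rfl, rfl⟩

theorem lab1_norm : ∀ n : S6, sign n = 1 → n * c0 * n⁻¹ ∈ lab1.ka → n * lab1.ga * n⁻¹ ∈ lab1.ka →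
    n ∈ lab1.normList := by decide +kernel

theorem lab2_norm : ∀ n : S6, sign n = 1 → n * c0 * n⁻¹ ∈ lab2.ka → n * lab2.ga * n⁻¹ ∈ lab2.ka →
    n ∈ lab2.normList := by decide +kernel

theorem centre_A6 : ∀ p : S6, p * h1 = h1 * p → p * f5 = f5 * p → p = 1 := by decide +kernel

theorem sqrt_c0 : ∀ a : S6, a * a = c0 →
    a ∈ [g1 * g2, g2 * g1, g1 * g2 * o1, g2 * g1 * o1] := by decide +kernel

theorem sqrt_c0_comm : ∀ a ∈ [g1 * g2, g2 * g1, g1 * g2 * o1, g2 * g1 * o1],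
    ∀ b ∈ [g1 * g2, g2 * g1, g1 * g2 * o1, g2 * g1 * o1], a * b = b * a := by decide +kernel

theorem lab1_good : lab1.Good := by
  refine ⟨?_, ?_, ?_, ?_, ?_, ?_, ?_, ?_, ?_, ?_, ?_, ?_, ?_, ?_, ?_, ?_, ?_, ?_, ?_, ?_, ?_⟩ <;>
    decide +kernel

theorem lab2_good : lab2.Good := by
  refine ⟨?_, ?_, ?_, ?_, ?_, ?_, ?_, ?_, ?_, ?_, ?_, ?_, ?_, ?_, ?_, ?_, ?_, ?_, ?_, ?_, ?_⟩ <;>
    decide +kernel

end Cfsg.Agent.S3A6Q9
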