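import Cfsg.Agent.Lib.S3A6Q9.Tensor

/-
Consequences of a tensor frame: the centres, the space attached to a centre vector, and the
possible involutions fixing two such configurations.
-/

set_option autoImplicit false

namespace Cfsg.Agent.S3A6Q9

open Module Equiv Equiv.Perm

namespace Rep

variable {H : Type*} [Group H] {V : Type*} [AddCommGroup V] [Module (ZMod 2) V] {R : Rep H V}
variable {sb : V} {E : Submodule (ZMod 2) V} {T : Subgroup H}

theorem Local.map (D : R.Local sb E T) (g : H) :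
    R.Local (R.a g sb) (E.map (R.a g).toLinearMap) (T.map (MulAut.conj g).toMonoidHom) := by
  have hcan : ∀ v, R.a g⁻¹ (R.a g v) = v := fun v => by rw [← R.a_mul, inv_mul_cancel, R.a_one]
  have hfix : ∀ h, R.a h (R.a g sb) = R.a g sb → R.a (g⁻¹ * h * g) sb = sb := fun h hh => by
    rw [R.a_mul, R.a_mul, hh, hcan]
  refine ⟨fun h => D.ne ((R.a g).map_eq_zero_iff.mp h), ⟨sb, D.mem, rfl⟩, ?_, ?_, ⟨?_, ?_⟩, ?_, ?_, ?_, ?_, ?_, ?_⟩
  · rintro _ ⟨u, hu, rfl⟩ _ ⟨v, hv, rfl⟩
    exact (R.B_a g u v).trans (D.iso u hu v hv)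
  · rintro _ ⟨u, hu, rfl⟩
    exact (R.iso g u).trans (D.sing u hu)
  · rintro _ ⟨a, ha, rfl⟩ _ ⟨b, hb, rfl⟩
    rw [← map_mul, ← map_mul, D.elem.1 a ha b hb]
  · rintro _ ⟨a, ha, rfl⟩
    rw [← map_mul, D.elem.2 a ha, map_one]
  · rintro _ ⟨t, ht, rfl⟩
    show R.a (g * t * g⁻¹) (R.a g sb) = R.a g sb
    rw [← R.a_mul, inv_mul_cancel_right, R.a_mul, D.fixT t ht]
  · rw [LinearEquiv.finrank_map_eq, Nat.card_congr (Subgroup.equivMapOfInjective T (MulAut.conj g).toMonoidHom
      (MulAut.conj g).injective).toEquiv.symm]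
    exact D.card
  · rintro h hh _ ⟨t, ht, rfl⟩
    exact ⟨g⁻¹ * h * g * t * (g⁻¹ * h * g)⁻¹, D.normT _ (hfix h hh) t ht, by
      show g * (g⁻¹ * h * g * t * (g⁻¹ * h * g)⁻¹) * g⁻¹ = h * (g * t * g⁻¹) * h⁻¹
      group⟩
  · rintro h hh _ ⟨v, hv, rfl⟩
    refine ⟨R.a (g⁻¹ * h * g) v, D.normE _ (hfix h hh) v hv, ?_⟩
    show R.a g (R.a (g⁻¹ * h * g) v) = R.a h (R.a g v)
    rw [← R.a_mul, ← R.a_mul]; congr 1; group
  · rintro _ ⟨t, ht, rfl⟩ v hv
    have h0 : R.Q.B (R.a g⁻¹ v) sb = 0 := by rw [← R.B_a g, R.a_inv_cancel]; exact hv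
    refine ⟨_, D.move t ht _ h0, ?_⟩
    show R.a g (R.a t (R.a g⁻¹ v) + R.a g⁻¹ v) = R.a (g * t * g⁻¹) v + v
    rw [map_add, R.a_inv_cancel, R.a_mul, R.a_mul]
  · rintro _ ⟨t, ht, rfl⟩ _ ⟨v, hv, rfl⟩
    show R.a (g * t * g⁻¹) (R.a g v) = R.a g v ∨ R.a (g * t * g⁻¹) (R.a g v) + R.a g v = R.a g sb
    rw [← R.a_mul, inv_mul_cancel_right, R.a_mul, ← map_add]
    rcases D.small t ht v hv with e | e
    · exact Or.inl (by rw [e])
    · exact Or.inr (by rw [e])

variable {L : Lab} {a0 : V} {S : Submodule (ZMod 2) V}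
variable (hI : R.TypeI) (hL : R.Labelled L) (F : R.Frame L a0 S)
include hI hL F

theorem Frame.decomp [Finite V] (v : V) : ∃ x ∈ S, ∃ x' ∈ S, v = x + R.Y x' := by
  have hdis : Disjoint S (S.map R.Y.toLinearMap) := by
    rw [Submodule.disjoint_def]
    rintro _ h ⟨x, hx, rfl⟩
    show R.Y x = 0
    rw [F.disj x hx h, map_zero]
  have h := Submodule.finrank_sup_add_finrank_inf_eq S (S.map R.Y.toLinearMap)
  rw [LinearEquiv.finrank_map_eq, F.dim, hdis.eq_bot, finrank_bot] at h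
  have htop : S ⊔ S.map R.Y.toLinearMap = ⊤ := Submodule.eq_top_of_finrank_eq (by rw [R.dim]; omega)
  obtain ⟨x, hx, _, ⟨x', hx', rfl⟩, e⟩ := Submodule.mem_sup.mp (htop ▸ Submodule.mem_top (x := v))
  exact ⟨x, hx, x', hx', e.symm⟩

theorem Frame.unique [Finite V] {x x' z z' : V} (hx : x ∈ S) (hx' : x' ∈ S) (hz : z ∈ S) (hz' : z' ∈ S)
    (e : x + R.Y x' = z + R.Y z') : x = z ∧ x' = z' := by
  have h : x + z = R.Y (x' + z') := eq_of_add0 (by
    rw [map_add, show x + z + (R.Y x' + R.Y z') = (x + R.Y x') + (z + R.Y z') by abel, e, add_self0])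
  have h0 := F.disj _ (add_mem hx' hz') (h ▸ add_mem hx hz)
  rw [h0, map_zero] at h
  exact ⟨eq_of_add0 h, eq_of_add0 h0⟩

theorem YY (v : V) : R.Y (R.Y v) = v + R.Y v :=
  (eq_of_add0 (R.sum_mem_U (R.U_top hI ▸ Submodule.mem_top))).symm

theorem Frame.bs_symm [Finite V] {a c : V} (ha : a ∈ S) (hc : c ∈ S) : R.bs a c = R.bs c a := by
  show R.Q.B a (R.Y c) = R.Q.B c (R.Y a)
  have h : R.Q.B c (R.Y a) = R.Q.B (R.Y (R.Y c)) a := by
    conv_lhs => rw [← R.Y3 c]
    exact R.B_a R.y _ _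
  rw [h, YY hI hL F, map_add, LinearMap.add_apply, F.iso c hc a ha, zero_add, R.Q.comm]

theorem Frame.bs_self [Finite V] {a : V} (ha : a ∈ S) : R.bs a a = 0 := by
  show R.Q.B a (R.Y a) = 0
  have h := R.Q.polar a (R.Y a)
  rw [← YY hI hL F a, R.iso, R.iso, F.sing a ha, zero_add, zero_add] at h
  exact h.symm

theorem Frame.bs_nondeg [Finite V] {a : V} (ha : a ∈ S) (h : ∀ c ∈ S, R.bs a c = 0) : a = 0 :=
  R.Q.nondeg a fun w => by
    obtain ⟨x, hx, x', hx', rfl⟩ := Frame.decomp hI hL F w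
    rw [map_add, F.iso a ha x hx, zero_add]; exact h x' hx'

/-- The hyperplane orthogonal to a vector of S. -/
theorem Frame.finrank_hyp [Finite V] {a : V} (ha : a ∈ S) (ha0 : a ≠ 0) :
    finrank (ZMod 2) ↥(S ⊓ R.Q.perp (Submodule.span (ZMod 2) {R.Y a})) = 3 := by
  set W := R.Q.perp (Submodule.span (ZMod 2) ({R.Y a} : Set V))
  have h7 : finrank (ZMod 2) W = 7 := by
    have h := R.Q.finrank_perp (Submodule.span (ZMod 2) ({R.Y a} : Set V))
    have h1 : finrank (ZMod 2) (Submodule.span (ZMod 2) ({R.Y a} : Set V)) = 1 :=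
      finrank_span_singleton fun e => ha0 (R.Y.map_eq_zero_iff.mp e)
    have h8 := R.dim
    simp only [W]; omega
  have hne : ¬ S ≤ W := by
    intro hle
    refine ha0 (Frame.bs_nondeg hI hL F ha fun c hc => ?_)
    rw [Frame.bs_symm hI hL F ha hc]
    show R.Q.B c (R.Y a) = 0
    rw [R.Q.comm]
    exact R.Q.mem_perp.mp (hle hc) _ (Submodule.mem_span_singleton_self _)
  have h := Submodule.finrank_sup_add_finrank_inf_eq S W
  have hlt := Submodule.finrank_lt_finrank_of_lt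
    (lt_of_le_of_ne (le_sup_right : W ≤ S ⊔ W) fun e => hne (e ▸ le_sup_left))
  have hle := (S ⊔ W).finrank_le
  rw [R.dim] at hle
  rw [F.dim] at h
  omega

theorem Frame.mem_hyp {a w : V} :
    w ∈ S ⊓ R.Q.perp (Submodule.span (ZMod 2) {R.Y a}) ↔ w ∈ S ∧ R.bs w a = 0 := by
  rw [Submodule.mem_inf, R.Q.mem_perp]
  refine and_congr Iff.rfl ⟨fun h => ?_, fun h v hv => ?_⟩
  · show R.Q.B w (R.Y a) = 0
    rw [R.Q.comm]; exact h _ (Submodule.mem_span_singleton_self _)
  · obtain ⟨c, rfl⟩ := Submodule.mem_span_singleton.mp hv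
    rw [map_smul, LinearMap.smul_apply, R.Q.comm]
    show c • R.bs w a = 0
    rw [h, smul_zero]

theorem Frame.centre_iff [Finite V] {v : V} (hv0 : v ≠ 0) :
    R.Centre L v ↔ ∃ x ∈ S, ∃ i < 3, v = R.a (R.y ^ i) x := by
  constructor
  · rintro ⟨h, hh, hm⟩
    obtain ⟨i, hi, e⟩ := R.cen_line hI hL F.cen F.ne hm fun e => hv0 ((R.a (R.el h)).map_eq_zero_iff.mp e)
    have hh' : sign h⁻¹ = 1 := by rw [map_inv, hh, inv_one]
    refine ⟨R.a (R.el h⁻¹) a0, F.inv _ hh' _ F.mem, i, hi, ?_⟩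
    rw [← R.a_comm (R.el_comm_ypow i), ← e, ← R.a_el_mul hh' hh, inv_mul_cancel, R.a_el_one]
  · rintro ⟨x, hx, i, -, rfl⟩
    refine Centre.ypow R ?_ i
    obtain ⟨σ, hσ, e⟩ := F.trans x hx fun e => hv0 (by rw [e, map_zero])
    rw [← e]
    exact Centre.el R hσ ⟨1, map_one _, by rw [R.a_el_one]; exact F.cen⟩

/-- The space attached to a vector of S. -/
theorem Frame.space [Finite H] [Finite V] {x : V} (hx : x ∈ S) (D : R.Local x E T) {v : V} :
    v ∈ E ↔ ∃ w ∈ S, R.bs w x = 0 ∧ (v = w ∨ v = w + R.Y x) := by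
  obtain ⟨σ, hσ, hσa⟩ := F.trans x hx D.ne
  have hσ' : sign σ⁻¹ = 1 := by rw [map_inv, hσ, inv_one]
  have hback : ∀ u, R.a (R.el σ⁻¹) (R.a (R.el σ) u) = u := fun u => by
    rw [← R.a_el_mul hσ' hσ, inv_mul_cancel, R.a_el_one]
  have hfwd : ∀ u, R.a (R.el σ) (R.a (R.el σ⁻¹) u) = u := fun u => by
    rw [← R.a_el_mul hσ hσ', mul_inv_cancel, R.a_el_one]
  have D0 := D.map (R.el σ⁻¹)
  rw [← hσa, hback] at D0
  obtain ⟨hd4, hcen, -, hc0T, hgaT⟩ := D0.at_centre hI hL F.cen
  set E0 := E.map (R.a (R.el σ⁻¹)).toLinearMap with hE0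
  set W := S ⊓ R.Q.perp (Submodule.span (ZMod 2) {R.Y a0}) with hW
  -- the hyperplane of S is spanned by the commutators
  have hmov : ∀ k : S6, R.el k ∈ T.map (MulAut.conj (R.el σ⁻¹)).toMonoidHom → ∀ w ∈ S, R.a (R.el k) w + w ∈ E0 :=
    fun k hk w hw => D0.move _ hk w (F.iso w hw a0 F.mem)
  let f1 := (R.a (R.el c0)).toLinearMap + LinearMap.id
  let f2 := (R.a (R.el L.ga)).toLinearMap + LinearMap.id
  have hgs := hL.1.1.sga
  have hle : S.map f1 ⊔ S.map f2 ≤ W := by
    refine sup_le ?_ ?_ <;> rintro _ ⟨w, hw, rfl⟩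
    all_goals
      refine (Frame.mem_hyp hI hL F).mpr ⟨add_mem (F.inv _ (by first | exact sign_c0 | exact hgs) w hw) hw, ?_⟩
    · show R.Q.B (R.a (R.el c0) w + w) (R.Y a0) = 0
      rw [map_add, LinearMap.add_apply]
      conv_lhs => enter [1]; rw [← R.mem_S.mp F.cen.1, R.Y_el, R.B_a]
      exact zmod2_add_self _
    · show R.Q.B (R.a (R.el L.ga) w + w) (R.Y a0) = 0
      rw [map_add, LinearMap.add_apply]
      conv_lhs => enter [1]; rw [← R.mem_S.mp F.cen.2, R.Y_el, R.B_a]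
      exact zmod2_add_self _
  have heq : S.map f1 ⊔ S.map f2 = W := by
    refine le_antisymm hle ?_
    -- both sides have the same orthogonal space inside Y S
    by_contra hnot
    set M := S.map f1 ⊔ S.map f2
    have hMS : M ≤ S := hle.trans inf_le_left
    have hlt : finrank (ZMod 2) M < finrank (ZMod 2) W :=
      Submodule.finrank_lt_finrank_of_lt (lt_of_le_of_ne hle fun e => hnot e.ge)
    rw [hW, Frame.finrank_hyp hI hL F F.mem F.ne] at hlt
    set P := R.Q.perp M with hP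
    have hP6 : 6 ≤ finrank (ZMod 2) P := by
      have h := R.Q.finrank_perp M; rw [R.dim] at h; rw [hP]; omega
    -- vectors of S fixed by c0 and ga
    have hfix : P ⊓ S.map R.Y.toLinearMap ≤ Submodule.span (ZMod 2) {R.Y a0} := by
      rintro _ ⟨hp, w, hw, rfl⟩
      have hk : ∀ k : S6, sign k = 1 → k * k = 1 → S.map ((R.a (R.el k)).toLinearMap + LinearMap.id) ≤ M →
          R.a (R.el k) w = w := by
        intro k hk hk2 hkM
        refine eq_of_add0 (Frame.bs_nondeg hI hL F (add_mem (F.inv k hk w hw) hw) fun c hc => ?_)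
        have h1 : R.bs (R.a (R.el k) c + c) w = 0 := R.Q.mem_perp.mp hp _ (hkM ⟨c, hc, rfl⟩)
        show R.Q.B (R.a (R.el k) w + w) (R.Y c) = 0
        have h2 : R.Q.B (R.a (R.el k) w) (R.Y c) = R.bs w (R.a (R.el k) c) := by
          show _ = R.Q.B w (R.Y (R.a (R.el k) c))
          conv_rhs => rw [← R.B_a (R.el k), R.Y_el, R.a_el_invol hk hk2]
        rw [map_add, LinearMap.add_apply, h2]
        show R.bs w (R.a (R.el k) c) + R.bs w c = 0
        rw [Frame.bs_symm hI hL F hw (F.inv k hk c hc), Frame.bs_symm hI hL F hw hc]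
        have h3 : R.Q.B (R.a (R.el k) c + c) (R.Y w) = 0 := h1
        rwa [map_add, LinearMap.add_apply] at h3
      have hwc : w ∈ R.cen L := ⟨R.mem_S.mpr (hk c0 sign_c0 basic_facts.2.1 le_sup_left),
        R.mem_S.mpr (hk L.ga hgs hL.1.1.ga2 le_sup_right)⟩
      by_cases hw0 : w = 0
      · show R.Y w ∈ _
        rw [hw0, map_zero]; exact zero_mem _
      obtain ⟨i, hi, e⟩ := R.cen_line hI hL F.cen F.ne hwc hw0
      have : i = 0 := by
        by_contra hi0
        have hi' : i = 1 ∨ i = 2 := by omega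
        rcases hi' with rfl | rfl
        · rw [pow_one] at e; exact F.ne (F.disj a0 F.mem (e ▸ hw))
        · rw [pow_two, R.a_mul] at e
          refine F.ne (F.disj a0 F.mem ?_)
          have h2 : R.Y a0 = w + a0 := by
            rw [e]; show R.Y a0 = R.Y (R.Y a0) + a0
            rw [YY hI hL F, add_comm a0, add_assoc, add_self0, add_zero]
          rw [h2]; exact add_mem hw F.mem
      rw [e, this, pow_zero, R.a_one]
      exact Submodule.mem_span_singleton_self _
    have h1 := Submodule.finrank_sup_add_finrank_inf_eq P (S.map R.Y.toLinearMap)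
    have h2 := (Submodule.finrank_mono hfix).trans (finrank_span_singleton
      (fun e => F.ne (R.Y.map_eq_zero_iff.mp e) : R.Y a0 ≠ 0)).le
    have h3 := (P ⊔ S.map R.Y.toLinearMap).finrank_le
    rw [R.dim] at h3
    rw [LinearEquiv.finrank_map_eq, F.dim] at h1
    omega
  have hWE : W ≤ E0 := by
    rw [← heq]
    exact sup_le (by rintro _ ⟨w, hw, rfl⟩; exact hmov _ hc0T w hw) (by rintro _ ⟨w, hw, rfl⟩; exact hmov _ hgaT w hw)
  have hYaE : R.Y a0 ∈ E0 := hcen (R.Y_cen F.cen)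
  have hE0 : W ⊔ Submodule.span (ZMod 2) {R.Y a0} = E0 := by
    refine Submodule.eq_of_le_of_finrank_le (sup_le hWE ((Submodule.span_singleton_le_iff_mem _ _).mpr hYaE)) ?_
    have hlt := Submodule.finrank_lt_finrank_of_lt (lt_of_le_of_ne
      (le_sup_left : W ≤ W ⊔ Submodule.span (ZMod 2) {R.Y a0}) fun e => F.ne (F.disj a0 F.mem
        (show R.Y a0 ∈ S from (e.symm ▸ Submodule.mem_sup_right (Submodule.mem_span_singleton_self _) : R.Y a0 ∈ W).1)))
    have h3 : finrank (ZMod 2) W = 3 := Frame.finrank_hyp hI hL F F.mem F.ne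
    omega
  have hE : ∀ u, u ∈ E ↔ R.a (R.el σ⁻¹) u ∈ E0 := fun u =>
    ⟨fun h => ⟨u, h, rfl⟩, fun ⟨u', hu', e⟩ => (R.a (R.el σ⁻¹)).injective e ▸ hu'⟩
  rw [hE v, ← hE0, Submodule.mem_sup]
  have hbs : ∀ τ : S6, ∀ a c, R.bs (R.a (R.el τ) a) (R.a (R.el τ) c) = R.bs a c := fun τ a c => by
    show R.Q.B _ (R.Y (R.a (R.el τ) c)) = R.Q.B a (R.Y c)
    rw [R.Y_el, R.B_a]
  constructor
  · rintro ⟨w, hw, u, hu, e⟩
    obtain ⟨hwS, hwb⟩ := (Frame.mem_hyp hI hL F).mp hw
    refine ⟨R.a (R.el σ) w, F.inv σ hσ w hwS, by rw [← hσa, hbs, hwb], ?_⟩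
    obtain ⟨c, rfl⟩ := Submodule.mem_span_singleton.mp hu
    rcases zmod2_cases c with rfl | rfl
    · left; rw [← hfwd v, ← e, zero_smul, add_zero]
    · right; rw [← hfwd v, ← e, one_smul, map_add, ← R.Y_el, hσa]
  · rintro ⟨w, hw, hb, e⟩
    refine ⟨R.a (R.el σ⁻¹) w, (Frame.mem_hyp hI hL F).mpr ⟨F.inv _ hσ' w hw, ?_⟩, ?_⟩
    · rw [← hback a0, hbs, hσa, hb]
    rcases e with rfl | rfl
    · exact ⟨0, zero_mem _, add_zero _⟩
    · refine ⟨R.Y a0, Submodule.mem_span_singleton_self _, ?_⟩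
      rw [map_add, ← R.Y_el, ← hσa, hback]

/-- A pure 3-space in the space attached to `x` lies in S. -/
theorem Frame.pure_le [Finite H] [Finite V] {x : V} (hx : x ∈ S) (D : R.Local x E T) {X : Submodule (ZMod 2) V}
    (hXE : X ≤ E) (h3 : finrank (ZMod 2) X = 3) (hpure : ∀ v ∈ X, v ≠ 0 → R.Centre L v) :
    X = S ⊓ R.Q.perp (Submodule.span (ZMod 2) {R.Y x}) := by
  -- centres outside S
  have hout : ∀ w ∈ S, R.Centre L (w + R.Y x) → w = 0 ∨ w = x := by
    intro w hw hC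
    have hne : w + R.Y x ≠ 0 := fun e =>
      D.ne (F.disj x hx (eq_of_add0 e ▸ hw))
    obtain ⟨x', hx', i, hi, e⟩ := (Frame.centre_iff hI hL F hne).mp hC
    rcases (show i = 0 ∨ i = 1 ∨ i = 2 by omega) with rfl | rfl | rfl
    · rw [pow_zero, R.a_one] at e
      exfalso
      obtain ⟨-, h2⟩ := Frame.unique hI hL F hw hx hx' (zero_mem _) (by rw [e, map_zero, add_zero])
      exact D.ne h2
    · rw [pow_one] at e
      exact Or.inl (Frame.unique hI hL F hw hx (zero_mem _) hx' (by rw [e, zero_add])).1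
    · rw [pow_two, R.a_mul] at e
      have e' : w + R.Y x = x' + R.Y x' := e.trans (YY hI hL F x')
      obtain ⟨h1, h2⟩ := Frame.unique hI hL F hw hx hx' hx' e'
      exact Or.inr (h1.trans h2.symm)
  set W := S ⊓ R.Q.perp (Submodule.span (ZMod 2) {R.Y x}) with hW
  have hW3 : finrank (ZMod 2) W = 3 := Frame.finrank_hyp hI hL F hx D.ne
  refine Submodule.eq_of_le_of_finrank_le (fun v hv => ?_) (by rw [hW3, h3])
  obtain ⟨w, hw, hb, e⟩ := (Frame.space hI hL F hx D).mp (hXE hv)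
  rcases e with rfl | rfl
  · exact (Frame.mem_hyp hI hL F).mpr ⟨hw, hb⟩
  exfalso
  have hv0 : w + R.Y x ≠ 0 := fun e => D.ne (F.disj x hx (eq_of_add0 e ▸ hw))
  have hw01 := hout w hw (hpure _ hv hv0)
  obtain ⟨w2, hw2, hn0, hnx⟩ : ∃ w2, w2 ∈ X ⊓ S ∧ w2 ≠ 0 ∧ w2 ≠ x := by
    by_contra! hcon
    have hsub : X ≤ Submodule.span (ZMod 2) {x, w + R.Y x} := by
      intro u hu
      obtain ⟨w', hw', -, e'⟩ := (Frame.space hI hL F hx D).mp (hXE hu)
      have key : ∀ u' ∈ X, u' ∈ S → u' ∈ Submodule.span (ZMod 2) ({x, w + R.Y x} : Set V) := fun u' h1 h2 => by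
        by_cases h0 : u' = 0
        · rw [h0]; exact zero_mem _
        rw [hcon u' ⟨h1, h2⟩ h0]; exact Submodule.subset_span (by simp)
      rcases e' with rfl | rfl
      · exact key _ hu hw'
      · have h := key _ (add_mem hu hv) (by
          rw [show w' + R.Y x + (w + R.Y x) = w' + w + (R.Y x + R.Y x) by abel, add_self0, add_zero]
          exact add_mem hw' hw)
        have h' := add_mem h (Submodule.subset_span (by simp) : w + R.Y x ∈ Submodule.span (ZMod 2) ({x, w + R.Y x} : Set V))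
        rwa [add_assoc, add_self0, add_zero] at h'
    have := (Submodule.finrank_mono hsub).trans (finrank_span_pair_le x (w + R.Y x))
    omega
  have hsumX : w2 + (w + R.Y x) ∈ X := add_mem hw2.1 hv
  have hC := hpure _ hsumX fun e => D.ne (F.disj x hx (by
    have : R.Y x = w2 + w := by
      rw [eq_of_add0 e, show w + R.Y x + w = R.Y x + (w + w) by abel, add_self0, add_zero]
    rw [this]; exact add_mem hw2.2 hw))
  rw [← add_assoc] at hC
  rcases hout _ (add_mem hw2.2 hw) hC with h | h <;> rcases hw01 with h' | h' <;> subst h'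
  · rw [add_zero] at h; exact hn0 h
  · exact hnx (eq_of_add0 h)
  · rw [add_zero] at h; exact hnx h
  · exact hn0 (add_eq_right.mp h)

/-- An involution fixing the hyperplane of x and a 3-space in the space of another vector e. -/
theorem Frame.endgame [Finite H] [Finite V] {h : H} (h2 : h * h = 1) (hne : h ≠ 1) {x e : V} (hx : x ∈ S)
    (hx0 : x ≠ 0) (he : e ∈ S) (hex : R.bs e x = 0) (hxe : e ≠ x) {E' : Submodule (ZMod 2) V} {T' : Subgroup H}
    (D' : R.Local e E' T') {Xc : Submodule (ZMod 2) V} (hXcE : Xc ≤ E') (hXc : 3 ≤ finrank (ZMod 2) Xc)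
    (hfx : ∀ w ∈ S, R.bs w x = 0 → R.a h w = w) (hfc : ∀ w ∈ Xc, R.a h w = w) :
    (R.pi h = 1 ∧ sign (R.rho h) = -1 ∧ ∃ w ∈ S, R.bs w x = 0 ∧ ∃ w' ∈ Xc, R.Q.B w w' = 1) ∨
    (R.pi h ≠ 1 ∧ R.rho h = 1 ∧ (∀ v, R.a h v = v ↔ v ∈ S) ∧
      S ≤ (S ⊓ R.Q.perp (Submodule.span (ZMod 2) {R.Y x})) ⊔ Xc) := by
  set W := S ⊓ R.Q.perp (Submodule.span (ZMod 2) ({R.Y x} : Set V)) with hW
  set We := S ⊓ R.Q.perp (Submodule.span (ZMod 2) ({R.Y e} : Set V)) with hWe
  have hW3 : finrank (ZMod 2) W = 3 := Frame.finrank_hyp hI hL F hx hx0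
  have hWe3 : finrank (ZMod 2) We = 3 := Frame.finrank_hyp hI hL F he D'.ne
  obtain ⟨w0, hw0S, hw0x, hw0e⟩ : ∃ w ∈ S, R.bs w x = 0 ∧ R.bs w e = 1 := by
    by_contra! hcon
    have hle : W ≤ We := fun w hw => by
      obtain ⟨h1, h2⟩ := (Frame.mem_hyp hI hL F).mp hw
      exact (Frame.mem_hyp hI hL F).mpr ⟨h1, (zmod2_cases _).resolve_right (hcon w h1 h2)⟩
    have heq : W = We := Submodule.eq_of_le_of_finrank_le hle (by omega)
    refine hxe (eq_of_add0 (Frame.bs_nondeg hI hL F (add_mem he hx) fun c hc => ?_))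
    show R.Q.B (e + x) (R.Y c) = 0
    rw [map_add, LinearMap.add_apply]
    show R.bs e c + R.bs x c = 0
    rw [Frame.bs_symm hI hL F he hc, Frame.bs_symm hI hL F hx hc]
    rcases zmod2_cases (R.bs c x) with a | a
    · have : c ∈ We := heq ▸ (Frame.mem_hyp hI hL F).mpr ⟨hc, a⟩
      rw [((Frame.mem_hyp hI hL F).mp this).2, a, add_zero]
    · rcases zmod2_cases (R.bs c e) with b | b
      · have : c ∈ W := heq.symm ▸ (Frame.mem_hyp hI hL F).mpr ⟨hc, b⟩
        rw [((Frame.mem_hyp hI hL F).mp this).2] at a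
        exact absurd a zero_ne_one
      · rw [a, b]; decide
  by_cases hp : R.pi h = 1
  · left
    have hcy := R.comm_y hp
    have hYW : ∀ w ∈ S, R.bs w x = 0 → R.a h (R.Y w) = R.Y w := fun w hw hb => by
      rw [R.a_comm hcy, hfx w hw hb]
    have hsign : sign (R.rho h) = -1 := by
      refine (Int.units_eq_one_or _).resolve_left fun hs => ?_
      have hr1 : R.rho h ≠ 1 := fun e => hne (R.inj h hp e)
      have hr2 : R.rho h * R.rho h = 1 := by rw [← map_mul, h2, map_one]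
      have h4 := R.finrank_S hI hs hr2 hr1
      have hle : W ⊔ W.map R.Y.toLinearMap ≤ R.S (R.rho h) := by
        show _ ≤ Fix (R.a (R.el (R.rho h)))
        rw [R.el_eq hp hs]
        refine sup_le (fun w hw => mem_fix.mpr ?_) ?_
        · exact hfx w ((Frame.mem_hyp hI hL F).mp hw).1 ((Frame.mem_hyp hI hL F).mp hw).2
        · rintro _ ⟨w, hw, rfl⟩
          exact mem_fix.mpr (hYW w ((Frame.mem_hyp hI hL F).mp hw).1 ((Frame.mem_hyp hI hL F).mp hw).2)
      have hd := Submodule.finrank_sup_add_finrank_inf_eq W (W.map R.Y.toLinearMap)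
      have hbot : W ⊓ W.map R.Y.toLinearMap = ⊥ := by
        rw [Submodule.eq_bot_iff]
        rintro _ ⟨h1, w, hw, rfl⟩
        show R.Y w = 0
        rw [F.disj w hw.1 h1.1, map_zero]
      rw [hbot, finrank_bot, LinearEquiv.finrank_map_eq] at hd
      have := Submodule.finrank_mono hle
      omega
    refine ⟨hp, hsign, w0, hw0S, hw0x, ?_⟩
    by_contra! hcon
    -- Xc lies in S and in two hyperplanes
    have hsub : Xc ≤ We ⊓ R.Q.perp (Submodule.span (ZMod 2) {R.Y x}) := by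
      intro v hv
      obtain ⟨w, hw, hwe, e'⟩ := (Frame.space hI hL F he D').mp (hXcE hv)
      have hB := hcon v hv
      rcases e' with rfl | rfl
      · refine ⟨(Frame.mem_hyp hI hL F).mpr ⟨hw, hwe⟩, ?_⟩
        by_contra hx'
        have hb : R.bs v x = 1 := by
          refine (zmod2_cases _).resolve_left fun h0 => hx' ?_
          exact ((Frame.mem_hyp hI hL F).mpr ⟨hw, h0⟩).2
        -- then h fixes all of S
        have hall : ∀ u ∈ S, R.a h u = u := by
          intro u hu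
          rcases zmod2_cases (R.bs u x) with a | a
          · exact hfx u hu a
          · have h1 := hfx (u + v) (add_mem hu hw) (by
              show R.Q.B (u + v) (R.Y x) = 0
              rw [map_add, LinearMap.add_apply]; show R.bs u x + R.bs v x = 0; rw [a, hb]; decide)
            rw [map_add, hfc v hv] at h1
            exact add_right_cancel h1
        refine hne (R.faith h fun u => ?_)
        obtain ⟨a, ha, b, hb', rfl⟩ := Frame.decomp hI hL F u
        rw [map_add, hall a ha, R.a_comm hcy, hall b hb']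
      · exfalso
        apply hB
        rw [map_add, F.iso w0 hw0S w hw, zero_add]
        exact hw0e
    have h7 : finrank (ZMod 2) ↥(We ⊓ R.Q.perp (Submodule.span (ZMod 2) ({R.Y x} : Set V))) ≤ 2 := by
      have hle : We ⊓ R.Q.perp (Submodule.span (ZMod 2) ({R.Y x} : Set V)) ≤ W := fun v hv => ⟨hv.1.1, hv.2⟩
      have hlt : We ⊓ R.Q.perp (Submodule.span (ZMod 2) ({R.Y x} : Set V)) ≠ W := fun heq => by
        have := ((Frame.mem_hyp hI hL F).mp ((heq.symm ▸ (Frame.mem_hyp hI hL F).mpr ⟨hw0S, hw0x⟩ :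
          w0 ∈ We ⊓ R.Q.perp (Submodule.span (ZMod 2) ({R.Y x} : Set V))).1)).2
        rw [hw0e] at this; exact one_ne_zero this
      have := Submodule.finrank_lt_finrank_of_lt (lt_of_le_of_ne hle hlt)
      omega
    have := Submodule.finrank_mono hsub
    omega
  right
  have hinv : h * R.y * h⁻¹ = R.y * R.y := by
    have hy2 : R.pi h * R.pi h = 1 := by rw [← map_mul, h2, map_one]
    rcases R.pi_class h with e' | e' | e' | ⟨-, e'⟩
    · exact absurd e' hp
    all_goals first | exact e' | (exfalso; apply hp; have hys := R.y_sign; revert hy2 e' hys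
                                  generalize R.pi h = a; generalize R.pi R.y = p
                                  revert a p; decide)
  have hiso : ∀ u v, R.a h u = u → R.a h v = v → R.Q.B u v = 0 := fun u v a b => R.orth_of_fixed hI hL hinv a b
  -- fixed vectors
  have hfixform : ∀ v, R.a h v = v → ∃ a ∈ S, v = a ∨ v = a + R.Y x := by
    intro v hv
    obtain ⟨a, ha, b, hb, rfl⟩ := Frame.decomp hI hL F v
    refine ⟨a, ha, ?_⟩
    have hperp : ∀ w ∈ S, R.bs w x = 0 → R.bs w b = 0 := fun w hw hwx => by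
      have := hiso w _ (hfx w hw hwx) hv
      rwa [map_add, F.iso w hw a ha, zero_add] at this
    by_cases hb0 : b = 0
    · left; rw [hb0, map_zero, add_zero]
    right
    have hWb : W = S ⊓ R.Q.perp (Submodule.span (ZMod 2) {R.Y b}) := by
      refine Submodule.eq_of_le_of_finrank_le (fun w hw => ?_) (by rw [hW3, Frame.finrank_hyp hI hL F hb hb0])
      obtain ⟨h1, h2⟩ := (Frame.mem_hyp hI hL F).mp hw
      exact (Frame.mem_hyp hI hL F).mpr ⟨h1, hperp w h1 h2⟩
    have hbx : b = x := by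
      refine eq_of_add0 (Frame.bs_nondeg hI hL F (add_mem hb hx) fun c hc => ?_)
      show R.Q.B (b + x) (R.Y c) = 0
      rw [map_add, LinearMap.add_apply]
      show R.bs b c + R.bs x c = 0
      rw [Frame.bs_symm hI hL F hb hc, Frame.bs_symm hI hL F hx hc]
      rcases zmod2_cases (R.bs c x) with a' | a'
      · rw [a', hperp c hc a', add_zero]
      · rcases zmod2_cases (R.bs c b) with b' | b'
        · have : c ∈ W := hWb ▸ (Frame.mem_hyp hI hL F).mpr ⟨hc, b'⟩
          rw [((Frame.mem_hyp hI hL F).mp this).2] at a'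
          exact absurd a' zero_ne_one
        · rw [a', b']; decide
    rw [hbx]
  -- Xc lies in S
  have hXS : Xc ≤ We := by
    intro v hv
    obtain ⟨w, hw, hwe, e'⟩ := (Frame.space hI hL F he D').mp (hXcE hv)
    rcases e' with rfl | rfl
    · exact (Frame.mem_hyp hI hL F).mpr ⟨hw, hwe⟩
    exfalso
    obtain ⟨a, ha, e' | e'⟩ := hfixform _ (hfc _ hv)
    · exact D'.ne (Frame.unique hI hL F hw he ha (zero_mem _) (by rw [e', map_zero, add_zero])).2
    · exact hxe (Frame.unique hI hL F hw he ha hx e').2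
  have hXeq : Xc = We := Submodule.eq_of_le_of_finrank_le hXS (by omega)
  have hSle : S ≤ W ⊔ Xc := by
    have hne' : ¬ We ≤ W := fun hle => by
      have heq : We = W := Submodule.eq_of_le_of_finrank_le hle (by omega)
      have := ((Frame.mem_hyp hI hL F).mp (heq.symm ▸ (Frame.mem_hyp hI hL F).mpr ⟨hw0S, hw0x⟩ : w0 ∈ We)).2
      rw [hw0e] at this; exact one_ne_zero this
    have hlt := Submodule.finrank_lt_finrank_of_lt (lt_of_le_of_ne (le_sup_left : W ≤ W ⊔ Xc)
      fun h' => hne' (hXeq ▸ h' ▸ le_sup_right))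
    have hle : W ⊔ Xc ≤ S := sup_le inf_le_left (hXS.trans inf_le_left)
    exact (Submodule.eq_of_le_of_finrank_le hle (by rw [F.dim]; omega)).ge
  have hallS : ∀ v ∈ S, R.a h v = v := by
    intro v hv
    obtain ⟨a, ha, b, hb, rfl⟩ := Submodule.mem_sup.mp (hSle hv)
    rw [map_add, hfx a ((Frame.mem_hyp hI hL F).mp ha).1 ((Frame.mem_hyp hI hL F).mp ha).2, hfc b hb]
  refine ⟨hp, ?_, ?_, hSle⟩
  · have hcomm : ∀ σ : S6, sign σ = 1 → R.rho h * σ * (R.rho h)⁻¹ = σ := by
      intro σ hσ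
      set σ' := R.rho h * σ * (R.rho h)⁻¹
      have hσ' : sign σ' = 1 := sign_conj hσ
      have hk : sign (σ'⁻¹ * σ) = 1 := by rw [map_mul, map_inv, hσ', hσ]; decide
      have hS' : ∀ v ∈ S, R.a (R.el σ') v = R.a (R.el σ) v := by
        intro v hv
        rw [← R.el_conj hσ, R.a_mul, R.a_mul, inv_eq_of_mul_eq_one_right h2, hallS v hv, hallS _ (F.inv σ hσ v hv)]
      have hkS : ∀ v ∈ S, R.a (R.el (σ'⁻¹ * σ)) v = v := fun v hv => by
        rw [R.a_el_mul (by rw [map_inv, hσ', inv_one]) hσ, ← hS' v hv, ← R.a_el_mul (by rw [map_inv, hσ', inv_one]) hσ',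
          inv_mul_cancel, R.a_el_one]
      have h1 := congrArg R.rho (R.faith (R.el (σ'⁻¹ * σ)) fun u => by
        obtain ⟨a, ha, b, hb, rfl⟩ := Frame.decomp hI hL F u
        rw [map_add, hkS a ha, ← R.Y_el, hkS b hb])
      rw [R.rho_el hk, map_one] at h1
      exact inv_mul_eq_one.mp h1
    refine centre_A6 _ ?_ ?_
    · exact mul_inv_eq_iff_eq_mul.mp (hcomm h1 (by decide))
    · exact mul_inv_eq_iff_eq_mul.mp (hcomm f5 sign_f5)
  · intro v
    refine ⟨fun hv => ?_, hallS v⟩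
    obtain ⟨a, ha, e' | e'⟩ := hfixform v hv
    · rw [e']; exact ha
    · exfalso
      rw [e', map_add, hallS a ha, ← R.a_mul, show h * R.y = (h * R.y * h⁻¹) * h by group, hinv, R.a_mul,
        hallS x hx, R.a_mul] at hv
      exact hx0 (R.Y_fpf hI (R.Y.injective (add_left_cancel hv)))

end Rep

end Cfsg.Agent.S3A6Q9
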