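import Mathlib

/-
Elementary linear algebra of a nondegenerate quadratic space over 𝔽₂: fixed space and commutator
space of an isometry, and the lemma that a 4-dimensional space has no commuting fixed-point-free
isometries of order 3 and 5.
-/

set_option autoImplicit false

namespace Cfsg.Agent.S3A6Q9

open Module

variable {V : Type*} [AddCommGroup V] [Module (ZMod 2) V]

theorem add_self0 (v : V) : v + v = 0 := by
  rw [← two_smul (ZMod 2) v, show (2 : ZMod 2) = 0 from rfl, zero_smul]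

theorem eq_of_add0 {u v : V} (h : u + v = 0) : u = v := by
  calc u = (u + v) + v := by rw [add_assoc, add_self0, add_zero]
    _ = v := by rw [h, zero_add]

theorem zmod2_cases (a : ZMod 2) : a = 0 ∨ a = 1 := by revert a; decide

/-- A nondegenerate quadratic space over 𝔽₂ with its polar form. -/
structure QS (V : Type*) [AddCommGroup V] [Module (ZMod 2) V] where
  q : V → ZMod 2
  B : LinearMap.BilinForm (ZMod 2) V
  polar : ∀ u v, q (u + v) = q u + q v + B u v
  alt : ∀ v, B v v = 0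
  nondeg : ∀ v, (∀ w, B v w = 0) → v = 0

/-- The fixed space. -/
def Fix (g : V ≃ₗ[ZMod 2] V) : Submodule (ZMod 2) V := LinearMap.ker (g.toLinearMap + LinearMap.id)
/-- The commutator space. -/
def Mov (g : V ≃ₗ[ZMod 2] V) : Submodule (ZMod 2) V := LinearMap.range (g.toLinearMap + LinearMap.id)

theorem mem_fix {g : V ≃ₗ[ZMod 2] V} {v : V} : v ∈ Fix g ↔ g v = v := by
  show g v + v = 0 ↔ g v = v
  exact ⟨eq_of_add0, fun h => by rw [h, add_self0]⟩

theorem mem_mov {g : V ≃ₗ[ZMod 2] V} {v : V} : v ∈ Mov g ↔ ∃ w, g w + w = v := Iff.rfl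

theorem mov_mem (g : V ≃ₗ[ZMod 2] V) (w : V) : g w + w ∈ Mov g := ⟨w, rfl⟩

theorem finrank_fix_mov [Finite V] (g : V ≃ₗ[ZMod 2] V) :
    finrank (ZMod 2) (Fix g) + finrank (ZMod 2) (Mov g) = finrank (ZMod 2) V := by
  rw [add_comm]; exact LinearMap.finrank_range_add_finrank_ker _

theorem mov_le_fix {g : V ≃ₗ[ZMod 2] V} (h2 : ∀ v, g (g v) = v) : Mov g ≤ Fix g := by
  rintro _ ⟨w, rfl⟩
  rw [mem_fix]
  show g (g w + w) = g w + w
  rw [map_add, h2, add_comm]

namespace QS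

variable (Q : QS V)

theorem comm (u v : V) : Q.B u v = Q.B v u := by
  have h := Q.alt (u + v)
  simp only [map_add, LinearMap.add_apply, Q.alt, zero_add, add_zero] at h
  rcases zmod2_cases (Q.B u v) with e | e <;> rcases zmod2_cases (Q.B v u) with e' | e' <;>
    simp only [e, e'] at h ⊢ <;> exact absurd h (by decide)

theorem q_zero : Q.q 0 = 0 := by
  have h := Q.polar 0 0
  rw [add_zero, map_zero] at h
  rcases zmod2_cases (Q.q 0) with e | e
  · exact e
  · rw [e] at h; simp at h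

/-- An isometry preserves the polar form. -/
theorem B_map {g : V ≃ₗ[ZMod 2] V} (hg : ∀ v, Q.q (g v) = Q.q v) (u v : V) : Q.B (g u) (g v) = Q.B u v := by
  have h := Q.polar (g u) (g v)
  rw [← map_add, hg, hg, hg, Q.polar] at h
  exact (add_left_cancel h).symm

theorem isRefl : Q.B.IsRefl := fun u v h => by rw [Q.comm]; exact h

theorem nondegenerate : Q.B.Nondegenerate :=
  ⟨fun v h => Q.nondeg v h, fun v h => Q.nondeg v fun w => by rw [Q.comm]; exact h w⟩

/-- The orthogonal space. -/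
def perp (W : Submodule (ZMod 2) V) : Submodule (ZMod 2) V := Q.B.orthogonal W

theorem mem_perp {W : Submodule (ZMod 2) V} {v : V} : v ∈ Q.perp W ↔ ∀ w ∈ W, Q.B w v = 0 :=
  LinearMap.BilinForm.mem_orthogonal_iff

theorem finrank_perp [Finite V] (W : Submodule (ZMod 2) V) :
    finrank (ZMod 2) W + finrank (ZMod 2) (Q.perp W) = finrank (ZMod 2) V := by
  have h := LinearMap.BilinForm.finrank_orthogonal Q.nondegenerate W
  have h' := Submodule.finrank_le W
  change _ + finrank (ZMod 2) (Q.B.orthogonal W) = _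
  omega

theorem isotropic_le [Finite V] {W : Submodule (ZMod 2) V} (h : ∀ u ∈ W, ∀ v ∈ W, Q.B u v = 0) :
    2 * finrank (ZMod 2) W ≤ finrank (ZMod 2) V := by
  have h1 := Submodule.finrank_mono (show W ≤ Q.perp W from fun v hv => Q.mem_perp.mpr fun w hw => h w hw v hv)
  have h2 := Q.finrank_perp W
  omega

theorem fix_eq_perp [Finite V] {g : V ≃ₗ[ZMod 2] V} (hg : ∀ v, Q.q (g v) = Q.q v) :
    Fix g = Q.perp (Mov g) := by
  have hle : Fix g ≤ Q.perp (Mov g) := fun v hv => Q.mem_perp.mpr fun w hw => by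
    obtain ⟨u, rfl⟩ := mem_mov.mp hw
    rw [map_add, LinearMap.add_apply]
    conv_lhs => rw [← mem_fix.mp hv]
    rw [Q.B_map hg, mem_fix.mp hv, ← two_mul, show (2 : ZMod 2) = 0 from rfl, zero_mul]
  refine Submodule.eq_of_le_of_finrank_le hle ?_
  have h1 := Q.finrank_perp (Mov g)
  have h2 := finrank_fix_mov g
  omega

theorem mem_mov_of_perp [Finite V] {g : V ≃ₗ[ZMod 2] V} (hg : ∀ v, Q.q (g v) = Q.q v) {u : V}
    (h : ∀ v ∈ Fix g, Q.B v u = 0) : u ∈ Mov g := by
  have hle : Mov g ≤ Q.perp (Fix g) := fun w hw => Q.mem_perp.mpr fun v hv => by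
    rw [Q.fix_eq_perp hg] at hv
    rw [Q.comm]; exact Q.mem_perp.mp hv w hw
  have e := Submodule.eq_of_le_of_finrank_le hle (by
    have h1 := Q.finrank_perp (Fix g)
    have h2 := finrank_fix_mov g
    omega)
  rw [e]; exact Q.mem_perp.mpr h

theorem mov_isotropic {g : V ≃ₗ[ZMod 2] V} (hg : ∀ v, Q.q (g v) = Q.q v) (h2 : ∀ v, g (g v) = v)
    {u v : V} (hu : u ∈ Mov g) (hv : v ∈ Mov g) : Q.B u v = 0 := by
  obtain ⟨a, rfl⟩ := mem_mov.mp hu
  obtain ⟨b, rfl⟩ := mem_mov.mp hv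
  have e1 : Q.B (g a) (g b) = Q.B a b := Q.B_map hg a b
  have e2 : Q.B (g a) b = Q.B a (g b) := by
    conv_lhs => rw [← Q.B_map hg, h2]
  simp only [map_add, LinearMap.add_apply, e1, e2]
  rcases zmod2_cases (Q.B a b) with e | e <;> rcases zmod2_cases (Q.B a (g b)) with e' | e' <;>
    rw [e, e'] <;> decide

/-- On a totally isotropic subspace the form is linear; it vanishes if an operator fixes no
nonzero vector, preserves `q`, and has order three. -/
theorem q_eq_zero_of_fpf {Y : V ≃ₗ[ZMod 2] V} (hY : ∀ v, Q.q (Y v) = Q.q v)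
    {W : Submodule (ZMod 2) V} (hiso : ∀ u ∈ W, ∀ v ∈ W, Q.B u v = 0) (hinv : ∀ v ∈ W, Y v ∈ W)
    (hsum : ∀ v ∈ W, v + Y v + Y (Y v) = 0) {v : V} (hv : v ∈ W) : Q.q v = 0 := by
  have hY1 := hinv v hv
  have e : v = Y v + Y (Y v) := eq_of_add0 (by rw [← add_assoc]; exact hsum v hv)
  have := Q.polar (Y v) (Y (Y v))
  rw [← e, hY, hY, hY, hiso _ hY1 _ (hinv _ hY1), add_zero] at this
  rw [this]; rcases zmod2_cases (Q.q v) with h | h <;> rw [h] <;> decide

end QS

/-- Fixed points of a permutation of prime order `p` are congruent to the whole space mod `p`. -/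
theorem card_mod_fixed [Finite V] (p : ℕ) [Fact p.Prime] (g : V ≃ₗ[ZMod 2] V)
    (hg : ∀ v, (⇑g)^[p] v = v) (W : Submodule (ZMod 2) V) (hW : ∀ v ∈ W, g v ∈ W)
    (hfree : ∀ v ∈ W, g v = v → v = 0) : 2 ^ finrank (ZMod 2) W ≡ 1 [MOD p] := by
  classical
  have := Fintype.ofFinite W
  let f : Function.End W := fun v => ⟨g v, hW v v.2⟩
  have hit : ∀ (n : ℕ) (v : W), (((f ^ n) v : W) : V) = (⇑g)^[n] (v : V) := by
    intro n
    induction n with
    | zero => intro v; rfl
    | succ n ih =>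
      intro v
      rw [pow_succ', Function.iterate_succ', Function.comp_apply, ← ih v]
      rfl
  have hp : f ^ p ^ 1 = 1 := by
    funext v
    apply Subtype.ext
    rw [pow_one, hit, hg]; rfl
  have h := Equiv.Perm.card_fixedPoints_modEq (f := f) (p := p) (n := 1) hp
  have h1 : Fintype.card W = 2 ^ finrank (ZMod 2) W := by
    rw [Module.card_eq_pow_finrank (K := ZMod 2), ZMod.card]
  have h2 : Fintype.card (Function.fixedPoints f) = 1 := by
    rw [Fintype.card_eq_one_iff]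
    refine ⟨⟨0, Subtype.ext (map_zero g)⟩, fun v => Subtype.ext ?_⟩
    exact Subtype.ext (hfree v.1 v.1.2 (congrArg Subtype.val v.2))
  rw [h1, h2] at h
  exact h

theorem pow_mod_order {W : Type*} [Monoid W] {Y : W} {n : ℕ} (hY : Y ^ n = 1) (a : ℕ) : Y ^ (a % n) = Y ^ a := by
  conv_rhs => rw [← Nat.mod_add_div a n, pow_add, pow_mul, hY, one_pow, mul_one]

/-- A 4-dimensional nondegenerate subspace has no commuting fixed-point-free isometries of orders
3 and 5. -/
theorem no_three_five [Finite V] (Q : QS V) (W : Submodule (ZMod 2) V) (hW : finrank (ZMod 2) W = 4)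
    (hnd : ∀ v ∈ W, (∀ w ∈ W, Q.B v w = 0) → v = 0)
    (Y F : V ≃ₗ[ZMod 2] V) (hYq : ∀ v, Q.q (Y v) = Q.q v) (hFq : ∀ v, Q.q (F v) = Q.q v)
    (hYW : ∀ v ∈ W, Y v ∈ W) (hFW : ∀ v ∈ W, F v ∈ W) (hY : Y ^ 3 = 1) (hF : F ^ 5 = 1)
    (hcomm : Commute Y F) (hY1 : ∀ v ∈ W, Y v = v → v = 0) (hF1 : ∀ v ∈ W, F v = v → v = 0) : False := by
  classical
  have := Fintype.ofFinite W
  have hapow : ∀ (T : V ≃ₗ[ZMod 2] V) (W' : Submodule (ZMod 2) V), (∀ v ∈ W', T v ∈ W') →
      ∀ (n : ℕ), ∀ v ∈ W', (T ^ n) v ∈ W' := by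
    intro T W' h n
    induction n with
    | zero => intro v hv; exact hv
    | succ n ih => intro v hv; rw [pow_succ]; exact ih _ (h v hv)
  have hqpow : ∀ (T : V ≃ₗ[ZMod 2] V), (∀ v, Q.q (T v) = Q.q v) → ∀ (n : ℕ) v, Q.q ((T ^ n) v) = Q.q v := by
    intro T h n
    induction n with
    | zero => intro v; rfl
    | succ n ih => intro v; rw [pow_succ]; exact (ih _).trans (h v)
  have hfix : ∀ (T : V ≃ₗ[ZMod 2] V) (m : ℕ), ∀ v, T v = v → (T ^ m) v = v := by
    intro T m v h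
    induction m with
    | zero => rfl
    | succ m ih => rw [pow_succ]; show (T ^ m) (T v) = v; rw [h, ih]
  obtain ⟨v0, hv0, hne⟩ : ∃ v ∈ W, v ≠ 0 := Submodule.exists_mem_ne_zero_of_ne_bot fun h => by
    rw [h, finrank_bot] at hW; omega
  -- powers fixing a nonzero vector of W are trivial
  have key : ∀ i < 3, ∀ j < 5, ((Y ^ i) * (F ^ j)) v0 = v0 → i = 0 ∧ j = 0 := by
    intro i hi j hj h
    have hc : Commute (Y ^ i) (F ^ j) := hcomm.pow_pow i j
    have h5 := hfix _ 5 v0 h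
    have h3 := hfix _ 3 v0 h
    rw [hc.mul_pow, ← pow_mul, ← pow_mul, mul_comm j 5, pow_mul F 5 j, hF, one_pow, mul_one] at h5
    rw [hc.mul_pow, ← pow_mul, ← pow_mul, mul_comm i 3, pow_mul Y 3 i, hY, one_pow, one_mul] at h3
    constructor
    · by_contra hi0
      have hi1 : 1 ≤ i := Nat.one_le_iff_ne_zero.mpr hi0
      apply hne; apply hY1 v0 hv0
      have hk := hfix _ (2 * i) v0 h5
      rw [← pow_mul] at hk
      have hmod : i * 5 * (2 * i) = 3 * (i * 5 * (2 * i) / 3) + 1 := by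
        interval_cases i
        all_goals first | omega | norm_num
      rw [hmod, pow_add, pow_mul, hY, one_pow, one_mul, pow_one] at hk
      exact hk
    · by_contra hj0
      have hj1 : 1 ≤ j := Nat.one_le_iff_ne_zero.mpr hj0
      apply hne; apply hF1 v0 hv0
      obtain ⟨k, l, hkl⟩ : ∃ k l, j * 3 * k = 5 * l + 1 := by
        interval_cases j
        exacts [⟨2, 1, rfl⟩, ⟨1, 1, rfl⟩, ⟨4, 7, rfl⟩, ⟨3, 7, rfl⟩]
      have hk := hfix _ k v0 h3
      rw [← pow_mul, hkl, pow_add, pow_mul, hF, one_pow, one_mul, pow_one] at hk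
      exact hk
  let orb : Fin 3 × Fin 5 → {v : W // v ≠ 0} := fun p =>
    ⟨⟨((Y ^ p.1.val) * (F ^ p.2.val)) v0, hapow Y W hYW _ _ (hapow F W hFW _ _ hv0)⟩, fun h => hne (by
      have h' := congrArg (fun w : W => (w : V)) h
      simpa using h')⟩
  have hinj : Function.Injective orb := by
    rintro ⟨i, j⟩ ⟨i', j'⟩ h
    have e : ((Y ^ i.val) * (F ^ j.val)) v0 = ((Y ^ i'.val) * (F ^ j'.val)) v0 := congrArg (fun w => (w.1 : V)) h
    have hi := i.isLt; have hi' := i'.isLt; have hj := j.isLt; have hj' := j'.isLt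
    have e' := congrArg (fun w => ((Y ^ (3 - i'.val)) * (F ^ (5 - j'.val))) w) e
    simp only [← LinearEquiv.mul_apply] at e'
    have hswap : ∀ a b c d : ℕ, (Y ^ a * F ^ b) * (Y ^ c * F ^ d) = Y ^ (a + c) * F ^ (b + d) := fun a b c d => by
      rw [pow_add, pow_add, mul_assoc, ← mul_assoc (F ^ b), ← (hcomm.pow_pow c b).eq]; group
    rw [hswap, hswap, Nat.sub_add_cancel hi'.le, Nat.sub_add_cancel hj'.le, hY, hF, mul_one] at e'
    rw [← pow_mod_order hY (3 - i'.val + i.val), ← pow_mod_order hF (5 - j'.val + j.val)] at e'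
    obtain ⟨h1, h2⟩ := key _ (Nat.mod_lt _ (by norm_num)) _ (Nat.mod_lt _ (by norm_num)) e'
    have a1 : i.val = i'.val := by omega
    have a2 : j.val = j'.val := by omega
    exact Prod.ext (Fin.ext a1) (Fin.ext a2)
  have hcard : Fintype.card {v : W // v ≠ 0} = 15 := by
    rw [Fintype.card_subtype_compl, Fintype.card_subtype_eq, Module.card_eq_pow_finrank (K := ZMod 2), ZMod.card, hW]
    norm_num
  have hsur := ((Fintype.bijective_iff_injective_and_card orb).mpr ⟨hinj, by simp [hcard]⟩).2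
  have hq : ∀ v ∈ W, v ≠ 0 → Q.q v = Q.q v0 := fun v hv hv0' => by
    obtain ⟨p, hp⟩ := hsur ⟨⟨v, hv⟩, fun h => hv0' (congrArg Subtype.val h)⟩
    have e : ((Y ^ p.1.val) * (F ^ p.2.val)) v0 = v := congrArg (fun w => (w.1 : V)) hp
    rw [← e]; exact (hqpow Y hYq _ _).trans (hqpow F hFq _ _)
  have hB : ∀ u ∈ W, ∀ v ∈ W, u ≠ 0 → v ≠ 0 → u ≠ v → Q.B u v = Q.q v0 := fun u hu v hv h1 h2 h3 => by
    have := Q.polar u v
    rw [hq _ (add_mem hu hv) (fun h => h3 (eq_of_add0 h)), hq u hu h1, hq v hv h2] at this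
    rcases zmod2_cases (Q.B u v) with h | h <;> rcases zmod2_cases (Q.q v0) with h' | h' <;>
      rw [h, h'] at this ⊢ <;> first | rfl | exact absurd this (by decide)
  obtain ⟨w, hw, hw0, hwv⟩ : ∃ w ∈ W, w ≠ 0 ∧ w ≠ v0 :=
    ⟨Y v0, hYW _ hv0, fun h => hne (by simpa using h), fun h => hne (hY1 _ hv0 h)⟩
  obtain ⟨u, hu, hu0, huv, huw, huvw⟩ : ∃ u ∈ W, u ≠ 0 ∧ u ≠ v0 ∧ u ≠ w ∧ u ≠ v0 + w := by
    by_contra! hcon
    have hsub : ∀ x : W, x ∈ ({0, ⟨v0, hv0⟩, ⟨w, hw⟩, ⟨v0 + w, add_mem hv0 hw⟩} : Finset W) := fun x => by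
      simp only [Finset.mem_insert, Finset.mem_singleton]
      by_cases a : (x : V) = 0
      · exact Or.inl (Subtype.ext a)
      by_cases b : (x : V) = v0
      · exact Or.inr (Or.inl (Subtype.ext b))
      by_cases c : (x : V) = w
      · exact Or.inr (Or.inr (Or.inl (Subtype.ext c)))
      · exact Or.inr (Or.inr (Or.inr (Subtype.ext (hcon x x.2 a b c))))
    have hc : Fintype.card W ≤ 4 := (Finset.card_le_card (s := Finset.univ) fun x _ => hsub x).trans Finset.card_le_four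
    rw [Module.card_eq_pow_finrank (K := ZMod 2), ZMod.card, hW] at hc
    norm_num at hc
  have h1 := hB u hu v0 hv0 hu0 hne huv
  have h2 := hB u hu w hw hu0 hw0 huw
  have h3 := hB u hu _ (add_mem hv0 hw) hu0 (fun h => hwv (eq_of_add0 h).symm) huvw
  rw [map_add, h1, h2] at h3
  have hc0 : Q.q v0 = 0 := by rcases zmod2_cases (Q.q v0) with h | h <;> rw [h] at h3 ⊢; exact absurd h3 (by decide)
  refine hne (hnd v0 hv0 fun x hx => ?_)
  by_cases hx0 : x = 0
  · rw [hx0, map_zero]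
  by_cases hxv : x = v0
  · rw [hxv, Q.alt]
  rw [hB v0 hv0 x hx hne hx0 (Ne.symm hxv), hc0]

end Cfsg.Agent.S3A6Q9
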