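import Cfsg.Agent.Lib.S3A6Q9.Centre

/-
The linear data attached to a conjugate of z inside Q: the space E (image of Q ∩ P) and the
elementary abelian group T (image of C_P(z)).  In the second type there is none; in the first type
its shape is determined by the position of the vector.
-/

set_option autoImplicit false

namespace Cfsg.Agent.S3A6Q9

open Module Equiv Equiv.Perm

theorem S3_abelian_two (A : Subgroup S3) (h : ∀ p ∈ A, p * p = 1) (hc : ∀ p ∈ A, ∀ r ∈ A, p * r = r * p)
    {p r : S3} (hp : p ∈ A) (hr : r ∈ A) : p = 1 ∨ r = 1 ∨ p = r := by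
  have key : ∀ p r : S3, p * p = 1 → r * r = 1 → p * r = r * p → p = 1 ∨ r = 1 ∨ p = r := by decide
  exact key p r (h p hp) (h r hr) (hc p hp r hr)

namespace Rep

variable {H : Type*} [Group H] {V : Type*} [AddCommGroup V] [Module (ZMod 2) V] (R : Rep H V)

/-- An elementary abelian 2-subgroup. -/
def Elem2 (T : Subgroup H) : Prop := (∀ a ∈ T, ∀ b ∈ T, a * b = b * a) ∧ ∀ a ∈ T, a * a = 1

theorem elem_pi {T : Subgroup H} (hT : Elem2 T) {a b : H} (ha : a ∈ T) (hb : b ∈ T) :
    R.pi a = 1 ∨ R.pi b = 1 ∨ R.pi a = R.pi b := by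
  refine S3_abelian_two (T.map R.pi) ?_ ?_ (Subgroup.mem_map_of_mem _ ha) (Subgroup.mem_map_of_mem _ hb)
  · rintro _ ⟨c, hc, rfl⟩; rw [← map_mul, hT.2 c hc, map_one]
  · rintro _ ⟨c, hc, rfl⟩ _ ⟨d, hd, rfl⟩; rw [← map_mul, hT.1 c hc d hd, map_mul]

theorem card_le_two_mul {A : Type*} [Group A] [Finite A] {B : Type*} [Group B] (f : A →* B)
    (h : ∀ a b, f a ≠ 1 → f b ≠ 1 → f a = f b) : Nat.card A ≤ 2 * Nat.card f.ker := by
  classical
  have hr : Nat.card f.range ≤ 2 := by
    by_cases hall : ∀ a, f a = 1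
    · have : f.range = ⊥ := by
        rw [eq_bot_iff]; rintro _ ⟨a, rfl⟩; exact Subgroup.mem_bot.mpr (hall a)
      rw [this, Subgroup.card_bot]; omega
    · simp only [not_forall] at hall
      obtain ⟨a, ha⟩ := hall
      let j : f.range → Bool := fun x => decide ((x : B) = 1)
      have hj : Function.Injective j := by
        rintro ⟨_, b, rfl⟩ ⟨_, c, rfl⟩ e
        simp only [j, decide_eq_decide] at e
        apply Subtype.ext
        by_cases hb : f b = 1
        · show f b = f c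
          rw [hb, e.mp hb]
        · show f b = f c
          exact h b c hb fun hc => hb (e.mpr hc)
      exact (Nat.card_le_card_of_injective j hj).trans (by simp)
  rw [Subgroup.card_eq_card_quotient_mul_card_subgroup f.ker,
    Nat.card_congr (QuotientGroup.quotientKerEquivRange f).toEquiv]
  exact Nat.mul_le_mul_right _ hr

theorem card_half [Finite H] {T : Subgroup H} (hT : Elem2 T) :
    Nat.card T ≤ 2 * Nat.card (T ⊓ R.pi.ker : Subgroup H) := by
  refine (card_le_two_mul (R.pi.comp T.subtype) fun a b h1 h2 => ?_).trans (le_of_eq ?_)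
  · exact ((R.elem_pi hT a.2 b.2).resolve_left h1).resolve_left h2
  · congr 1
    refine Nat.card_congr
      { toFun := fun x => ⟨x.1.1, x.1.2, x.2⟩
        invFun := fun x => ⟨⟨x.1, x.2.1⟩, x.2.2⟩
        left_inv := fun x => rfl
        right_inv := fun x => rfl }

/-- Elementary abelian subgroups of S6 have order at most 8. -/
theorem card_S6_le (A : Subgroup S6) (hc : ∀ a ∈ A, ∀ b ∈ A, a * b = b * a) (h2 : ∀ a ∈ A, a * a = 1) :
    Nat.card A ≤ 8 := by
  haveI : Fact (Nat.Prime 2) := ⟨Nat.prime_two⟩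
  have hp : IsPGroup 2 A := fun a => ⟨1, Subtype.ext (by rw [pow_one, pow_two]; exact h2 a a.2)⟩
  obtain ⟨k, hk⟩ := hp.exists_card_eq
  have h720 : Nat.card S6 = 720 := by
    rw [Nat.card_eq_fintype_card, Fintype.card_perm, Fintype.card_fin]; decide
  obtain ⟨P, hP⟩ := hp.exists_le_sylow
  have hPc : Nat.card P = 16 := by
    have h16 : (2 : ℕ) ^ (720 : ℕ).factorization 2 = 16 := by
      have hf : (720 : ℕ).factorization 2 = 4 := by
        rw [Nat.factorization_def _ Nat.prime_two, show (720 : ℕ) = 2 ^ 4 * 45 by norm_num, padicValNat.mul (by norm_num) (by norm_num),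
          padicValNat.prime_pow, padicValNat.eq_zero_of_not_dvd (by norm_num)]
      rw [hf]; rfl
    rw [Sylow.card_eq_multiplicity, h720, h16]
  by_contra hlt
  have hle := Nat.le_of_dvd (by rw [hPc]; omega) (Subgroup.card_dvd_of_le hP)
  have hAP : A = (P : Subgroup S6) := by
    refine Subgroup.eq_of_le_of_card_ge hP ?_
    rw [hPc]
    rw [hk] at hlt ⊢
    have hk4 : k ≤ 4 := by
      by_contra hh
      have h32 : 2 ^ 5 ≤ 2 ^ k := Nat.pow_le_pow_right (by norm_num) (by omega)
      rw [hk, hPc] at hle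
      omega
    interval_cases k <;> omega
  -- every Sylow 2-subgroup has an element of order four
  set g : S6 := swap 0 1 * swap 1 2 * swap 2 3 with hg
  have hg4 : g ^ 4 = 1 ∧ g * g ≠ 1 := by rw [hg]; decide +kernel
  have hgp : IsPGroup 2 (Subgroup.zpowers g) := fun a => ⟨2, by
    obtain ⟨n, hn⟩ := Subgroup.mem_zpowers_iff.mp a.2
    apply Subtype.ext
    show (a : S6) ^ (2 ^ 2) = 1
    rw [← hn, ← zpow_natCast, ← zpow_mul, mul_comm, zpow_mul, zpow_natCast]
    rw [show (2 : ℕ) ^ 2 = 4 from rfl, hg4.1, one_zpow]⟩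
  obtain ⟨P', hP'⟩ := hgp.exists_le_sylow
  obtain ⟨x, hx⟩ := MulAction.exists_smul_eq S6 P' P
  have hgP : x * g * x⁻¹ ∈ (P : Subgroup S6) := by
    rw [← hx, Sylow.coe_subgroup_smul]
    exact Subgroup.smul_mem_pointwise_smul g (MulAut.conj x) _ (hP' (Subgroup.mem_zpowers g))
  have := h2 _ (hAP ▸ hgP)
  exact hg4.2 (by
    calc g * g = x⁻¹ * (x * g * x⁻¹ * (x * g * x⁻¹)) * x := by group
      _ = 1 := by rw [this]; group)

theorem card_ker_le [Finite H] {T : Subgroup H} (hT : Elem2 T) :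
    Nat.card (T ⊓ R.pi.ker : Subgroup H) ≤ 8 := by
  have hinj : Function.Injective (R.rho.comp (T ⊓ R.pi.ker).subtype) := fun a b e =>
    Subtype.ext (R.ext (a.2.2.trans b.2.2.symm) e)
  rw [Nat.card_congr (MonoidHom.ofInjective hinj).toEquiv]
  refine card_S6_le _ ?_ ?_
  · rintro _ ⟨a, rfl⟩ _ ⟨b, rfl⟩
    rw [← map_mul, ← map_mul]
    exact congrArg _ (Subtype.ext (hT.1 _ a.2.1 _ b.2.1))
  · rintro _ ⟨a, rfl⟩
    rw [← map_mul, show a * a = 1 from Subtype.ext (hT.2 _ a.2.1), map_one]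

/-- The linear data of a conjugate of z in Q with image `sb`. -/
structure Local (sb : V) (E : Submodule (ZMod 2) V) (T : Subgroup H) : Prop where
  ne : sb ≠ 0
  mem : sb ∈ E
  iso : ∀ u ∈ E, ∀ v ∈ E, R.Q.B u v = 0
  sing : ∀ u ∈ E, R.Q.q u = 0
  elem : Elem2 T
  fixT : ∀ t ∈ T, R.a t sb = sb
  card : Nat.card T * 2 ^ finrank (ZMod 2) E = 2 ^ 7
  normT : ∀ h, R.a h sb = sb → ∀ t ∈ T, h * t * h⁻¹ ∈ T
  normE : ∀ h, R.a h sb = sb → ∀ v ∈ E, R.a h v ∈ E
  move : ∀ t ∈ T, ∀ v, R.Q.B v sb = 0 → R.a t v + v ∈ E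
  small : ∀ t ∈ T, ∀ v ∈ E, R.a t v = v ∨ R.a t v + v = sb

variable {R}
variable {sb : V} {E : Submodule (ZMod 2) V} {T : Subgroup H}

theorem Local.finrank_le [Finite V] (D : R.Local sb E T) : finrank (ZMod 2) E ≤ 4 := by
  have := R.Q.isotropic_le D.iso
  rw [R.dim] at this
  omega

theorem Local.card_ge [Finite V] (D : R.Local sb E T) : 8 ≤ Nat.card T := by
  have h := D.card
  have := D.finrank_le
  have : 2 ^ finrank (ZMod 2) E ≤ 2 ^ 4 := Nat.pow_le_pow_right (by norm_num) this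
  by_contra hlt
  have := Nat.mul_le_mul (show Nat.card T ≤ 7 by omega) this
  omega

theorem Local.false_typeII [Finite V] [Finite H] (hII : R.TypeII) (D : R.Local sb E T) : False := by
  obtain ⟨hU2, hq, hN⟩ := hII
  have hsum := R.finrank_UC
  have hT8 := D.card_ge
  have hhalf := R.card_half D.elem
  obtain ⟨u, hu, c, hc, hsb⟩ := R.decomp sb
  by_cases hu0 : u = 0
  · -- y fixes sb
    rw [hu0, zero_add] at hsb
    have hyfix : R.a R.y sb = sb := by rw [hsb]; exact mem_fix.mp hc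
    have hTker : T ≤ R.pi.ker := by
      intro t ht
      have h2 : R.pi t * R.pi t = 1 := by rw [← map_mul, D.elem.2 t ht, map_one]
      have h2' : R.pi (R.y * t * R.y⁻¹) * R.pi (R.y * t * R.y⁻¹) = 1 := by
        rw [← map_mul, D.elem.2 _ (D.normT R.y hyfix t ht), map_one]
      have hc' : R.pi (R.y * t * R.y⁻¹) * R.pi t = R.pi t * R.pi (R.y * t * R.y⁻¹) := by
        rw [← map_mul, D.elem.1 _ (D.normT R.y hyfix t ht) t ht, map_mul]
      have key : ∀ a p : S3, a * a = 1 → p * a * p⁻¹ * a = a * (p * a * p⁻¹) → sign p = 1 → p ≠ 1 → a = 1 := by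
        decide
      rw [map_mul, map_mul, map_inv] at hc'
      exact key _ _ h2 hc' R.y_sign R.y_pi
    have hT := R.card_ker_le D.elem
    rw [inf_eq_left.mpr hTker] at hT
    have hE : finrank (ZMod 2) E = 4 := by
      have h := D.card
      rw [show Nat.card T = 8 by omega] at h
      have : 2 ^ finrank (ZMod 2) E = 2 ^ 4 := by omega
      exact Nat.pow_right_injective le_rfl this
    have hEC : E ≤ R.C := by
      intro v hv
      have hm : R.Y v + v ∈ E := add_mem (D.normE R.y hyfix v hv) hv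
      by_contra hv'
      have := hq _ (mov_mem R.Y v) fun e => hv' (mem_fix.mpr (eq_of_add0 e))
      rw [D.sing _ hm] at this
      exact zero_ne_one this
    have hle : E ⊔ R.U ≤ R.Q.perp E := by
      refine sup_le (fun v hv => R.Q.mem_perp.mpr fun w hw => D.iso w hw v hv) fun v hv =>
        R.Q.mem_perp.mpr fun w hw => by rw [R.Q.comm]; exact R.orth_UC hv (hEC hw)
    have h1 := Submodule.finrank_mono hle
    have h2 := R.Q.finrank_perp E
    have h3 := Submodule.finrank_sup_add_finrank_inf_eq E R.U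
    have h4 : E ⊓ R.U = ⊥ := by
      rw [Submodule.eq_bot_iff]; exact fun v hv => R.U_inf_C hv.2 (hEC hv.1)
    rw [h4, finrank_bot] at h3
    rw [R.dim] at h2
    omega
  -- the case where sb has a component in U
  set I := E ⊓ R.C with hI
  set T1 := T ⊓ R.pi.ker with hT1
  have hsbC : sb ∉ R.C := fun h => hu0 (R.U_inf_C hu (by
    have : u = sb + c := by rw [hsb, add_assoc, add_self0, add_zero]
    rw [this]; exact add_mem h hc))
  have hqc : R.Q.q c = 1 := by
    have h := D.sing sb D.mem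
    rw [hsb, R.Q.polar, hq u hu hu0, R.orth_UC hu hc, add_zero] at h
    rcases zmod2_cases (R.Q.q c) with e | e
    · rw [e] at h; exact absurd h (by decide)
    · exact e
  have hI2 : finrank (ZMod 2) I ≤ 2 := by
    have hle : I ⊔ R.U ≤ R.Q.perp I :=
      sup_le (fun v hv => R.Q.mem_perp.mpr fun w hw => D.iso w hw.1 v hv.1) fun v hv =>
        R.Q.mem_perp.mpr fun w hw => by rw [R.Q.comm]; exact R.orth_UC hv hw.2
    have h1 := Submodule.finrank_mono hle
    have h2 := R.Q.finrank_perp I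
    have h3 := Submodule.finrank_sup_add_finrank_inf_eq I R.U
    have h4 : I ⊓ R.U = ⊥ := by
      rw [Submodule.eq_bot_iff]; exact fun v hv => R.U_inf_C hv.2 hv.1.2
    rw [h4, finrank_bot] at h3
    rw [R.dim] at h2
    by_contra hlt
    have heq : I ⊔ R.U = R.Q.perp I := Submodule.eq_of_le_of_finrank_le hle (by omega)
    have hsp : sb ∈ R.Q.perp I := R.Q.mem_perp.mpr fun w hw => D.iso w hw.1 sb D.mem
    rw [← heq] at hsp
    obtain ⟨i, hi, u', hu', e⟩ := Submodule.mem_sup.mp hsp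
    have hci : c = i := by
      have h0 : c + i = 0 := R.U_inf_C (by
        have : c + i = u + u' := by
          rw [hsb] at e
          calc c + i = (i + u') + (u' + c) := by
                rw [show (i + u') + (u' + c) = c + i + (u' + u') by abel, add_self0, add_zero]
            _ = (u + c) + (u' + c) := by rw [e]
            _ = u + u' := by rw [show u + c + (u' + c) = u + u' + (c + c) by abel, add_self0, add_zero]
        rw [this]; exact add_mem hu hu') (add_mem hc hi.2)
      exact eq_of_add0 h0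
    rw [hci, D.sing i hi.1] at hqc
    exact zero_ne_one hqc
  have hfixU : ∀ t ∈ T1, ∀ v ∈ R.U, R.a t v = v := fun t ht v hv => hN t ht.2 v hv
  have hmove : ∀ t ∈ T1, ∀ v ∈ R.C, R.a t v + v ∈ I := by
    intro t ht v hv
    have hvt : R.a t v + v ∈ R.C := add_mem (R.map_C (R.comm_y ht.2) hv) hv
    obtain ⟨u', hu', hB⟩ : ∃ u' ∈ R.U, R.Q.B (u' + v) sb = 0 := by
      rcases zmod2_cases (R.Q.B v sb) with e | e
      · exact ⟨0, zero_mem _, by rw [zero_add, e]⟩
      · refine ⟨R.Y u, R.Y_U hu, ?_⟩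
        have hYu : R.Q.B (R.Y u) u = 1 := by
          have h := R.Q.polar (R.Y u) u
          have hs : R.Y u + u = R.Y (R.Y u) := eq_of_add0 (by
            rw [show R.Y u + u + R.Y (R.Y u) = u + R.Y u + R.Y (R.Y u) by abel]; exact R.sum_mem_U hu)
          rw [hs, R.iso, R.iso, hq u hu hu0] at h
          rcases zmod2_cases (R.Q.B (R.Y u) u) with e' | e'
          · rw [e'] at h; exact absurd h (by decide)
          · exact e'
        rw [map_add, LinearMap.add_apply, e, hsb, map_add, hYu, R.orth_UC (R.Y_U hu) hc, add_zero]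
        decide
    have h := D.move t ht.1 _ hB
    rw [map_add, hfixU t ht u' hu', show u' + R.a t v + (u' + v) = (u' + u') + (R.a t v + v) by abel,
      add_self0, zero_add] at h
    exact ⟨h, hvt⟩
  have hfixI : ∀ t ∈ T1, ∀ v ∈ I, R.a t v = v := by
    intro t ht v hv
    rcases D.small t ht.1 v hv.1 with e | e
    · exact e
    · exact absurd (e ▸ (hmove t ht v hv.2).2) hsbC
  set J := R.C ⊓ R.Q.perp I with hJ
  have hfixJ : ∀ t ∈ T1, ∀ v ∈ J, R.a t v = v := by
    intro t ht v hv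
    refine eq_of_add0 (R.Q.nondeg _ fun x => ?_)
    obtain ⟨xu, hxu, xc, hxc, rfl⟩ := R.decomp x
    rw [map_add (R.Q.B _), R.Q.comm _ xu, R.orth_UC hxu (hmove t ht v hv.1).2, zero_add]
    have h1 : R.a t (R.a t v) = v := by rw [← R.a_mul, D.elem.2 t ht.1, R.a_one]
    have h2 : R.Q.B (R.a t v) xc = R.Q.B v (R.a t xc) := by
      conv_rhs => rw [← R.B_a t, ← R.a_mul t t, D.elem.2 t ht.1, R.a_one]
    rw [map_add, LinearMap.add_apply, h2, ← map_add]
    exact R.Q.mem_perp.mp hv.2 _ (hmove t ht xc hxc) |> fun h => by rw [R.Q.comm]; exact h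
  have hT14 : 4 ≤ Nat.card T1 := by omega
  -- an element of T1 fixing C is trivial
  have hinj : ∀ t ∈ T1, (∀ v ∈ R.C, R.a t v = v) → t = 1 := fun t ht h => R.faith t fun v => by
    obtain ⟨a, ha, b, hb, rfl⟩ := R.decomp v
    rw [map_add, hfixU t ht a ha, h b hb]
  obtain ⟨t, htT, ht1, t', ht'T, ht'1, htt⟩ : ∃ t ∈ T1, t ≠ 1 ∧ ∃ t' ∈ T1, t' ≠ 1 ∧ t' ≠ t := by
    classical
    haveI := Fintype.ofFinite T1
    rw [Nat.card_eq_fintype_card] at hT14
    obtain ⟨a, b, c', hab, hac, hbc⟩ := Fintype.two_lt_card_iff.mp (show 2 < Fintype.card T1 by omega)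
    by_cases ha : (a : H) = 1
    · exact ⟨b, b.2, fun e => hab (Subtype.ext (ha.trans e.symm)), c', c'.2,
        fun e => hac (Subtype.ext (ha.trans e.symm)), fun e => hbc (Subtype.ext e.symm)⟩
    · by_cases hb : (b : H) = 1
      · exact ⟨a, a.2, ha, c', c'.2, fun e => hbc (Subtype.ext (hb.trans e.symm)), fun e => hac (Subtype.ext e.symm)⟩
      · exact ⟨a, a.2, ha, b, b.2, hb, fun e => hab (Subtype.ext e.symm)⟩
  -- a basis of I with dual vectors in C
  by_cases hI0 : ∀ x ∈ R.C, ∀ i ∈ I, R.Q.B i x = 0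
  · refine ht1 (hinj t htT fun v hv => hfixJ t htT v ⟨hv, R.Q.mem_perp.mpr fun i hi => hI0 v hv i hi⟩)
  simp only [not_forall] at hI0
  obtain ⟨x1, hx1, i1, hi1, hB11⟩ := hI0
  have hB11 : R.Q.B i1 x1 = 1 := (zmod2_cases _).resolve_left hB11
  have hdist : ∀ t ∈ T1, ∀ x ∈ R.C, R.Q.B x (R.a t x + x) = 0 := by
    intro t ht x hx
    have h := R.Q.polar x (R.a t x + x)
    rw [show x + (R.a t x + x) = R.a t x + (x + x) by abel, add_self0, add_zero, R.iso,
      D.sing _ (hmove t ht x hx).1, add_zero] at h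
    exact (add_eq_left.mp h.symm)
  by_cases hI1 : ∀ i ∈ I, i = 0 ∨ i = i1
  · refine ht1 (hinj t htT fun v hv => ?_)
    have hv' : v + R.Q.B i1 v • x1 ∈ J := by
      refine ⟨add_mem hv (Submodule.smul_mem _ _ hx1), R.Q.mem_perp.mpr fun i hi => ?_⟩
      rcases hI1 i hi with rfl | rfl
      · rw [map_zero, LinearMap.zero_apply]
      · rw [map_add, map_smul, hB11, smul_eq_mul, mul_one, zmod2_add_self]
    have hx1f : R.a t x1 = x1 := by
      rcases hI1 _ (hmove t htT x1 hx1) with e | e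
      · exact eq_of_add0 e
      · have := hdist t htT x1 hx1
        rw [e, R.Q.comm, hB11] at this
        exact absurd this one_ne_zero
    have h := hfixJ t htT _ hv'
    rw [map_add, map_smul, hx1f] at h
    exact add_right_cancel h
  simp only [not_forall, not_or] at hI1
  obtain ⟨j, hj, hj0, hj1⟩ := hI1
  -- adjust j so that B j x1 = 0
  obtain ⟨i2, hi2, hi20, hi21, hB21⟩ : ∃ i2 ∈ I, i2 ≠ 0 ∧ i2 ≠ i1 ∧ R.Q.B i2 x1 = 0 := by
    rcases zmod2_cases (R.Q.B j x1) with e | e
    · exact ⟨j, hj, hj0, hj1, e⟩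
    · refine ⟨j + i1, add_mem hj hi1, fun h => hj1 (eq_of_add0 h), fun h => hj0 ?_, ?_⟩
      · exact add_eq_right.mp h
      · rw [map_add, LinearMap.add_apply, e, hB11]; decide
  have hi10 : i1 ≠ 0 := fun h => by rw [h, map_zero, LinearMap.zero_apply] at hB11; exact zero_ne_one hB11
  obtain ⟨x2, hx2, hB22, hB12⟩ : ∃ x2 ∈ R.C, R.Q.B i2 x2 = 1 ∧ R.Q.B i1 x2 = 0 := by
    obtain ⟨w, hw⟩ : ∃ w, R.Q.B i2 w = 1 := by
      by_contra! h
      exact hi20 (R.Q.nondeg i2 fun w => (zmod2_cases _).resolve_right (h w))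
    obtain ⟨wu, hwu, wc, hwc, rfl⟩ := R.decomp w
    rw [map_add, R.Q.comm i2 wu, R.orth_UC hwu hi2.2, zero_add] at hw
    refine ⟨wc + R.Q.B i1 wc • x1, add_mem hwc (Submodule.smul_mem _ _ hx1), ?_, ?_⟩
    · rw [map_add, map_smul, hB21, smul_zero, add_zero, hw]
    · rw [map_add, map_smul, hB11, smul_eq_mul, mul_one, zmod2_add_self]
  have hspanI : ∀ i ∈ I, i = 0 ∨ i = i1 ∨ i = i2 ∨ i = i1 + i2 := by
    intro i hi
    have hs : Submodule.span (ZMod 2) ({i1, i2} : Set V) = I := by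
      refine Submodule.eq_of_le_of_finrank_le (Submodule.span_le.mpr (by rintro x (rfl | rfl); exacts [hi1, hi2])) ?_
      have hli : LinearIndependent (ZMod 2) ![i1, i2] := by
        refine (LinearIndependent.pair_iff' hi10).mpr fun a ha => ?_
        rcases zmod2_cases a with rfl | rfl
        · rw [zero_smul] at ha; exact hi20 ha.symm
        · rw [one_smul] at ha; exact hi21 ha.symm
      have h := finrank_span_eq_card hli
      rw [Fintype.card_fin, Matrix.range_cons_cons_empty] at h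
      omega
    rw [← hs, Submodule.mem_span_pair] at hi
    obtain ⟨a, b, rfl⟩ := hi
    rcases zmod2_cases a with rfl | rfl <;> rcases zmod2_cases b with rfl | rfl <;> simp
  have hd1 : ∀ t ∈ T1, R.a t x1 + x1 = 0 ∨ R.a t x1 + x1 = i2 := by
    intro t ht
    have hh := hdist t ht x1 hx1
    rcases hspanI _ (hmove t ht x1 hx1) with e | e | e | e <;> rw [e] at hh ⊢
    · exact Or.inl rfl
    · rw [R.Q.comm, hB11] at hh; exact absurd hh one_ne_zero
    · exact Or.inr rfl
    · rw [R.Q.comm, map_add, LinearMap.add_apply, hB11, hB21, add_zero] at hh; exact absurd hh one_ne_zero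
  have hd2 : ∀ t ∈ T1, R.a t x2 + x2 = 0 ∨ R.a t x2 + x2 = i1 := by
    intro t ht
    have hh := hdist t ht x2 hx2
    rcases hspanI _ (hmove t ht x2 hx2) with e | e | e | e <;> rw [e] at hh ⊢
    · exact Or.inl rfl
    · exact Or.inr rfl
    · rw [R.Q.comm, hB22] at hh; exact absurd hh one_ne_zero
    · rw [R.Q.comm, map_add, LinearMap.add_apply, hB22, hB12, zero_add] at hh; exact absurd hh one_ne_zero
  -- the two commutators are linked
  have hlink : ∀ t ∈ T1, R.a t x1 + x1 = 0 ↔ R.a t x2 + x2 = 0 := by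
    intro t ht
    have h := R.B_a t x1 x2
    have e1 : R.a t x1 = x1 + (R.a t x1 + x1) := by
      rw [show x1 + (R.a t x1 + x1) = R.a t x1 + (x1 + x1) by abel, add_self0, add_zero]
    have e2 : R.a t x2 = x2 + (R.a t x2 + x2) := by
      rw [show x2 + (R.a t x2 + x2) = R.a t x2 + (x2 + x2) by abel, add_self0, add_zero]
    have hiI : R.Q.B i2 i1 = 0 := D.iso i2 hi2.1 i1 hi1.1
    rw [e1, e2] at h
    rcases hd1 t ht with a | a <;> rcases hd2 t ht with b | b <;> rw [a, b] at h ⊢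
    · simp only [add_zero, map_add, LinearMap.add_apply, R.Q.comm x1 i1, hB11] at h
      exact absurd (add_eq_left.mp h) one_ne_zero
    · simp only [add_zero, map_add, LinearMap.add_apply, hB22] at h
      exact absurd (add_eq_left.mp h) one_ne_zero
    · exact iff_of_false hi20 hi10
  have hdecompC : ∀ v ∈ R.C, v + R.Q.B i1 v • x1 + R.Q.B i2 v • x2 ∈ J := by
    intro v hv
    refine ⟨add_mem (add_mem hv (Submodule.smul_mem _ _ hx1)) (Submodule.smul_mem _ _ hx2),
      R.Q.mem_perp.mpr fun i hi => ?_⟩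
    rcases hspanI i hi with rfl | rfl | rfl | rfl <;>
      simp only [map_zero, LinearMap.zero_apply, map_add, LinearMap.add_apply, map_smul, smul_eq_mul, hB11, hB12, hB21,
        hB22, mul_one, mul_zero, add_zero, zero_add, zmod2_add_self]
    rw [show R.Q.B i1 v + R.Q.B i2 v + R.Q.B i1 v + R.Q.B i2 v =
      (R.Q.B i1 v + R.Q.B i1 v) + (R.Q.B i2 v + R.Q.B i2 v) by abel, zmod2_add_self, zmod2_add_self, add_zero]
  have htriv : ∀ t ∈ T1, R.a t x1 + x1 = 0 → t = 1 := fun t ht h1 => hinj t ht fun v hv => by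
    have h := hfixJ t ht _ (hdecompC v hv)
    rw [map_add, map_add, map_smul, map_smul, eq_of_add0 h1, eq_of_add0 ((hlink t ht).mp h1)] at h
    exact add_right_cancel (add_right_cancel h)
  have e : R.a t x1 + x1 = i2 := (hd1 t htT).resolve_left fun h => ht1 (htriv t htT h)
  have e' : R.a t' x1 + x1 = i2 := (hd1 t' ht'T).resolve_left fun h => ht'1 (htriv t' ht'T h)
  have hmem : t * t' ∈ T1 := mul_mem htT ht'T
  have hh : R.a (t * t') x1 + x1 = 0 := by
    have f1 : R.a t x1 = i2 + x1 := by rw [← e, add_assoc, add_self0, add_zero]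
    have f2 : R.a t' x1 = i2 + x1 := by rw [← e', add_assoc, add_self0, add_zero]
    rw [R.a_mul, f2, map_add, hfixI t htT i2 hi2, f1, ← add_assoc, add_self0, zero_add, add_self0]
  have := htriv _ hmem hh
  exact htt (mul_left_cancel (this.trans (D.elem.2 t htT.1).symm))

theorem Local.exists_even_invol [Finite H] [Finite V] (D : R.Local sb E T) :
    ∃ t ∈ T, R.pi t = 1 ∧ sign (R.rho t) = 1 ∧ t ≠ 1 := by
  have hT8 := D.card_ge
  have hhalf := R.card_half D.elem
  set T1 := T ⊓ R.pi.ker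
  have hT1 : 4 ≤ Nat.card T1 := by omega
  have h := card_le_two_mul ((Equiv.Perm.sign.comp R.rho).comp T1.subtype) fun a b h1 h2 => by
    rw [(Int.units_eq_one_or _).resolve_left h1, (Int.units_eq_one_or _).resolve_left h2]
  have h2 : 1 < Nat.card ((Equiv.Perm.sign.comp R.rho).comp T1.subtype).ker := by omega
  classical
  haveI := Fintype.ofFinite ((Equiv.Perm.sign.comp R.rho).comp T1.subtype).ker
  rw [Nat.card_eq_fintype_card] at h2
  obtain ⟨x, hx⟩ := Fintype.exists_ne_of_one_lt_card h2 1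
  exact ⟨x.1.1, x.1.2.1, x.1.2.2, x.2, fun e => hx (Subtype.ext (Subtype.ext e))⟩

theorem Local.el_mem (D : R.Local sb E T) {σ g : S6} (hσ : sign σ = 1) (hg : sign g = 1)
    (hfix : R.a (R.el g) sb = sb) (hmem : R.el σ ∈ T) : R.el (g * σ * g⁻¹) ∈ T := by
  have h := D.normT _ hfix _ hmem
  rwa [R.el_conj hσ, R.rho_el hg] at h

theorem Local.mov_le (D : R.Local sb E T) {σ : S6} (hmem : R.el σ ∈ T) :
    (R.Q.perp (Submodule.span (ZMod 2) {sb})).map ((R.a (R.el σ)).toLinearMap + LinearMap.id) ≤ E := by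
  rintro _ ⟨v, hv, rfl⟩
  refine D.move _ hmem v ?_
  rw [R.Q.comm]
  exact R.Q.mem_perp.mp hv sb (Submodule.mem_span_singleton_self sb)

theorem Local.three_le [Finite V] (hI : R.TypeI) (D : R.Local sb E T) {σ : S6} (hs : sign σ = 1) (h2 : σ * σ = 1)
    (h1 : σ ≠ 1) (hmem : R.el σ ∈ T) (hsb : sb ∈ R.S σ) : 3 ≤ finrank (ZMod 2) ↥(E ⊓ R.S σ) := by
  set W := R.Q.perp (Submodule.span (ZMod 2) {sb})
  set f := (R.a (R.el σ)).toLinearMap + LinearMap.id
  have hW7 : finrank (ZMod 2) W = 7 := by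
    have h := R.Q.finrank_perp (Submodule.span (ZMod 2) {sb})
    have h1 : finrank (ZMod 2) (Submodule.span (ZMod 2) ({sb} : Set V)) = 1 := finrank_span_singleton D.ne
    have h8 := R.dim
    simp only [W]
    omega
  have hle : W.map f ≤ E ⊓ R.S σ :=
    le_inf (D.mov_le hmem) (LinearMap.map_le_range.trans (mov_le_fix (R.a_el_invol hs h2)))
  have h := Submodule.finrank_mono hle
  have hr := LinearMap.finrank_range_add_finrank_ker (f.comp W.subtype)
  rw [LinearMap.range_comp, Submodule.range_subtype, hW7] at hr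
  have hk : finrank (ZMod 2) (LinearMap.ker (f.comp W.subtype)) ≤ 4 := by
    rw [← R.finrank_S hI hs h2 h1]
    refine LinearMap.finrank_le_finrank_of_injective
      (f := (W.subtype.comp (LinearMap.ker (f.comp W.subtype)).subtype).codRestrict (R.S σ) fun x => x.2) ?_
    intro a b e
    exact Subtype.ext (Subtype.ext (congrArg (Subtype.val : R.S σ → V) e))
  omega

variable (hI : R.TypeI) {L : Lab} (hL : R.Labelled L)
include hI hL

theorem Local.at_centre [Finite H] [Finite V] (D : R.Local sb E T) (hsb : sb ∈ R.cen L) :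
    finrank (ZMod 2) E = 4 ∧ R.cen L ≤ E ∧ (∀ v ∈ E, R.Y v ∈ E → v ∈ R.cen L) ∧
      R.el c0 ∈ T ∧ R.el L.ga ∈ T := by
  have hg := hL.1.1
  obtain ⟨x, hxT, hxp, hxs, hx1⟩ := D.exists_even_invol
  set σ := R.rho x with hσ
  have hσ2 : σ * σ = 1 := by rw [hσ, ← map_mul, D.elem.2 x hxT, map_one]
  have hσ1 : σ ≠ 1 := fun e => hx1 (R.inj x hxp e)
  have hσT : R.el σ ∈ T := by rw [hσ, R.el_eq hxp hxs]; exact hxT
  have hgen : ∀ g ∈ [L.ga, L.gl, L.ha], R.a (R.el g) sb = sb ∧ sign g = 1 := fun g hg' => by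
    have := R.gens_cen hI hL (g := g) (List.mem_cons_of_mem _ hg')
    exact ⟨this.2 sb hsb, this.1⟩
  have hka : σ ∈ L.ka := by
    refine hg.fix_ka σ hxs hσ2 hσ1 fun g hg' => ?_
    have hg'' : R.a (R.el g) sb = sb ∧ sign g = 1 := by
      simp only [List.mem_cons, List.not_mem_nil, or_false] at hg'
      rcases hg' with rfl | rfl | rfl | rfl
      · exact hgen _ (by simp)
      · exact hgen _ (by simp)
      · exact hgen _ (by simp)
      · exact ⟨by rw [R.a_el_mul hg.sha hg.sgl, (hgen L.gl (by simp)).1, (hgen L.ha (by simp)).1],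
          by rw [map_mul, hg.sha, hg.sgl, one_mul]⟩
    have h := congrArg R.rho (D.elem.1 _ hσT _ (D.el_mem hxs hg''.2 hg''.1 hσT))
    rwa [map_mul, map_mul, R.rho_el hxs, R.rho_el (sign_conj hxs)] at h
  -- all of ka lies in T
  have hha : R.a (R.el L.ha) sb = sb := (hgen _ (by simp)).1
  have hmulT : ∀ a b : S6, sign a = 1 → sign b = 1 → R.el a ∈ T → R.el b ∈ T → R.el (a * b) ∈ T :=
    fun a b ha hb h1 h2 => by rw [R.el_mul ha hb]; exact mul_mem h1 h2
  have hcc := basic_facts.2.1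
  have hsp : sign (c0 * L.ga) = 1 := by rw [map_mul, sign_c0, hg.sga, one_mul]
  obtain ⟨hc0T, hgaT⟩ : R.el c0 ∈ T ∧ R.el L.ga ∈ T := by
    have h1 := D.el_mem hxs hg.sha hha hσT
    simp only [Lab.ka, List.mem_cons, List.not_mem_nil, or_false] at hka
    have hprod : L.ha * (c0 * L.ga) * L.ha⁻¹ = (L.ha * c0 * L.ha⁻¹) * (L.ha * L.ga * L.ha⁻¹) := by group
    have fromC : R.el c0 ∈ T → R.el (c0 * L.ga) ∈ T → R.el L.ga ∈ T := fun u v => by
      have := hmulT _ _ sign_c0 hsp u v
      rwa [← mul_assoc, hcc, one_mul] at this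
    have fromA : R.el L.ga ∈ T → R.el (c0 * L.ga) ∈ T → R.el c0 ∈ T := fun u v => by
      have := hmulT _ _ hsp hg.sga v u
      rwa [mul_assoc, hg.ga2, mul_one] at this
    rcases hka with e | e | e <;> rcases hg.ha_cyc with ⟨a, b⟩ | ⟨a, b⟩ <;> rw [e] at h1 hσT
    · rw [a] at h1; exact ⟨hσT, h1⟩
    · rw [a] at h1; exact ⟨hσT, fromC hσT h1⟩
    · rw [b] at h1; exact ⟨fromA hσT h1, hσT⟩
    · rw [b] at h1; exact ⟨h1, hσT⟩
    · rw [hprod, a, b, hg.gac.symm, ← mul_assoc, hg.ga2, one_mul] at h1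
      exact ⟨h1, fromC h1 hσT⟩
    · rw [hprod, a, b, show c0 * L.ga * c0 = c0 * (L.ga * c0) by group, hg.gac, ← mul_assoc, hcc, one_mul] at h1
      exact ⟨fromA h1 hσT, h1⟩
  have hc1 := basic_facts.2.2.1
  have h3a := D.three_le hI sign_c0 hcc hc1 hc0T hsb.1
  have h3b := D.three_le hI hg.sga hg.ga2 hg.ga1 hgaT hsb.2
  have hint : E ⊓ R.S c0 ⊓ (E ⊓ R.S L.ga) ≤ R.cen L := fun v hv => ⟨hv.1.2, hv.2.2⟩
  have hd := Submodule.finrank_sup_add_finrank_inf_eq (E ⊓ R.S c0) (E ⊓ R.S L.ga)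
  have hle := Submodule.finrank_mono (sup_le (inf_le_left : E ⊓ R.S c0 ≤ E) (inf_le_left : E ⊓ R.S L.ga ≤ E))
  have hE4 := D.finrank_le
  have hcen := (R.finrank_cen hI hL).1
  have hi := Submodule.finrank_mono hint
  have heq : E ⊓ R.S c0 ⊓ (E ⊓ R.S L.ga) = R.cen L := Submodule.eq_of_le_of_finrank_le hint (by omega)
  refine ⟨by omega, heq ▸ (inf_le_left.trans inf_le_left), ?_, hc0T, hgaT⟩
  intro v hv hYv
  have key : ∀ t ∈ T, t * R.y = R.y * t → R.a t v = v := by
    intro t ht hty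
    rcases D.small t ht v hv with e | e
    · exact e
    · exfalso
      have e2 : R.a t (R.Y v) + R.Y v = R.Y sb := by rw [R.a_comm hty, ← map_add, e]
      rcases D.small t ht _ hYv with e' | e'
      · rw [e', add_self0] at e2
        exact D.ne ((R.Y).map_eq_zero_iff.mp e2.symm)
      · rw [e'] at e2
        exact D.ne (R.Y_fpf hI e2.symm)
  exact ⟨R.mem_S.mpr (key _ hc0T (R.comm_y (R.pi_el _))), R.mem_S.mpr (key _ hgaT (R.comm_y (R.pi_el _)))⟩

theorem Local.off_centre [Finite H] [Finite V] (D : R.Local sb E T) (hsb : sb ∈ R.S c0) (hnc : ¬ R.Centre L sb)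
    (hc0T : R.el c0 ∈ T) : E = R.S c0 := by
  have hg := hL.1.1
  have hcc := basic_facts.2.1
  obtain ⟨hcover, ⟨i, hgfix⟩, hinj⟩ := R.noncentre hI hL hsb D.ne hnc
  set g := R.y ^ i * R.el L.hl with hgdef
  have hrho : R.rho g = L.hl := by rw [hgdef, map_mul, map_pow, R.y_rho, one_pow, one_mul, R.rho_el hg.shl]
  have hconjT : R.el (L.hl * c0 * L.hl⁻¹) ∈ T := by
    have h := D.normT g hgfix _ hc0T
    rwa [R.el_conj sign_c0, hrho] at h
  have hglT : R.el L.gl ∈ T := by
    rcases hg.hl_c with e | e <;> rw [e] at hconjT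
    · exact hconjT
    · have h := mul_mem hc0T hconjT
      rw [← R.el_mul sign_c0 (by rw [map_mul, sign_c0, hg.sgl, one_mul]), ← mul_assoc, hcc, one_mul] at h
      exact h
  have hES : E ≤ R.S c0 := by
    intro v hv
    rcases D.small _ hc0T v hv with e | e
    · exact R.mem_S.mpr e
    rcases D.small _ hglT v hv with e' | e'
    · rw [← (R.S_gl hI hL).1]; exact R.mem_S.mpr e'
    rw [← (R.S_gl hI hL).2, R.mem_S, R.a_el_mul sign_c0 hg.sgl,
      show R.a (R.el L.gl) v = v + sb by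
        rw [← e', show v + (R.a (R.el L.gl) v + v) = R.a (R.el L.gl) v + (v + v) by abel, add_self0, add_zero],
      map_add, R.mem_S.mp hsb, ← e, ← add_assoc, add_self0, zero_add]
  refine Submodule.eq_of_le_of_finrank_le hES ?_
  rw [R.finrank_S_c0 hI]
  have h3 : 3 ≤ finrank (ZMod 2) E :=
    (D.three_le hI sign_c0 hcc basic_facts.2.2.1 hc0T hsb).trans (Submodule.finrank_mono inf_le_left)
  by_contra hlt
  have hT16 : Nat.card T = 16 := by
    have h := D.card
    rw [show finrank (ZMod 2) E = 3 by omega] at h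
    omega
  -- some element of T acts trivially on {1, ..., 6}
  obtain ⟨t, htT, ht1, htr⟩ : ∃ t ∈ T, t ≠ 1 ∧ R.rho t = 1 := by
    by_contra! h
    have hinj' : Function.Injective (R.rho.comp T.subtype) := by
      rw [injective_iff_map_eq_one]
      intro a ha
      by_contra hne
      exact h a a.2 (fun e => hne (Subtype.ext e)) ha
    have h8 : Nat.card T ≤ 8 := by
      rw [Nat.card_congr (MonoidHom.ofInjective hinj').toEquiv]
      refine card_S6_le _ ?_ ?_
      · rintro _ ⟨a, rfl⟩ _ ⟨b, rfl⟩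
        rw [← map_mul, ← map_mul]
        exact congrArg _ (Subtype.ext (D.elem.1 _ a.2 _ b.2))
      · rintro _ ⟨a, rfl⟩
        rw [← map_mul, show a * a = 1 from Subtype.ext (D.elem.2 _ a.2), map_one]
    omega
  have htp : R.pi t ≠ 1 := fun e => ht1 (R.inj t e htr)
  have hty : t * R.y * t⁻¹ = R.y * R.y := by
    have h2 : R.pi t * R.pi t = 1 := by rw [← map_mul, D.elem.2 t htT, map_one]
    rcases R.pi_class t with e | e | e | ⟨-, e⟩
    · exact absurd e htp
    all_goals first | exact e | (exfalso; apply htp; have hys := R.y_sign; revert h2 e hys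
                                 generalize R.pi t = a; generalize R.pi R.y = p
                                 revert a p; decide)
  -- i = 0
  have hi0 : R.y ^ i = 1 := by
    have h := D.normT g hgfix t htT
    have hc := D.elem.1 _ h t htT
    have hel : R.el L.hl * t = t * R.el L.hl := (R.comm_el htr hg.shl).symm
    have e1 : g * t * g⁻¹ = R.y ^ i * t * (R.y ^ i)⁻¹ := by
      rw [hgdef, mul_inv_rev, show R.y ^ i * R.el L.hl * t * ((R.el L.hl)⁻¹ * (R.y ^ i)⁻¹) =
        R.y ^ i * (R.el L.hl * t) * (R.el L.hl)⁻¹ * (R.y ^ i)⁻¹ by group, hel]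
      group
    rw [e1] at hc
    have hyi : ∀ n : ℕ, t * R.y ^ n * t⁻¹ = (R.y * R.y) ^ n := fun n => by rw [← hty, conj_pow]
    refine R.ext (h1 := ?_) (h2 := by rw [map_pow, R.y_rho, one_pow, map_one])
    have hc' := congrArg R.pi hc
    simp only [map_mul, map_inv, map_pow] at hc'
    have key : ∀ a p : S3, sign a = -1 → p * a * p⁻¹ * a = a * (p * a * p⁻¹) → sign p = 1 → p = 1 := by decide
    rw [map_one, map_pow]
    refine key (R.pi t) _ ?_ hc' (by rw [map_pow, R.y_sign, one_pow])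
    have h2 : R.pi t * R.pi t = 1 := by rw [← map_mul, D.elem.2 t htT, map_one]
    revert h2 htp; generalize R.pi t = a; revert a; decide
  rw [hgdef, hi0, one_mul] at hgfix
  -- hl fixes the image of sb under ga
  set u := R.a (R.el L.ga) sb with hu
  have huS : u ∈ R.S c0 := by
    rw [R.mem_S, hu, ← R.a_el_mul sign_c0 hg.sga, ← hg.gac, R.a_el_mul hg.sga sign_c0, R.mem_S.mp hsb]
  have htu : R.a t u = u := by rw [hu, R.a_comm (R.comm_el htr hg.sga), D.fixT t htT]
  have hyh : ∀ n v, R.a (R.el L.hl) (R.a (R.y ^ n) v) = R.a (R.y ^ n) (R.a (R.el L.hl) v) :=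
    fun n v => R.a_comm (R.el_comm_ypow n) v
  have hu0 : u ≠ 0 := fun e => D.ne ((R.a (R.el L.ga)).map_eq_zero_iff.mp e)
  have hfu : R.a (R.el L.hl) u = u := by
    rcases hcover _ (R.hl_S0 hI hL huS) with e | e | ⟨j, hj, e | e⟩
    · exact absurd ((R.a (R.el L.hl)).map_eq_zero_iff.mp e) hu0
    · exact absurd (Centre.of_el R hg.sga (Centre.of_el R hg.shl e)) hnc
    · exfalso
      have e' : R.a (R.el L.hl) u = R.a (R.el L.hl) (R.a (R.y ^ j) sb) := by rw [e, hyh, hgfix]
      have h := hinj (a₁ := (⟨0, by norm_num⟩, true)) (a₂ := (⟨j, hj⟩, false))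
        (by simpa [R.a_one] using (R.a (R.el L.hl)).injective e')
      exact Bool.noConfusion (congrArg Prod.snd h)
    · have ht := congrArg (R.a t) e
      rw [R.a_comm (R.comm_el htr hg.shl), htu, e] at ht
      have hty' : ∀ n v, R.a t (R.a (R.y ^ n) v) = R.a (R.y ^ (2 * n)) (R.a t v) := fun n v => by
        rw [← R.a_mul, ← R.a_mul, show t * R.y ^ n = (t * R.y ^ n * t⁻¹) * t by group, ← conj_pow, hty,
          ← pow_two, ← pow_mul]
      rw [hty', htu] at ht
      -- so j = 0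
      have h2 := hinj (a₁ := (⟨j, hj⟩, true)) (a₂ := (⟨2 * j % 3, Nat.mod_lt _ (by norm_num)⟩, true)) (by
        show R.a (R.y ^ j) u = R.a (R.y ^ (2 * j % 3)) u
        rw [ht]
        conv_lhs => rw [← Nat.mod_add_div (2 * j) 3, pow_add, pow_mul, R.y3, one_pow, mul_one])
      have hj' : j = 2 * j % 3 := congrArg (fun p => p.1.val) h2
      have : j = 0 := by omega
      rw [e, this, pow_zero, R.a_one]
  -- so hl fixes S c0 pointwise
  obtain ⟨w, hw, hwne⟩ := R.hl_not_trivial hI hL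
  set W := R.S c0 ⊓ R.S L.hl
  have hW : ∀ p : Fin 3 × Bool, R.a (R.y ^ p.1.val) (if p.2 then u else sb) ∈ W := by
    rintro ⟨k, b⟩
    have hk : ∀ x, x ∈ R.S c0 → R.a (R.el L.hl) x = x → R.a (R.y ^ k.val) x ∈ W := fun x hx hx' =>
      ⟨R.mem_S.mpr (by rw [R.a_comm (R.el_comm_ypow k.val), R.mem_S.mp hx]),
        R.mem_S.mpr (by rw [hyh, hx'])⟩
    cases b
    · exact hk sb hsb hgfix
    · exact hk u huS hfu
  have hev := R.even_inv hI W fun v hv => ⟨R.Y_S hv.1, R.Y_S hv.2⟩
  have h6 : 6 ≤ 2 ^ finrank (ZMod 2) W := by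
    have h := Nat.card_le_card_of_injective (fun p => (⟨_, hW p⟩ : W)) fun a b e => hinj (congrArg Subtype.val e)
    simp only [Nat.card_eq_fintype_card, Fintype.card_prod, Fintype.card_fin, Fintype.card_bool] at h
    rw [Module.natCard_eq_pow_finrank (K := ZMod 2), Nat.card_zmod] at h
    exact h
  have hW4 : W = R.S c0 := by
    refine Submodule.eq_of_le_of_finrank_le inf_le_left ?_
    rw [R.finrank_S_c0 hI]
    obtain ⟨k, hk⟩ := hev
    by_contra hh
    have : finrank (ZMod 2) W ≤ 2 := by omega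
    have := Nat.pow_le_pow_right (show 2 > 0 by norm_num) this
    omega
  rw [← hW4] at hw
  exact hwne (R.mem_S.mp hw.2)

end Rep

end Cfsg.Agent.S3A6Q9
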