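import Cfsg.Agent.Lib.S3A6Q9.Weak

/-
A conjugate t of z in C(z) outside Q: the group A = C_Q(t), the section D = Q ∩ Q(t), the
commutators with t, and the view from t of the elements of A.
-/

set_option autoImplicit false
set_option linter.unusedSectionVars false

open scoped commutatorElement

namespace Cfsg.Agent.S3A6Q9

open Module Equiv Equiv.Perm
open Cfsg.Agent.LargeExtraspecial (conjS mem_conjS)

namespace Base

variable {G : Type*} [Group G] {H : Type*} [Group H] {V : Type*} [AddCommGroup V] [Module (ZMod 2) V]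
variable (B : Base G H V)

/-- A conjugate of z commuting with z outside Q. -/
def Ext (t : B.M) : Prop := B.Conj (t : G) ∧ (t : G) ∉ B.Q

/-- The commutator with t. -/
def K (t : B.M) (q : G) : G := (t : G) * q * (t : G)⁻¹ * q⁻¹

/-- `C_Q(t)`. -/
abbrev A (t : B.M) : Subgroup G := B.Q ⊓ Subgroup.centralizer {(t : G)}

/-- The image of `C_Q(t)`. -/
noncomputable abbrev pA (t : B.M) : Submodule (ZMod 2) V := B.pimg (B.A t)

/-- The image of `Q ∩ Q(t)`. -/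
noncomputable abbrev pD (t : B.M) : Submodule (ZMod 2) V := B.pimg (B.Qof (t : G))

theorem mem_A {t : B.M} {a : G} : a ∈ B.A t ↔ a ∈ B.Q ∧ a * (t : G) = (t : G) * a := by
  rw [Subgroup.mem_inf, Subgroup.mem_centralizer_singleton_iff]

variable [Finite G] [Finite H] [Finite V] {B}

/-- z is weakly closed in every group attached to a conjugate. -/
theorem eq_of_mem_Qof {v w : G} (hv : B.Conj v) (hw : B.Conj w) (h : v ∈ B.Qof w) : v = w := by
  obtain ⟨k, rfl⟩ := hw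
  rw [B.Qof_eq rfl, mem_conjS] at h
  have h' := B.weakly_closed (v := k⁻¹ * v * k) (by
    have := Conj.conj B hv k⁻¹
    rwa [inv_inv] at this) h
  calc v = k * (k⁻¹ * v * k) * k⁻¹ := by group
    _ = k * B.z * k⁻¹ := by rw [h']

variable {t : B.M}

theorem Ext.sq (e : B.Ext t) : (t : G) * t = 1 := Conj.sq B e.1

theorem Ext.inv (e : B.Ext t) : (t : G)⁻¹ = t := inv_eq_of_mul_eq_one_right e.sq

theorem Ext.phi_ne (e : B.Ext t) : B.phi t ≠ 1 := fun h => e.2 ((B.phi_ker t).mp h)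

theorem Ext.phi_sq (e : B.Ext t) : B.phi t * B.phi t = 1 := by
  rw [← map_mul, show t * t = 1 from Subtype.ext e.sq, map_one]

theorem Ext.a_invol (e : B.Ext t) (v : V) : B.R.a (B.phi t) (B.R.a (B.phi t) v) = v := by
  rw [← B.R.a_mul, e.phi_sq, B.R.a_one]

theorem Ext.mov_le_fix (e : B.Ext t) : Mov (B.R.a (B.phi t)) ≤ Fix (B.R.a (B.phi t)) :=
  S3A6Q9.mov_le_fix e.a_invol

theorem Ext.z_notin (e : B.Ext t) : B.z ∉ B.Qof (t : G) := fun h => e.2 (by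
  rw [← eq_of_mem_Qof ⟨1, by group⟩ e.1 h]; exact B.D.z_mem)

theorem z_mem_A : B.z ∈ B.A t := (mem_A B).mpr ⟨B.D.z_mem, (B.mem_M.mp t.2).symm⟩

theorem mem_pA {a : G} (ha : a ∈ B.Q) : B.p a ∈ B.pA t ↔ a * (t : G) = (t : G) * a := by
  rw [B.p_mem_pimg z_mem_A ha, mem_A B]; exact ⟨fun h => h.2, fun h => ⟨ha, h⟩⟩

theorem card_A : Nat.card (B.A t) = 2 * 2 ^ finrank (ZMod 2) (B.pA t) := by
  rw [← B.card_pimg z_mem_A, show B.A t ⊓ B.Q = B.A t from inf_eq_left.mpr inf_le_left]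

theorem K_mem {q : G} (hq : q ∈ B.Q) : B.K t q ∈ B.Q := mul_mem (B.Q_conj t.2 hq) (inv_mem hq)

theorem p_K {q : G} (hq : q ∈ B.Q) : B.p (B.K t q) = B.R.a (B.phi t) (B.p q) + B.p q := by
  rw [K, B.p_mul _ (B.Q_conj t.2 hq) _ (inv_mem hq), B.p_conj t q hq, B.p_inv hq]

theorem K_mul (q1 q2 : G) : B.K t (q1 * q2) = B.K t q1 * (q1 * B.K t q2 * q1⁻¹) := by
  simp only [K]; group

theorem Ext.conj_K (e : B.Ext t) (q : G) : q * (t : G) * q⁻¹ = (t : G) * B.K t q := by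
  rw [K, e.inv]
  calc q * (t : G) * q⁻¹ = ((t : G) * t) * q * t * q⁻¹ := by rw [e.sq, one_mul]
    _ = _ := by group

theorem Ext.conj_tK (e : B.Ext t) (q : G) : B.Conj ((t : G) * B.K t q) := e.conj_K q ▸ Conj.conj B e.1 q

theorem K_eq_one {q : G} : B.K t q = 1 ↔ q * (t : G) = (t : G) * q := by
  rw [K, mul_inv_eq_one, mul_inv_eq_iff_eq_mul]
  exact ⟨Eq.symm, Eq.symm⟩

theorem K_cases {q : G} (hq : q ∈ B.Q) (h : B.R.a (B.phi t) (B.p q) = B.p q) :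
    B.K t q = 1 ∨ B.K t q = B.z :=
  (B.p_zero _ (K_mem hq)).mp (by rw [p_K hq, h, add_self0])

theorem pA_le_fix : B.pA t ≤ Fix (B.R.a (B.phi t)) := by
  rintro _ ⟨a, ha, haQ, rfl⟩
  rw [mem_fix, ← B.p_conj t a haQ, ← ((mem_A B).mp ha).2, mul_inv_cancel_right]

/-- If some commutator with t is z, then tz is conjugate to z. -/
theorem Ext.tz_of_K (e : B.Ext t) {q : G} (h : B.K t q = B.z) : B.Conj ((t : G) * B.z) := h ▸ e.conj_tK q

/-- A fixed vector outside `pA` gives a commutator z. -/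
theorem Ext.tz_of_fix (e : B.Ext t) {v : V} (hv : v ∈ Fix (B.R.a (B.phi t))) (hn : v ∉ B.pA t) :
    B.Conj ((t : G) * B.z) := by
  obtain ⟨q, hq, rfl⟩ := B.p_surj v
  exact e.tz_of_K ((K_cases hq (mem_fix.mp hv)).resolve_left fun h => hn ((mem_pA hq).mpr (K_eq_one.mp h)))

theorem add_mem_pA {u v : V} (hu : u ∈ Fix (B.R.a (B.phi t))) (hv : v ∈ Fix (B.R.a (B.phi t)))
    (hu' : u ∉ B.pA t) (hv' : v ∉ B.pA t) : u + v ∈ B.pA t := by
  obtain ⟨a, ha, rfl⟩ := B.p_surj u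
  obtain ⟨b, hb, rfl⟩ := B.p_surj v
  have h1 := (K_cases ha (mem_fix.mp hu)).resolve_left fun h => hu' ((mem_pA ha).mpr (K_eq_one.mp h))
  have h2 := (K_cases hb (mem_fix.mp hv)).resolve_left fun h => hv' ((mem_pA hb).mpr (K_eq_one.mp h))
  rw [← B.p_mul a ha b hb, mem_pA (mul_mem ha hb), ← K_eq_one, K_mul, h1, h2]
  rw [B.D.z_central a ha, mul_inv_cancel_right, B.D.z_sq]

theorem finrank_fix_le : finrank (ZMod 2) (Fix (B.R.a (B.phi t))) ≤ finrank (ZMod 2) (B.pA t) + 1 := by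
  by_cases h : Fix (B.R.a (B.phi t)) ≤ B.pA t
  · exact (Submodule.finrank_mono h).trans (Nat.le_succ _)
  obtain ⟨u, hu, hu'⟩ := SetLike.not_le_iff_exists.mp h
  have hle : Fix (B.R.a (B.phi t)) ≤ B.pA t ⊔ Submodule.span (ZMod 2) {u} := by
    intro v hv
    by_cases hv' : v ∈ B.pA t
    · exact Submodule.mem_sup_left hv'
    · rw [show v = (u + v) + u by rw [add_comm u v, add_assoc, add_self0, add_zero]]
      exact add_mem (Submodule.mem_sup_left (add_mem_pA hu hv hu' hv'))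
        (Submodule.mem_sup_right (Submodule.mem_span_singleton_self u))
  have h0 : u ≠ 0 := fun e => hu' (e ▸ zero_mem _)
  refine (Submodule.finrank_mono hle).trans ((Submodule.finrank_add_le_finrank_add_finrank _ _).trans ?_)
  rw [finrank_span_singleton h0]

/-- A commutator vector lies in `pA` exactly when it is singular. -/
theorem Ext.mov_mem_pA (e : B.Ext t) {w : V} (hw : w ∈ Mov (B.R.a (B.phi t))) :
    w ∈ B.pA t ↔ B.R.Q.q w = 0 := by
  obtain ⟨v, rfl⟩ := mem_mov.mp hw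
  obtain ⟨q, hq, rfl⟩ := B.p_surj v
  rw [← p_K hq, mem_pA (K_mem hq), ← B.p_sq _ (K_mem hq)]
  have h : (t : G) * B.K t q * (t : G)⁻¹ = (B.K t q)⁻¹ := by
    have e1 : (t : G) * ((t : G) * q * (t : G)⁻¹ * q⁻¹) * (t : G)⁻¹ =
        ((t : G) * t) * q * ((t : G)⁻¹ * q⁻¹ * (t : G)⁻¹) := by group
    rw [K, e1, e.sq, one_mul, mul_inv_rev, mul_inv_rev, mul_inv_rev, inv_inv, inv_inv, e.inv]
    group
  constructor
  · intro hc
    rw [← hc, mul_inv_cancel_right] at h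
    calc B.K t q * B.K t q = B.K t q * (B.K t q)⁻¹ := by rw [← h]
      _ = 1 := mul_inv_cancel _
  · intro h2
    rw [inv_eq_of_mul_eq_one_right h2] at h
    exact (mul_inv_eq_iff_eq_mul.mp h).symm

theorem Ext.mov_le_pA (e : B.Ext t) (hs : ∀ w ∈ Mov (B.R.a (B.phi t)), B.R.Q.q w = 0) :
    Mov (B.R.a (B.phi t)) ≤ B.pA t := fun _ hw => (e.mov_mem_pA hw).mpr (hs _ hw)

/-! ### The section `Q ∩ Q(t)` -/

theorem Ext.mem_A_of_D (e : B.Ext t) {d : G} (hd : d ∈ B.Q) (hd' : d ∈ B.Qof (t : G)) : d ∈ B.A t :=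
  (mem_A B).mpr ⟨hd, B.Qof_le e.1 hd'⟩

theorem Ext.pD_le (e : B.Ext t) : B.pD t ≤ B.pA t := by
  rintro _ ⟨d, hd, hdQ, rfl⟩
  exact ⟨d, e.mem_A_of_D hdQ hd, hdQ, rfl⟩

theorem Ext.D_eq_one (e : B.Ext t) {d : G} (hd : d ∈ B.Q) (hd' : d ∈ B.Qof (t : G)) (h : B.p d = 0) : d = 1 :=
  ((B.p_zero d hd).mp h).resolve_right fun h' => e.z_notin (h' ▸ hd')

theorem Ext.D_comm (e : B.Ext t) {a d : G} (ha : a ∈ B.A t) (hd : d ∈ B.Q) (hd' : d ∈ B.Qof (t : G)) :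
    a * d = d * a := by
  rw [mem_A B] at ha
  rw [← commutatorElement_eq_one_iff_mul_comm]
  refine (B.D.comm a ha.1 d hd).resolve_right fun h => e.z_notin ?_
  rw [← h, commutatorElement_def]
  exact mul_mem ((B.data e.1).norm a ha.2 d hd') (inv_mem hd')

theorem Ext.D_sq (e : B.Ext t) {d : G} (hd : d ∈ B.Q) (hd' : d ∈ B.Qof (t : G)) : d * d = 1 :=
  (B.D.sq hd).resolve_right fun h => e.z_notin (h ▸ mul_mem hd' hd')

theorem Ext.pD_sing (e : B.Ext t) : ∀ v ∈ B.pD t, B.R.Q.q v = 0 := by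
  rintro _ ⟨d, hd, hdQ, rfl⟩
  exact (B.p_sq d hdQ).mp (e.D_sq hdQ hd)

theorem Ext.pD_orth (e : B.Ext t) {u v : V} (hu : u ∈ B.pD t) (hv : v ∈ B.pA t) : B.R.Q.B u v = 0 := by
  obtain ⟨d, hd, hdQ, rfl⟩ := hu
  obtain ⟨a, ha, haQ, rfl⟩ := hv
  exact (B.p_comm d hdQ a haQ).mp (e.D_comm ha hdQ hd).symm

theorem Ext.not_conj (e : B.Ext t) {d : G} (hd : d ∈ B.Qof (t : G)) (hne : d ≠ 1) : ¬ B.Conj ((t : G) * d) :=
  fun h => hne (mul_eq_left.mp (eq_of_mem_Qof h e.1 (mul_mem (B.data e.1).z_mem hd)))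

theorem Ext.conj_all (e : B.Ext t) (htz : B.Conj ((t : G) * B.z)) {a : G} (ha : a ∈ B.Q)
    (hm : B.p a ∈ Mov (B.R.a (B.phi t))) : B.Conj ((t : G) * a) := by
  obtain ⟨v, hv⟩ := mem_mov.mp hm
  obtain ⟨q, hq, rfl⟩ := B.p_surj v
  rcases B.eq_of_p ha (K_mem hq) ((p_K hq).trans hv).symm with rfl | rfl
  · exact e.conj_tK q
  · have h : (t : G) * (B.K t q * B.z) = q * ((t : G) * B.z) * q⁻¹ := by
      rw [← mul_assoc, ← e.conj_K, mul_assoc, B.D.z_central _ (inv_mem hq)]; group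
    rw [h]; exact Conj.conj B htz q

theorem Ext.pD_inf_mov (e : B.Ext t) (htz : B.Conj ((t : G) * B.z)) {v : V} (hv : v ∈ B.pD t)
    (hm : v ∈ Mov (B.R.a (B.phi t))) : v = 0 := by
  obtain ⟨d, hd, hdQ, rfl⟩ := hv
  by_contra h0
  exact e.not_conj hd (fun h => h0 (h ▸ B.p_one)) (e.conj_all htz hdQ hm)

/-- A subgroup of A meeting ⟨z⟩ trivially and avoiding the translates of conjugates has small image. -/
theorem Ext.twisted (e : B.Ext t) {J : Subgroup G}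
    (hm : B.pimg J ≤ Mov (B.R.a (B.phi t))) (hn : ∀ a ∈ J, a ≠ 1 → ¬ B.Conj ((t : G) * a)) :
    (∀ w1 ∈ B.pimg J, ∀ w2 ∈ B.pimg J, w1 ≠ 0 → w2 ≠ 0 → w1 ≠ w2 →
      ∀ v, B.R.a (B.phi t) v + v = w1 → B.R.Q.B v w2 = 1) ∧ finrank (ZMod 2) (B.pimg J) ≤ 2 := by
  have key : ∀ w1 ∈ B.pimg J, ∀ w2 ∈ B.pimg J, w1 ≠ 0 → w2 ≠ 0 → w1 ≠ w2 →
      ∀ v, B.R.a (B.phi t) v + v = w1 → B.R.Q.B v w2 = 1 := by
    rintro _ ⟨a1, ha1, ha1Q, rfl⟩ _ ⟨a2, ha2, ha2Q, rfl⟩ h1 h2 h12 v hv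
    refine (zmod2_cases _).resolve_left fun hB => ?_
    obtain ⟨q1, hq1, rfl⟩ := B.p_surj v
    obtain ⟨v2, hv2⟩ := mem_mov.mp (hm ⟨a2, ha2, ha2Q, rfl⟩)
    obtain ⟨q2, hq2, rfl⟩ := B.p_surj v2
    have tw : ∀ {a q : G}, a ∈ J → a ∈ B.Q → q ∈ B.Q → B.p a ≠ 0 →
        B.R.a (B.phi t) (B.p q) + B.p q = B.p a → a = B.K t q * B.z := by
      intro a q haJ ha hq h0 hq'
      refine (B.eq_of_p ha (K_mem hq) ((p_K hq).trans hq').symm).resolve_left fun h => ?_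
      exact hn a haJ (fun e' => h0 (e' ▸ B.p_one)) (h ▸ e.conj_tK q)
    have e1 := tw ha1 ha1Q hq1 h1 hv
    have e2 := tw ha2 ha2Q hq2 h2 hv2
    have hc : q1 * B.K t q2 = B.K t q2 * q1 := by
      rw [B.p_comm q1 hq1 _ (K_mem hq2), p_K hq2, hv2]; exact hB
    have e3 : B.K t (q1 * q2) = a1 * a2 := by
      rw [K_mul, hc, mul_inv_cancel_right, e1, e2]
      calc B.K t q1 * B.K t q2 = B.K t q1 * ((B.z * B.z) * B.K t q2) := by rw [B.D.z_sq, one_mul]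
        _ = B.K t q1 * B.z * (B.z * B.K t q2) := by group
        _ = _ := by rw [(B.D.z_central _ (K_mem hq2)).symm]
    refine hn _ (mul_mem ha1 ha2) (fun h => h12 ?_) (e3 ▸ e.conj_tK _)
    rw [eq_inv_of_mul_eq_one_left h, B.p_inv ha2Q]
  refine ⟨key, ?_⟩
  by_contra! h3
  obtain ⟨w1, hw1, n1⟩ := Submodule.exists_mem_ne_zero_of_ne_bot (p := B.pimg J) fun h => by
    rw [h, finrank_bot] at h3; omega
  have hlt : ¬ B.pimg J ≤ Submodule.span (ZMod 2) {w1} := fun h => by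
    have := Submodule.finrank_mono h
    rw [finrank_span_singleton n1] at this; omega
  obtain ⟨w2, hw2, hw2'⟩ := SetLike.not_le_iff_exists.mp hlt
  have hlt2 : ¬ B.pimg J ≤ Submodule.span (ZMod 2) {w1, w2} := fun h => by
    have := (Submodule.finrank_mono h).trans (finrank_span_pair_le _ _)
    omega
  obtain ⟨w3, hw3, hw3'⟩ := SetLike.not_le_iff_exists.mp hlt2
  obtain ⟨v, hv⟩ := mem_mov.mp (hm hw1)
  have a2 := key w1 hw1 w2 hw2 n1 (fun h => hw2' (h ▸ zero_mem _))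
    (fun h => hw2' (h ▸ Submodule.mem_span_singleton_self _)) v hv
  have a3 := key w1 hw1 w3 hw3 n1 (fun h => hw3' (h ▸ zero_mem _))
    (fun h => hw3' (h ▸ Submodule.subset_span (by simp))) v hv
  have a4 := key w1 hw1 _ (add_mem hw2 hw3) n1 (fun h => hw3' (eq_of_add0 h ▸ Submodule.subset_span (by simp)))
    (fun h => hw3' (by
      rw [show w3 = w1 + w2 by rw [h, add_comm, ← add_assoc, add_self0, zero_add]]
      exact add_mem (Submodule.subset_span (by simp)) (Submodule.subset_span (by simp)))) v hv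
  rw [map_add, a2, a3] at a4
  exact absurd a4 (by decide)

/-! ### The view from t -/

theorem Ext.exists_view (e : B.Ext t) :
    ∃ f : ↥(B.A t) →* H, (∀ a, f a = 1 ↔ (a : G) ∈ B.Qof (t : G)) ∧
      (∀ a : B.A t, (B.Conj ((t : G) * a) ∨ (a : G) = B.z) → f a ≠ 1 → ∃ t', B.Ext t' ∧ B.phi t' = f a) := by
  obtain ⟨g, hg⟩ := id e.1
  have hM : ∀ a ∈ B.A t, g⁻¹ * a * g ∈ B.M := by
    intro a ha
    refine B.mem_M.mpr ?_
    have h := ((mem_A B).mp ha).2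
    rw [← hg] at h
    calc g⁻¹ * a * g * B.z = g⁻¹ * (a * (g * B.z * g⁻¹)) * g := by group
      _ = g⁻¹ * ((g * B.z * g⁻¹) * a) * g := by rw [h]
      _ = _ := by group
  let f : ↥(B.A t) →* H := B.phi.comp
    { toFun := fun a => (⟨g⁻¹ * (a : G) * g, hM a a.2⟩ : B.M)
      map_one' := Subtype.ext (by simp)
      map_mul' := fun a b => Subtype.ext (by
        show g⁻¹ * ((a : G) * b) * g = g⁻¹ * a * g * (g⁻¹ * b * g)
        group) }
  have hf : ∀ a, f a = B.phi ⟨g⁻¹ * (a : G) * g, hM a a.2⟩ := fun a => rfl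
  have hker : ∀ a, f a = 1 ↔ (a : G) ∈ B.Qof (t : G) := fun a => by
    rw [hf, B.phi_ker, B.Qof_eq hg, mem_conjS]
  have hzphi : B.phi ⟨B.z, B.Q_le_M B.D.z_mem⟩ = 1 := B.phi_Q B.D.z_mem
  refine ⟨f, hker, fun a h hne => ?_⟩
  have hout : g⁻¹ * (a : G) * g ∉ B.Q := fun hq => hne ((B.phi_ker _).mpr hq)
  rcases h with h | h
  · refine ⟨⟨B.z, B.Q_le_M B.D.z_mem⟩ * ⟨g⁻¹ * (a : G) * g, hM a a.2⟩, ⟨?_, ?_⟩, ?_⟩
    · show B.Conj (B.z * (g⁻¹ * (a : G) * g))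
      have h' := Conj.conj B h g⁻¹
      rw [← hg] at h'
      convert h' using 1; group
    · exact fun hq => hout ((Subgroup.mul_mem_cancel_left _ B.D.z_mem).mp hq)
    · rw [map_mul, hzphi, one_mul, hf]
  · refine ⟨⟨g⁻¹ * (a : G) * g, hM a a.2⟩, ⟨?_, hout⟩, rfl⟩
    show B.Conj (g⁻¹ * (a : G) * g)
    rw [h]; exact ⟨g⁻¹, by group⟩

theorem Ext.card_range (e : B.Ext t) {f : ↥(B.A t) →* H} (hf : ∀ a, f a = 1 ↔ (a : G) ∈ B.Qof (t : G)) :
    Nat.card f.range * 2 ^ finrank (ZMod 2) (B.pD t) = 2 * 2 ^ finrank (ZMod 2) (B.pA t) := by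
  rw [← card_A]
  have h := Subgroup.card_eq_card_quotient_mul_card_subgroup f.ker
  rw [Nat.card_congr (QuotientGroup.quotientKerEquivRange f).toEquiv] at h
  rw [h]
  congr 1
  have hc := Module.natCard_eq_pow_finrank (K := ZMod 2) (V := B.pD t)
  rw [Nat.card_zmod] at hc
  rw [← hc]
  refine (Nat.card_congr (Equiv.ofBijective
    (fun a : f.ker => (⟨B.p a.1.1, a.1.1, (hf a.1).mp a.2, a.1.2.1, rfl⟩ : B.pD t)) ⟨?_, ?_⟩)).symm
  · intro a b hab
    have hab' : B.p a.1.1 = B.p b.1.1 := congrArg Subtype.val hab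
    refine Subtype.ext (Subtype.ext ((B.eq_of_p a.1.2.1 b.1.2.1 hab').resolve_right fun h => e.z_notin ?_))
    have hm := mul_mem (inv_mem ((hf b.1).mp b.2)) ((hf a.1).mp a.2)
    rwa [h, inv_mul_cancel_left] at hm
  · rintro ⟨_, d, hd, hdQ, rfl⟩
    exact ⟨⟨⟨d, e.mem_A_of_D hdQ hd⟩, (hf _).mpr hd⟩, rfl⟩

end Base

/-! ### 2-subgroups of H -/

namespace Rep

variable {H : Type*} [Group H] [Finite H] {V : Type*} [AddCommGroup V] [Module (ZMod 2) V]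

theorem card_two_group_le (R : Rep H V) {T : Subgroup H} (hT : IsPGroup 2 T) : Nat.card T ≤ 32 := by
  haveI : Fact (Nat.Prime 2) := ⟨Nat.prime_two⟩
  obtain ⟨k, hk⟩ := IsPGroup.iff_card.mp hT
  have hinj : Function.Injective ((R.pi.prod R.rho).comp T.subtype) := fun a b e =>
    Subtype.ext (R.ext (congrArg Prod.fst e) (congrArg Prod.snd e))
  have hd := Subgroup.card_dvd_of_injective _ hinj
  rw [hk, Nat.card_prod, Nat.card_perm, Nat.card_perm, Nat.card_eq_fintype_card, Nat.card_eq_fintype_card,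
    Fintype.card_fin, Fintype.card_fin, show Nat.factorial 3 * Nat.factorial 6 = 2 ^ 5 * 135 by norm_num [Nat.factorial]] at hd
  have := Nat.le_of_dvd (by norm_num) ((Nat.Coprime.pow_left k (by norm_num : Nat.Coprime 2 135)).dvd_of_dvd_mul_right hd)
  rw [hk]; exact this

theorem card_elem_le (R : Rep H V) {T : Subgroup H} (hT : Elem2 T) : Nat.card T ≤ 16 := by
  have h1 := R.card_half hT
  have h2 := R.card_ker_le hT
  omega

end Rep

end Cfsg.Agent.S3A6Q9
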