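import Cfsg.Agent.Lib.S3A6Q9.OutBasic

/-
The second type: the commutator spaces of the relevant involutions of H are at most planes, and
the image of t is neither an even element of the kernel of the map to S3 nor the central involution
of a Sylow 2-subgroup outside that kernel.
-/

set_option autoImplicit false
set_option linter.unusedSectionVars false

open scoped commutatorElement

namespace Cfsg.Agent.S3A6Q9

open Module Equiv Equiv.Perm

/-- The centralizer in S6 of a 4-cycle has order 8. -/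
theorem centralizer_four_cycle :
    Fintype.card {a : S6 // a * (swap 0 1 * swap 1 2 * swap 2 3) = (swap 0 1 * swap 1 2 * swap 2 3) * a} = 8 := by
  decide +kernel

/-- S6 has no abelian subgroup of order 16. -/
theorem no_abelian_sixteen {T : Subgroup S6} (hT : Nat.card T = 16) (hc : ∀ a ∈ T, ∀ b ∈ T, a * b = b * a) : False := by
  haveI : Fact (Nat.Prime 2) := ⟨Nat.prime_two⟩
  set g : S6 := swap 0 1 * swap 1 2 * swap 2 3 with hg
  have hg4 : g ^ (2 ^ 2) = 1 := by rw [hg]; decide +kernel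
  have hgp : IsPGroup 2 (Subgroup.zpowers g) := fun a => ⟨2, by
    obtain ⟨n, hn⟩ := Subgroup.mem_zpowers_iff.mp a.2
    apply Subtype.ext
    show (a : S6) ^ (2 ^ 2) = 1
    rw [← hn, ← zpow_natCast, ← zpow_mul, mul_comm, zpow_mul, zpow_natCast, hg4, one_zpow]⟩
  obtain ⟨P', hP'⟩ := hgp.exists_le_sylow
  obtain ⟨P, hP⟩ := (IsPGroup.of_card (n := 4) (hT.trans (by norm_num)) : IsPGroup 2 T).exists_le_sylow
  have hPc : Nat.card P = 16 := by
    rw [Sylow.card_eq_multiplicity, Nat.card_perm, Nat.card_eq_fintype_card, Fintype.card_fin]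
    have hf : (720 : ℕ).factorization 2 = 4 := by
      rw [Nat.factorization_def _ Nat.prime_two, show (720 : ℕ) = 2 ^ 4 * 45 by norm_num, padicValNat.mul (by norm_num) (by norm_num),
        padicValNat.prime_pow, padicValNat.eq_zero_of_not_dvd (by norm_num)]
    rw [show Nat.factorial 6 = 720 by norm_num [Nat.factorial], hf]; norm_num
  have hTP : T = (P : Subgroup S6) := Subgroup.eq_of_le_of_card_ge hP (by rw [hPc, hT])
  obtain ⟨x, hx⟩ := MulAction.exists_smul_eq S6 P' P
  have hgT : x * g * x⁻¹ ∈ T := by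
    rw [hTP, ← hx, Sylow.coe_subgroup_smul]
    exact Subgroup.smul_mem_pointwise_smul g (MulAut.conj x) _ (hP' (Subgroup.mem_zpowers g))
  let φ : T → {a : S6 // a * g = g * a} := fun a => ⟨x⁻¹ * (a : S6) * x, by
    have := hc a a.2 _ hgT
    calc x⁻¹ * (a : S6) * x * g = x⁻¹ * ((a : S6) * (x * g * x⁻¹)) * x := by group
      _ = x⁻¹ * ((x * g * x⁻¹) * (a : S6)) * x := by rw [this]
      _ = _ := by group⟩
  have hφ : Function.Injective φ := fun a b e => Subtype.ext (by
    have e' : x⁻¹ * (a : S6) * x = x⁻¹ * (b : S6) * x := congrArg Subtype.val e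
    exact mul_left_cancel (mul_right_cancel e'))
  have := Nat.card_le_card_of_injective φ hφ
  rw [hT, Nat.card_eq_fintype_card, centralizer_four_cycle] at this
  omega

namespace Rep

variable {H : Type*} [Group H] {V : Type*} [AddCommGroup V] [Module (ZMod 2) V]

theorem even_involution_pi {p : S3} (hs : sign p = 1) (h2 : p * p = 1) : p = 1 := by
  revert p; decide

/-- H contains no quaternion group. -/
theorem no_Q8 (R : Rep H V) {I J w : H} (hI : I * I = w) (hJ : J * J = w) (hIJ : I * J * I⁻¹ * J⁻¹ = w)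
    (h2 : w * w = 1) (hw : w ≠ 1) : False := by
  have hp : R.pi w = 1 := even_involution_pi (by rw [← hI, map_mul, map_mul, Int.units_mul_self])
    (by rw [← map_mul, h2, map_one])
  have hr1 : R.rho w ≠ 1 := fun e => hw (R.inj w hp e)
  have hrs : sign (R.rho w) = 1 := by rw [← hI, map_mul, map_mul, Int.units_mul_self]
  obtain ⟨h, -, hh⟩ := exists_conj_c0 _ hrs (by rw [← map_mul, h2, map_one]) hr1
  have root : ∀ K : H, K * K = w → h⁻¹ * R.rho K * h ∈ [g1 * g2, g2 * g1, g1 * g2 * o1, g2 * g1 * o1] := by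
    intro K hK
    refine sqrt_c0 _ ?_
    calc h⁻¹ * R.rho K * h * (h⁻¹ * R.rho K * h) = h⁻¹ * R.rho (K * K) * h := by rw [map_mul]; group
      _ = c0 := by rw [hK, ← hh]; group
  have hc := sqrt_c0_comm _ (root I hI) _ (root J hJ)
  have hcIJ : R.rho I * R.rho J = R.rho J * R.rho I := by
    calc R.rho I * R.rho J = h * (h⁻¹ * R.rho I * h * (h⁻¹ * R.rho J * h)) * h⁻¹ := by group
      _ = h * (h⁻¹ * R.rho J * h * (h⁻¹ * R.rho I * h)) * h⁻¹ := by rw [hc]
      _ = _ := by group
  apply hr1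
  rw [← hIJ, map_mul, map_mul, map_mul, map_inv, map_inv, hcIJ, mul_inv_cancel_right, mul_inv_cancel]

/-- A central elementary group of order 8 in a 2-subgroup of order 32 contains the involution of
S3 centralizing S6. -/
theorem central_tau [Finite H] (R : Rep H V) {T P : Subgroup H} (hT : IsPGroup 2 T) (hT32 : Nat.card T = 32)
    (hPT : P ≤ T) (hP8 : Nat.card P = 8) (hc : ∀ a ∈ P, ∀ b ∈ T, a * b = b * a) :
    ∃ a ∈ P, R.pi a ≠ 1 ∧ R.rho a = 1 := by
  classical
  haveI : Fact (Nat.Prime 2) := ⟨Nat.prime_two⟩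
  by_contra! hcon
  have hinjP : Function.Injective (R.rho.comp P.subtype) := by
    rw [injective_iff_map_eq_one]
    intro a ha
    by_contra hne
    exact hcon a a.2 (fun h => hne (Subtype.ext (R.inj a h ha))) ha
  set f := R.pi.comp T.subtype
  have hpi2 : Nat.card f.range ≤ 2 := by
    obtain ⟨k, hk⟩ := IsPGroup.iff_card.mp ((hT.map R.pi).to_le (show f.range ≤ T.map R.pi by
      rintro _ ⟨a, rfl⟩; exact ⟨a, a.2, rfl⟩))
    have hd := Subgroup.card_subgroup_dvd_card f.range
    rw [hk, Nat.card_perm, Nat.card_eq_fintype_card, Fintype.card_fin,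
      show Nat.factorial 3 = 2 * 3 by decide] at hd
    have := Nat.le_of_dvd (by norm_num) ((Nat.Coprime.pow_left k (by norm_num : Nat.Coprime 2 3)).dvd_of_dvd_mul_right hd)
    rw [hk]; exact this
  have hcf := Subgroup.card_eq_card_quotient_mul_card_subgroup f.ker
  rw [Nat.card_congr (QuotientGroup.quotientKerEquivRange f).toEquiv, hT32] at hcf
  set T6 := T.map R.rho with hT6
  have hinjK : Function.Injective (fun a : f.ker => (⟨R.rho a.1, a.1, a.1.2, rfl⟩ : T6)) := by
    intro a b e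
    exact Subtype.ext (Subtype.ext (R.ext ((show R.pi a.1 = 1 from a.2).trans (show R.pi b.1 = 1 from b.2).symm)
      (congrArg Subtype.val e)))
  have hK16 : 16 ≤ Nat.card f.ker := by nlinarith
  have h16le : 16 ≤ Nat.card T6 := hK16.trans (Nat.card_le_card_of_injective _ hinjK)
  obtain ⟨k, hk⟩ := IsPGroup.iff_card.mp (hT.map R.rho)
  have hd := Subgroup.card_subgroup_dvd_card T6
  rw [hk, Nat.card_perm, Nat.card_eq_fintype_card, Fintype.card_fin,
    show Nat.factorial 6 = 2 ^ 4 * 45 by norm_num [Nat.factorial]] at hd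
  have hle := Nat.le_of_dvd (by norm_num) ((Nat.Coprime.pow_left k (by norm_num : Nat.Coprime 2 45)).dvd_of_dvd_mul_right hd)
  have h16 : Nat.card T6 = 16 := le_antisymm (by rw [hk]; exact hle) h16le
  set P6 := P.map R.rho with hP6
  have hP6c : Nat.card P6 = 8 := by
    rw [hP6, ← hP8, ← Subgroup.range_subtype P, MonoidHom.map_range, Subgroup.range_subtype]
    exact (Nat.card_congr (MonoidHom.ofInjective hinjP).toEquiv).symm
  have hPT6 : P6 ≤ T6 := Subgroup.map_mono hPT
  have hidx : (P6.subgroupOf T6).index = 2 := by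
    have h := Subgroup.card_mul_index (P6.subgroupOf T6)
    rw [Nat.card_congr (Subgroup.subgroupOfEquivOfLe hPT6).toEquiv, hP6c, h16] at h
    omega
  have hcen : ∀ a ∈ P6, ∀ b ∈ T6, a * b = b * a := by
    rintro _ ⟨a, ha, rfl⟩ _ ⟨b, hb, rfl⟩
    rw [← map_mul, ← map_mul, hc a ha b hb]
  refine no_abelian_sixteen h16 fun a ha b hb => ?_
  by_cases haP : a ∈ P6
  · exact hcen a haP b hb
  by_cases hbP : b ∈ P6
  · exact (hcen b hbP a ha).symm
  have hab : b * a⁻¹ ∈ P6 := by
    have := (Subgroup.mul_mem_iff_of_index_two hidx (a := (⟨b, hb⟩ : T6)) (b := (⟨a, ha⟩ : T6)⁻¹)).mpr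
      (by simp only [Subgroup.mem_subgroupOf, inv_mem_iff]; exact iff_of_false hbP haP)
    exact this
  have := hcen _ hab a ha
  calc a * b = a * ((b * a⁻¹) * a) := by group
    _ = a * (a * (b * a⁻¹)) := by rw [this]
    _ = (a * (b * a⁻¹)) * a := by rw [mul_assoc a, hcen _ hab a ha]
    _ = b * a := by rw [← hcen _ hab a ha]; group

variable [Finite V] {R : Rep H V} (hII : R.TypeII)
include hII

/-- An even involution has commutator space of dimension at most 2. -/
theorem even_mov_le {σ : S6} (hs : sign σ = 1) (h2 : σ * σ = 1) (h1 : σ ≠ 1) :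
    finrank (ZMod 2) (Mov (R.a (R.el σ))) ≤ 2 := by
  set X := R.a (R.el σ) with hX
  have hX2 : ∀ v, X (X v) = v := fun v => by
    rw [hX, ← R.a_el_mul hs hs, h2, R.a_el_one]
  have hU : ∀ u ∈ R.U, X u = u := hII.2.2 _ (R.pi_el σ)
  have hMC : Mov X ≤ R.C := by
    rintro _ ⟨v, rfl⟩
    obtain ⟨u, hu, c, hc, rfl⟩ := R.decomp v
    show X (u + c) + (u + c) ∈ R.C
    rw [map_add, hU u hu, show u + X c + (u + c) = (u + u) + (X c + c) by abel, add_self0, zero_add]
    exact add_mem (R.map_C (R.comm_y (R.pi_el σ)) hc) hc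
  have hUM : R.U ⊓ Mov X = ⊥ := (Submodule.eq_bot_iff _).mpr fun v hv => R.U_inf_C hv.1 (hMC hv.2)
  have hle : R.U ⊔ Mov X ≤ Fix X := sup_le (fun u hu => mem_fix.mpr (hU u hu)) (mov_le_fix hX2)
  have hs' := Submodule.finrank_sup_add_finrank_inf_eq R.U (Mov X)
  rw [hUM, finrank_bot, hII.1] at hs'
  have hsle := Submodule.finrank_mono hle
  have hfm := finrank_fix_mov X
  rw [R.dim] at hfm
  by_contra! hr
  have hr3 : finrank (ZMod 2) (Mov X) = 3 := by omega
  have hFix : R.U ⊔ Mov X = Fix X := Submodule.eq_of_le_of_finrank_le hle (by omega)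
  obtain ⟨k, hk, hkσ⟩ := exists_conj_c0 σ hs h2 h1
  obtain ⟨-, -, -, -, -, -, s1, s2, -, -, -, -, hprod⟩ := basic_facts
  set e := k * (g1 * g2) * k⁻¹ with he
  have hse : sign e = 1 := sign_conj (by rw [map_mul, s1, s2, one_mul])
  have hee : e * e = σ := by rw [he, ← hkσ, ← hprod]; group
  set N := (R.a (R.el e)).toLinearMap + LinearMap.id with hN
  have hEU : ∀ u ∈ R.U, R.a (R.el e) u = u := hII.2.2 _ (R.pi_el e)
  have hNN : ∀ v, N (N v) = X v + v := fun v => by
    show R.a (R.el e) (R.a (R.el e) v + v) + (R.a (R.el e) v + v) = X v + v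
    rw [map_add, hX, ← hee, R.a_el_mul hse hse,
      show ∀ a b : V, a + b + (b + v) = a + v + (b + b) from fun a b => by abel, add_self0, add_zero]
  have hNC : LinearMap.range N ≤ R.C := by
    rintro _ ⟨v, rfl⟩
    obtain ⟨u, hu, c, hc, rfl⟩ := R.decomp v
    show R.a (R.el e) (u + c) + (u + c) ∈ R.C
    rw [map_add, hEU u hu, show u + R.a (R.el e) c + (u + c) = (u + u) + (R.a (R.el e) c + c) by abel,
      add_self0, zero_add]
    exact add_mem (R.map_C (R.comm_y (R.pi_el e)) hc) hc
  have hKC : LinearMap.ker N ⊓ R.C ≤ LinearMap.range N := by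
    intro v hv
    have hvF : v ∈ Fix X := by
      show X v + v = 0
      rw [← hNN, show N v = 0 from hv.1, map_zero]
    rw [← hFix] at hvF
    obtain ⟨u, hu, m, hm, e'⟩ := Submodule.mem_sup.mp hvF
    have hu0 : u = 0 := R.U_inf_C hu (by
      rw [show u = v + m by rw [← e', add_assoc, add_self0, add_zero]]; exact add_mem hv.2 (hMC hm))
    rw [hu0, zero_add] at e'
    subst e'
    obtain ⟨w, hw⟩ := mem_mov.mp hm
    exact ⟨N w, (hNN w).trans hw⟩
  have hkU : R.U ≤ LinearMap.ker N := fun u hu => by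
    show R.a (R.el e) u + u = 0
    rw [hEU u hu, add_self0]
  have hker : LinearMap.ker N = R.U ⊔ LinearMap.ker N ⊓ R.C := by
    refine le_antisymm (fun v hv => ?_) (sup_le hkU inf_le_left)
    obtain ⟨u, hu, c, hc, rfl⟩ := R.decomp v
    refine add_mem (Submodule.mem_sup_left hu) (Submodule.mem_sup_right ⟨?_, hc⟩)
    have := (LinearMap.ker N).sub_mem hv (hkU hu)
    rwa [add_sub_cancel_left] at this
  have hd := Submodule.finrank_sup_add_finrank_inf_eq R.U (LinearMap.ker N ⊓ R.C)
  rw [← hker, show R.U ⊓ (LinearMap.ker N ⊓ R.C) = ⊥ from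
    (Submodule.eq_bot_iff _).mpr fun v hv => R.U_inf_C hv.1 hv.2.2, finrank_bot, hII.1] at hd
  have hn := LinearMap.finrank_range_add_finrank_ker N
  rw [R.dim] at hn
  have hres := LinearMap.finrank_range_add_finrank_ker (N.comp (LinearMap.range N).subtype)
  have hr' : LinearMap.range (N.comp (LinearMap.range N).subtype) = Mov X := by
    ext v
    constructor
    · rintro ⟨⟨_, w, rfl⟩, rfl⟩; exact ⟨w, (hNN w).symm⟩
    · rintro ⟨w, rfl⟩; exact ⟨⟨N w, w, rfl⟩, hNN w⟩
  have hk' : finrank (ZMod 2) (LinearMap.ker (N.comp (LinearMap.range N).subtype)) =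
      finrank (ZMod 2) ↥(LinearMap.ker N ⊓ R.C) := by
    refine LinearEquiv.finrank_eq (LinearEquiv.ofBijective
      (((LinearMap.range N).subtype.comp (LinearMap.ker (N.comp (LinearMap.range N).subtype)).subtype).codRestrict
        (LinearMap.ker N ⊓ R.C) fun v => ⟨v.2, hNC v.1.2⟩) ⟨?_, ?_⟩)
    · intro a b hab
      exact Subtype.ext (Subtype.ext (congrArg (Subtype.val : ↥(LinearMap.ker N ⊓ R.C) → V) hab))
    · intro v
      exact ⟨⟨⟨v.1, hKC v.2⟩, v.2.1⟩, rfl⟩
  rw [hr', hr3, hk'] at hres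
  omega

/-- The involution of S3 centralizing A6 has commutator space of dimension at most 2. -/
theorem tau_mov_le {x : H} (hx2 : x * x = 1) (hr : R.rho x = 1) (hy : x * R.y * x⁻¹ = R.y * R.y) :
    finrank (ZMod 2) (Mov (R.a x)) ≤ 2 := by
  set f := (R.a x).toLinearMap + LinearMap.id with hf
  have hinvol : ∀ v, R.a x (R.a x v) = v := fun v => by rw [← R.a_mul, hx2, R.a_one]
  have hff : ∀ v, f (f v) = 0 := fun v => by
    show R.a x (R.a x v + v) + (R.a x v + v) = 0
    rw [map_add, hinvol, add_comm v, add_self0]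
  have hxy : ∀ v, R.Y (R.a x v) = R.a x (R.Y (R.Y v)) := fun v => by
    rw [← R.a_mul, ← R.a_mul, ← R.a_mul]
    congr 2
    have hxi : x⁻¹ = x := inv_eq_of_mul_eq_one_right hx2
    rw [hxi] at hy
    rw [mul_assoc x, ← hy]
    calc R.y * x = (x * x) * R.y * x := by rw [hx2, one_mul]
      _ = x * (x * R.y * x) := by group
  have hxC : ∀ c ∈ R.C, R.a x c ∈ R.C := fun c hc => by
    rw [mem_fix, hxy, mem_fix.mp hc, mem_fix.mp hc]
  have hxU : ∀ u ∈ R.U, R.a x u ∈ R.U := fun u hu => R.Q.mem_mov_of_perp (R.iso _) fun c hc => by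
    rw [← R.B_a x, hinvol, R.Q.comm]
    exact R.orth_UC hu (hxC c hc)
  -- the part in U
  set MU := R.U.map f with hMU
  have hMU1 : finrank (ZMod 2) MU ≤ 1 := by
    have h := LinearMap.finrank_range_add_finrank_ker (f.comp R.U.subtype)
    rw [LinearMap.range_comp, Submodule.range_subtype, hII.1] at h
    change finrank (ZMod 2) MU + _ = 2 at h
    have hle : finrank (ZMod 2) MU ≤ finrank (ZMod 2) (LinearMap.ker (f.comp R.U.subtype)) := by
      refine LinearMap.finrank_le_finrank_of_injective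
        (f := LinearMap.codRestrict (LinearMap.ker (f.comp R.U.subtype))
          (MU.subtype.codRestrict R.U fun v => by
            obtain ⟨u, hu, e⟩ := v.2
            rw [Submodule.subtype_apply, ← e]
            exact add_mem (hxU u hu) hu)
          fun v => by
            obtain ⟨u, hu, e⟩ := v.2
            show f v.1 = 0
            rw [← e, hff]) ?_
      intro a b hab
      exact Subtype.ext (congrArg (fun w => ((w.1 : R.U) : V)) hab)
    omega
  set MC := R.C.map f with hMC
  have hle : Mov (R.a x) ≤ MU ⊔ MC := by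
    rintro _ ⟨v, rfl⟩
    obtain ⟨u, hu, c, hc, rfl⟩ := R.decomp v
    show f (u + c) ∈ _
    rw [map_add]
    exact add_mem (Submodule.mem_sup_left ⟨u, hu, rfl⟩) (Submodule.mem_sup_right ⟨c, hc, rfl⟩)
  suffices hm : finrank (ZMod 2) MC ≤ 1 by
    have := (Submodule.finrank_mono hle).trans (Submodule.finrank_add_le_finrank_add_finrank MU MC)
    omega
  by_contra! hm
  have hMCC : MC ≤ R.C := by
    rintro _ ⟨c, hc, rfl⟩
    exact add_mem (hxC c hc) hc
  set FC := R.C ⊓ Fix (R.a x) with hFC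
  have hMCFC : MC ≤ FC := fun v hv => ⟨hMCC hv, by
    obtain ⟨c, hc, rfl⟩ := hv
    exact hff c⟩
  have hC6 : finrank (ZMod 2) R.C = 6 := by have := R.finrank_UC; rw [hII.1] at this; omega
  have hFCd : finrank (ZMod 2) MC + finrank (ZMod 2) FC = 6 := by
    have h := LinearMap.finrank_range_add_finrank_ker (f.comp R.C.subtype)
    rw [LinearMap.range_comp, Submodule.range_subtype, hC6] at h
    rw [← h]
    congr 1
    refine LinearEquiv.finrank_eq (LinearEquiv.symm (LinearEquiv.ofBijective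
      ((R.C.subtype.comp (LinearMap.ker (f.comp R.C.subtype)).subtype).codRestrict FC fun v => ⟨v.1.2, v.2⟩)
      ⟨?_, ?_⟩))
    · intro a b hab
      exact Subtype.ext (Subtype.ext (congrArg (Subtype.val : FC → V) hab))
    · intro v
      exact ⟨⟨⟨v.1, v.2.1⟩, v.2.2⟩, rfl⟩
  have hMC3 := Submodule.finrank_mono hMCFC
  -- the element of order five
  set g := R.F.toLinearMap + LinearMap.id with hgdef
  have hFx : ∀ v, R.F (R.a x v) = R.a x (R.F v) := fun v => R.a_comm (R.comm_el hr sign_f5).symm v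
  have hFC' : ∀ v ∈ R.C, R.F v ∈ R.C := fun v hv => R.map_C R.el_f5_y hv
  have hsmall : ∀ W : Submodule (ZMod 2) V, (∀ v ∈ W, R.F v ∈ W) → finrank (ZMod 2) ↥(W.map g) ≤ 3 →
      ∀ v ∈ W, R.F v = v := by
    intro W hW hle v hv
    haveI : Fact (Nat.Prime 5) := ⟨by norm_num⟩
    have hWM : W.map g ≤ Mov R.F := LinearMap.map_le_range
    have hmod := card_mod_fixed 5 R.F (fun v => by
      have := R.F_pow
      simp only [pow_succ, pow_zero, one_mul] at this
      exact congrArg (fun T : V ≃ₗ[ZMod 2] V => T v) this) (W.map g) (by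
        rintro _ ⟨w, hw, rfl⟩
        exact ⟨R.F w, hW w hw, by show _ = R.F (R.F w + w); rw [map_add]; rfl⟩)
      fun w hw h => R.fix_inf_mov_F (mem_fix.mpr h) (hWM hw)
    have h0 : finrank (ZMod 2) ↥(W.map g) = 0 := by
      rw [Nat.ModEq] at hmod
      generalize finrank (ZMod 2) ↥(W.map g) = d at hle hmod
      interval_cases d <;> first | rfl | norm_num at hmod
    refine eq_of_add0 ?_
    have hmem : g v ∈ W.map g := ⟨v, hv, rfl⟩
    rw [Submodule.finrank_eq_zero.mp h0] at hmem
    exact (Submodule.mem_bot _).mp hmem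
  have hMCinv : ∀ v ∈ MC, R.F v ∈ MC := by
    rintro _ ⟨c, hc, rfl⟩
    refine ⟨R.F c, hFC' c hc, ?_⟩
    show R.a x (R.F c) + R.F c = R.F (R.a x c + c)
    rw [map_add, hFx]
  have hF1 : ∀ v ∈ MC, R.F v = v := hsmall MC hMCinv
    ((Submodule.finrank_map_le g MC).trans (by omega))
  have hFCinv : ∀ v ∈ FC, R.F v ∈ FC := fun v hv =>
    ⟨hFC' v hv.1, mem_fix.mpr (by rw [← hFx, mem_fix.mp hv.2])⟩
  have hF2 : ∀ v ∈ FC, R.F v = v := by
    refine hsmall FC hFCinv ?_
    have h := LinearMap.finrank_range_add_finrank_ker (g.comp FC.subtype)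
    rw [LinearMap.range_comp, Submodule.range_subtype] at h
    have hk : finrank (ZMod 2) MC ≤ finrank (ZMod 2) (LinearMap.ker (g.comp FC.subtype)) := by
      refine LinearMap.finrank_le_finrank_of_injective
        (f := LinearMap.codRestrict (LinearMap.ker (g.comp FC.subtype))
          (MC.subtype.codRestrict FC fun v => hMCFC v.2) fun v => by
            show R.F v.1 + v.1 = 0
            rw [hF1 v.1 v.2, add_self0]) ?_
      intro a b hab
      exact Subtype.ext (congrArg (fun w => ((w.1 : FC) : V)) hab)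
    omega
  have hF3 : ∀ c ∈ R.C, R.F c = c := by
    intro c hc
    have hin : R.F c + c ∈ FC := ⟨add_mem (hFC' c hc) hc, mem_fix.mpr (eq_of_add0 (by
      rw [show R.a x (R.F c + c) + (R.F c + c) = R.F (R.a x c + c) + (R.a x c + c) by
        rw [map_add, map_add, hFx]; abel,
        hF1 (R.a x c + c) ⟨c, hc, rfl⟩, add_self0]))⟩
    exact eq_of_add0 (R.fix_inf_mov_F (mem_fix.mpr (hF2 _ hin)) (mov_mem _ _))
  obtain ⟨v, hv⟩ := R.F_not_one
  obtain ⟨u, hu, c, hc, rfl⟩ := R.decomp v
  exact hv (by rw [map_add, hII.2.2 _ (R.pi_el f5) u hu, hF3 c hc])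

end Rep

end Cfsg.Agent.S3A6Q9
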