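import Cfsg.Agent.Lib.S3A6Q9.OutTypeI
import Cfsg.Agent.Lib.S3A6Q9.OutTypeII
import Cfsg.Agent.Lib.Transfer.IsolatedSylow

/-
No conjugate of z lies in C(z) outside Q; with Glauberman's Z*-theorem this shows that a group
with such a centralizer is not simple (`Base.not_simple`).
-/

set_option autoImplicit false
set_option linter.unusedSectionVars false

open scoped commutatorElement

namespace Cfsg.Agent.S3A6Q9

open Module Equiv Equiv.Perm

namespace Base

variable {G : Type*} [Group G] {H : Type*} [Group H] {V : Type*} [AddCommGroup V] [Module (ZMod 2) V]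
variable {B : Base G H V} [Finite G] [Finite H] [Finite V] {t : B.M}

theorem range_pgroup (f : ↥(B.A t) →* H) : IsPGroup 2 f.range := by
  have hQ : IsPGroup 2 B.Q := IsPGroup.of_card B.card
  exact (hQ.to_le (inf_le_left : B.A t ≤ B.Q)).of_surjective f.rangeRestrict f.rangeRestrict_surjective

theorem z_view_ne (e : B.Ext t) {f : ↥(B.A t) →* H} (hf : ∀ a, f a = 1 ↔ (a : G) ∈ B.Qof (t : G)) :
    f ⟨B.z, z_mem_A⟩ ≠ 1 := fun h => e.z_notin ((hf _).mp h)

/-- A vector of nonzero form in the commutator space bounds the fixed space. -/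
theorem Ext.fix_le_five (e : B.Ext t) {w : V} (hw : w ∈ Mov (B.R.a (B.phi t))) (hq : B.R.Q.q w ≠ 0) :
    finrank (ZMod 2) (Fix (B.R.a (B.phi t))) ≤ 5 := by
  have hwF := e.mov_le_fix hw
  have hwA : w ∉ B.pA t := fun h => hq ((e.mov_mem_pA hw).mp h)
  have htz := e.tz_of_fix hwF hwA
  have hD : finrank (ZMod 2) (B.pD t) = 0 := by
    refine Submodule.finrank_eq_zero.mpr ((Submodule.eq_bot_iff _).mpr fun d hd => e.pD_inf_mov htz hd ?_)
    refine B.R.Q.mem_mov_of_perp (B.R.iso _) fun v hv => ?_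
    rw [B.R.Q.comm]
    have hdw : B.R.Q.B d w = 0 := by
      have h := pA_le_fix (e.pD_le hd)
      rw [B.R.Q.fix_eq_perp (B.R.iso _)] at h
      rw [B.R.Q.comm]
      exact B.R.Q.mem_perp.mp h w hw
    by_cases hvA : v ∈ B.pA t
    · exact e.pD_orth hd hvA
    · have h := e.pD_orth hd (add_mem_pA hv hwF hvA hwA)
      rwa [map_add, hdw, add_zero] at h
  obtain ⟨f, hf, -⟩ := e.exists_view
  have hcard := e.card_range hf
  rw [hD, pow_zero, mul_one] at hcard
  have h32 := B.R.card_two_group_le (range_pgroup f)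
  have hA4 : finrank (ZMod 2) (B.pA t) ≤ 4 := by
    by_contra hh
    have := Nat.pow_le_pow_right (show 2 > 0 by norm_num) (show 5 ≤ finrank (ZMod 2) (B.pA t) by omega)
    omega
  have := finrank_fix_le (B := B) (t := t)
  omega

theorem not_tau_II (hII : B.R.TypeII) (e : B.Ext t) (hp : B.R.pi (B.phi t) ≠ 1) (hr : B.R.rho (B.phi t) = 1) :
    False := by
  have hy : (B.phi t) * B.R.y * (B.phi t)⁻¹ = B.R.y * B.R.y := by
    have h2 : B.R.pi (B.phi t) * B.R.pi (B.phi t) = 1 := by rw [← map_mul, e.phi_sq, map_one]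
    rcases B.R.pi_class (B.phi t) with e' | e' | e' | ⟨-, e'⟩
    · exact absurd e' hp
    all_goals first | exact e' | (exfalso; apply hp; have hys := B.R.y_sign; revert h2 e' hys
                                  generalize B.R.pi (B.phi t) = a; generalize B.R.pi B.R.y = p
                                  revert a p; decide)
  have hM := Rep.tau_mov_le hII e.phi_sq hr hy
  obtain ⟨u, hu, hu0⟩ := Submodule.exists_mem_ne_zero_of_ne_bot (p := B.R.U) fun h => by
    have := hII.1; rw [h, finrank_bot] at this; omega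
  obtain ⟨u', hu', hne⟩ : ∃ u' ∈ B.R.U, B.R.a (B.phi t) u' ≠ u' := by
    by_contra! hall
    have h1 : B.R.a ((B.phi t) * B.R.y * (B.phi t)⁻¹) u = B.R.Y u := by
      have hxi : (B.phi t)⁻¹ = (B.phi t) := inv_eq_of_mul_eq_one_right e.phi_sq
      rw [hxi, B.R.a_mul, B.R.a_mul, hall u hu, hall _ (B.R.Y_U hu)]
    rw [hy, B.R.a_mul] at h1
    exact hu0 (B.R.fpf_U hu (B.R.Y.injective h1))
  have hxU : B.R.a (B.phi t) u' ∈ B.R.U := B.R.Q.mem_mov_of_perp (B.R.iso _) fun c hc => by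
    rw [← B.R.B_a (B.phi t), e.a_invol, B.R.Q.comm]
    refine B.R.orth_UC hu' (mem_fix.mpr ?_)
    have hxy : B.R.y * (B.phi t) = (B.phi t) * (B.R.y * B.R.y) := by
      have hxi : (B.phi t)⁻¹ = (B.phi t) := inv_eq_of_mul_eq_one_right e.phi_sq
      rw [← hy, hxi]
      calc B.R.y * (B.phi t) = ((B.phi t) * (B.phi t)) * B.R.y * (B.phi t) := by rw [e.phi_sq, one_mul]
        _ = (B.phi t) * ((B.phi t) * B.R.y * (B.phi t)) := by group
    rw [← B.R.a_mul, hxy, B.R.a_mul, B.R.a_mul, mem_fix.mp hc, mem_fix.mp hc]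
  have hq := hII.2.1 _ (add_mem hxU hu') fun h => hne (eq_of_add0 h)
  have h5 := e.fix_le_five (mov_mem _ u') (by rw [hq]; exact one_ne_zero)
  have hfm := finrank_fix_mov (B.R.a (B.phi t))
  rw [B.R.dim] at hfm
  omega

theorem not_even_II (hII : B.R.TypeII) (e : B.Ext t) (hp : B.R.pi (B.phi t) = 1)
    (hs : sign (B.R.rho (B.phi t)) = 1) : False := by
  classical
  have hσ2 : B.R.rho (B.phi t) * B.R.rho (B.phi t) = 1 := by rw [← map_mul, e.phi_sq, map_one]
  have hσ1 : B.R.rho (B.phi t) ≠ 1 := fun h => e.phi_ne (B.R.inj (B.phi t) hp h)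
  have hM := Rep.even_mov_le hII hs hσ2 hσ1
  rw [B.R.el_eq hp hs] at hM
  have hU : ∀ u ∈ B.R.U, B.R.a (B.phi t) u = u := hII.2.2 (B.phi t) hp
  have hfm := finrank_fix_mov (B.R.a (B.phi t))
  rw [B.R.dim] at hfm
  obtain ⟨f, hf, hview⟩ := e.exists_view
  have hfz := z_view_ne e hf
  by_cases hUA : B.R.U ≤ B.pA t
  · obtain ⟨u, hu, hu0⟩ := Submodule.exists_mem_ne_zero_of_ne_bot (p := B.R.U) fun h => by
      have := hII.1; rw [h, finrank_bot] at this; omega
    have hq : ∀ w ∈ B.R.U, w ≠ 0 → B.R.Q.q w = 1 := hII.2.1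
    have hY0 : B.R.Y u ≠ 0 := fun h => hu0 (B.R.Y.map_eq_zero_iff.mp h)
    obtain ⟨i, hi, hiQ, hip⟩ := hUA hu
    obtain ⟨j, hj, hjQ, hjp⟩ := hUA (B.R.Y_U hu)
    have hB : B.R.Q.B u (B.R.Y u) = 1 := by
      have h := B.R.Q.polar u (B.R.Y u)
      rw [hq _ (add_mem hu (B.R.Y_U hu)) (fun h => hu0 (B.R.fpf_U hu (eq_of_add0 h).symm)), hq u hu hu0,
        hq _ (B.R.Y_U hu) hY0] at h
      revert h; generalize B.R.Q.B u (B.R.Y u) = b; revert b; decide
    have hii : i * i = B.z := (B.D.sq hiQ).resolve_left fun h => by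
      rw [B.p_sq i hiQ, hip, hq u hu hu0] at h; exact one_ne_zero h
    have hjj : j * j = B.z := (B.D.sq hjQ).resolve_left fun h => by
      rw [B.p_sq j hjQ, hjp, hq _ (B.R.Y_U hu) hY0] at h; exact one_ne_zero h
    have hij : ⁅i, j⁆ = B.z := (B.D.comm i hiQ j hjQ).resolve_left fun h => by
      rw [commutatorElement_eq_one_iff_mul_comm, B.p_comm i hiQ j hjQ, hip, hjp, hB] at h
      exact one_ne_zero h
    refine B.R.no_Q8 (I := f ⟨i, hi⟩) (J := f ⟨j, hj⟩) (w := f ⟨B.z, z_mem_A⟩) ?_ ?_ ?_ ?_ hfz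
    · rw [← map_mul]; exact congrArg f (Subtype.ext hii)
    · rw [← map_mul]; exact congrArg f (Subtype.ext hjj)
    · rw [← map_inv, ← map_inv, ← map_mul, ← map_mul, ← map_mul]
      exact congrArg f (Subtype.ext (by
        show i * j * i⁻¹ * j⁻¹ = B.z
        rw [← commutatorElement_def]; exact hij))
    · rw [← map_mul, ← map_one f]; exact congrArg f (Subtype.ext B.D.z_sq)
  obtain ⟨u, hu, huA⟩ := SetLike.not_le_iff_exists.mp hUA
  have htz := e.tz_of_fix (mem_fix.mpr (hU u hu)) huA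
  have hsM : ∀ w ∈ Mov (B.R.a (B.phi t)), B.R.Q.q w = 0 := by
    intro w hw
    by_contra hq
    have := e.fix_le_five hw hq
    omega
  have hMA := e.mov_le_pA hsM
  have hdA := finrank_fix_le (B := B) (t := t)
  have hdAle := Submodule.finrank_mono (pA_le_fix (B := B) (t := t))
  have hperp : B.pD t ⊔ Mov (B.R.a (B.phi t)) ≤ B.R.Q.perp (B.pA t) := by
    refine sup_le (fun d hd => B.R.Q.mem_perp.mpr fun v hv => ?_) (fun w hw => B.R.Q.mem_perp.mpr fun v hv => ?_)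
    · rw [B.R.Q.comm]; exact e.pD_orth hd hv
    · have h := pA_le_fix hv
      rw [B.R.Q.fix_eq_perp (B.R.iso _)] at h
      rw [B.R.Q.comm]; exact B.R.Q.mem_perp.mp h w hw
  have hinf : B.pD t ⊓ Mov (B.R.a (B.phi t)) = ⊥ :=
    (Submodule.eq_bot_iff _).mpr fun v hv => e.pD_inf_mov htz hv.1 hv.2
  have h1 := Submodule.finrank_sup_add_finrank_inf_eq (B.pD t) (Mov (B.R.a (B.phi t)))
  rw [hinf, finrank_bot] at h1
  have h2 := Submodule.finrank_mono hperp
  have h3 := B.R.Q.finrank_perp (B.pA t)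
  rw [B.R.dim] at h3
  have hcard := e.card_range hf
  have h32 := B.R.card_two_group_le (range_pgroup f)
  have hdA5 : finrank (ZMod 2) (B.pA t) = 5 ∧ finrank (ZMod 2) (Mov (B.R.a (B.phi t))) = 2 ∧ Nat.card f.range = 32 := by
    have hdD : finrank (ZMod 2) (B.pD t) ≤ 1 := by omega
    have : 2 ^ finrank (ZMod 2) (B.pD t) ≤ 2 := by
      calc 2 ^ finrank (ZMod 2) (B.pD t) ≤ 2 ^ 1 := Nat.pow_le_pow_right (by norm_num) hdD
        _ = 2 := by norm_num
    have hA5 : finrank (ZMod 2) (B.pA t) ≤ 5 := by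
      by_contra hh
      have h6 := Nat.pow_le_pow_right (show 2 > 0 by norm_num) (show 6 ≤ finrank (ZMod 2) (B.pA t) by omega)
      have := Nat.mul_le_mul h32 this
      omega
    have hA5' : finrank (ZMod 2) (B.pA t) = 5 := by omega
    refine ⟨hA5', by omega, ?_⟩
    rw [hA5'] at hcard
    rcases Nat.le_one_iff_eq_zero_or_eq_one.mp hdD with h | h <;> rw [h] at hcard <;> omega
  obtain ⟨-, hr2, hR32⟩ := hdA5
  set P1 : Subgroup G :=
    { carrier := {a | a ∈ B.A t ∧ B.p a ∈ Mov (B.R.a (B.phi t))}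
      one_mem' := ⟨one_mem _, by rw [B.p_one]; exact zero_mem _⟩
      mul_mem' := fun {a b} ha hb => ⟨mul_mem ha.1 hb.1, by
        rw [B.p_mul a ha.1.1 b hb.1.1]; exact add_mem ha.2 hb.2⟩
      inv_mem' := fun {a} ha => ⟨inv_mem ha.1, by rw [B.p_inv ha.1.1]; exact ha.2⟩ } with hP1
  have hP1mem : ∀ a, a ∈ P1 ↔ a ∈ B.A t ∧ B.p a ∈ Mov (B.R.a (B.phi t)) := fun a => Iff.rfl
  have hzP : B.z ∈ P1 := ⟨z_mem_A, by rw [B.p_z]; exact zero_mem _⟩
  have hpP : B.pimg P1 = Mov (B.R.a (B.phi t)) := by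
    refine le_antisymm (by rintro _ ⟨a, ha, -, rfl⟩; exact ha.2) fun w hw => ?_
    obtain ⟨a, ha, haQ, rfl⟩ := hMA hw
    exact ⟨a, ⟨ha, hw⟩, haQ, rfl⟩
  set P : Subgroup H := (P1.subgroupOf (B.A t)).map f with hP
  have hP8 : Nat.card P = 8 := by
    have hc := B.card_pimg hzP
    rw [hpP, hr2, show P1 ⊓ B.Q = P1 from inf_eq_left.mpr fun a ha => ha.1.1,
      ← Nat.card_congr (Subgroup.subgroupOfEquivOfLe (show P1 ≤ B.A t from fun a ha => ha.1)).toEquiv] at hc
    rw [hP, ← Subgroup.range_subtype (P1.subgroupOf (B.A t)), MonoidHom.map_range,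
      ← Nat.card_congr (MonoidHom.ofInjective (f := f.comp (P1.subgroupOf (B.A t)).subtype) ?_).toEquiv]
    · exact hc
    rw [injective_iff_map_eq_one]
    intro a ha
    have hd := (hf a.1).mp ha
    have h0 := e.pD_inf_mov htz (v := B.p (a.1 : G)) ⟨_, hd, a.1.2.1, rfl⟩ a.2.2
    exact Subtype.ext (Subtype.ext (e.D_eq_one a.1.2.1 hd h0))
  obtain ⟨_, ⟨a, ha, rfl⟩, hp', hr'⟩ := B.R.central_tau (range_pgroup f) hR32
    (show P ≤ f.range by rintro _ ⟨a, -, rfl⟩; exact ⟨a, rfl⟩) hP8 (by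
      rintro _ ⟨a, ha, rfl⟩ _ ⟨b, rfl⟩
      rw [← map_mul, ← map_mul]
      refine congrArg f (Subtype.ext ((B.p_comm _ a.2.1 _ b.2.1).mpr ?_))
      have h := pA_le_fix (B := B) (t := t) ⟨b, b.2, b.2.1, rfl⟩
      rw [B.R.Q.fix_eq_perp (B.R.iso _)] at h
      exact B.R.Q.mem_perp.mp h _ ha.2)
  obtain ⟨t', et', ht'⟩ := hview a (Or.inl (e.conj_all htz a.2.1 ha.2)) (fun h => hp' (by rw [h, map_one]))
  exact not_tau_II hII et' (ht' ▸ hp') (ht' ▸ hr')

theorem not_even (e : B.Ext t) (hp : B.R.pi (B.phi t) = 1) (hs : sign (B.R.rho (B.phi t)) = 1) : False := by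
  rcases B.R.typeI_or_typeII with hI | hII
  · have hσ2 : B.R.rho (B.phi t) * B.R.rho (B.phi t) = 1 := by rw [← map_mul, e.phi_sq, map_one]
    have hσ1 : B.R.rho (B.phi t) ≠ 1 := fun h => e.phi_ne (B.R.inj (B.phi t) hp h)
    have hFS : Fix (B.R.a (B.phi t)) = B.R.S (B.R.rho (B.phi t)) := by
      show _ = Fix (B.R.a (B.R.el (B.R.rho (B.phi t))))
      rw [B.R.el_eq hp hs]
    obtain ⟨k, hk, hkσ⟩ := exists_conj_c0 _ hs hσ2 hσ1
    obtain ⟨-, -, -, -, -, -, s1, s2, g1c, g2c, -, -, -⟩ := basic_facts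
    have hcom : ∀ g : S6, sign g = 1 → g * c0 = c0 * g → B.R.el (k * g * k⁻¹) * (B.phi t) = (B.phi t) * B.R.el (k * g * k⁻¹) := by
      intro g hg hgc
      rw [← B.R.el_eq hp hs, ← B.R.el_mul (Rep.sign_conj hg) hs, ← B.R.el_mul hs (Rep.sign_conj hg), ← hkσ]
      congr 1
      calc k * g * k⁻¹ * (k * c0 * k⁻¹) = k * (g * c0) * k⁻¹ := by group
        _ = k * (c0 * g) * k⁻¹ := by rw [hgc]
        _ = _ := by group
    exact not_planar hI e (B.R.comm_y hp) (hFS ▸ B.R.finrank_S hI hs hσ2 hσ1)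
      (fun v hv => B.R.S_singular hI hs hσ2 hσ1 (hFS ▸ hv)) hk (hcom g1 s1 g1c) (hcom g2 s2 g2c)
  · exact not_even_II hII e hp hs

/-- The group C_Q(t) is elementary abelian. -/
theorem Ext.A_sing (e : B.Ext t) :
    (∀ v ∈ B.pA t, B.R.Q.q v = 0) ∧ ∀ u ∈ B.pA t, ∀ v ∈ B.pA t, B.R.Q.B u v = 0 := by
  obtain ⟨f, hf, hview⟩ := e.exists_view
  have key : sign (B.R.pi (f ⟨B.z, z_mem_A⟩)) = 1 → sign (B.R.rho (f ⟨B.z, z_mem_A⟩)) = 1 → False := by
    intro h1 h2
    obtain ⟨t', et', ht'⟩ := hview ⟨B.z, z_mem_A⟩ (Or.inr rfl) (z_view_ne e hf)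
    have hp := Rep.even_involution_pi h1 (by
      rw [← map_mul, ← map_mul, show (⟨B.z, z_mem_A⟩ : B.A t) * ⟨B.z, z_mem_A⟩ = 1 from Subtype.ext B.D.z_sq,
        map_one, map_one])
    exact not_even et' (ht' ▸ hp) (ht' ▸ h2)
  constructor
  · rintro _ ⟨a, ha, haQ, rfl⟩
    refine (B.p_sq a haQ).mp ((B.D.sq haQ).resolve_right fun h => ?_)
    have e2 : (⟨B.z, z_mem_A⟩ : B.A t) = ⟨a, ha⟩ * ⟨a, ha⟩ := Subtype.ext h.symm
    exact key (by rw [e2, map_mul, map_mul, map_mul, Int.units_mul_self])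
      (by rw [e2, map_mul, map_mul, map_mul, Int.units_mul_self])
  · rintro _ ⟨a, ha, haQ, rfl⟩ _ ⟨b, hb, hbQ, rfl⟩
    refine (B.p_comm a haQ b hbQ).mp (commutatorElement_eq_one_iff_mul_comm.mp
      ((B.D.comm a haQ b hbQ).resolve_right fun h => ?_))
    have e2 : (⟨B.z, z_mem_A⟩ : B.A t) = ⁅(⟨a, ha⟩ : B.A t), ⟨b, hb⟩⁆ := Subtype.ext h.symm
    exact key (by rw [e2, map_commutatorElement, map_commutatorElement, map_commutatorElement,
        commutatorElement_eq_one_iff_mul_comm]; exact mul_comm _ _)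
      (by rw [e2, map_commutatorElement, map_commutatorElement, map_commutatorElement,
        commutatorElement_eq_one_iff_mul_comm]; exact mul_comm _ _)

theorem Ext.finrank_pA (e : B.Ext t) :
    finrank (ZMod 2) (B.pA t) ≤ 4 ∧ finrank (ZMod 2) (Fix (B.R.a (B.phi t))) ≤ 5 ∧
      4 ≤ finrank (ZMod 2) (Fix (B.R.a (B.phi t))) := by
  have h := B.R.Q.isotropic_le e.A_sing.2
  rw [B.R.dim] at h
  have h1 := finrank_fix_le (B := B) (t := t)
  have h2 := Submodule.finrank_mono e.mov_le_fix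
  have h3 := finrank_fix_mov (B.R.a (B.phi t))
  rw [B.R.dim] at h3
  omega

theorem not_ker (e : B.Ext t) (hp : B.R.pi (B.phi t) = 1) : False := by
  rcases Int.units_eq_one_or (sign (B.R.rho (B.phi t))) with hs | hs
  · exact not_even e hp hs
  have hxy := B.R.comm_y hp
  obtain ⟨hA4, hF5, hF4⟩ := e.finrank_pA
  rcases B.R.typeI_or_typeII with hI | hII
  · have h4 : finrank (ZMod 2) (Fix (B.R.a (B.phi t))) = 4 := by
      obtain ⟨k, hk⟩ := B.R.even_inv hI (Fix (B.R.a (B.phi t))) fun v hv =>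
        mem_fix.mpr (by rw [B.R.a_comm hxy, mem_fix.mp hv])
      omega
    have hMov : Mov (B.R.a (B.phi t)) = Fix (B.R.a (B.phi t)) := by
      refine Submodule.eq_of_le_of_finrank_le e.mov_le_fix ?_
      have h := finrank_fix_mov (B.R.a (B.phi t))
      rw [h4, B.R.dim] at h
      omega
    have hsing : ∀ v ∈ Fix (B.R.a (B.phi t)), B.R.Q.q v = 0 := fun v hv =>
      B.R.Q.q_eq_zero_of_fpf (B.R.iso B.R.y)
        (fun a ha b hb => B.R.Q.mov_isotropic (B.R.iso _) e.a_invol (hMov ▸ ha) (hMov ▸ hb))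
        (fun w hw => mem_fix.mpr (by rw [B.R.a_comm hxy, mem_fix.mp hw]))
        (fun w _ => B.R.sum_mem_U (B.R.U_top hI ▸ Submodule.mem_top)) hv
    have hσ2 : B.R.rho (B.phi t) * B.R.rho (B.phi t) = 1 := by rw [← map_mul, e.phi_sq, map_one]
    obtain ⟨k, hk, hkσ⟩ := exists_conj_odd _ hs hσ2
    obtain ⟨a1, a2, b1, b2, -, -⟩ := odd_centralizes
    obtain ⟨-, -, -, -, -, -, s1, s2, -, -, -, -, -⟩ := basic_facts
    have hcom : ∀ g : S6, sign g = 1 → g * o1 = o1 * g → g * o3 = o3 * g →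
        B.R.el (k * g * k⁻¹) * (B.phi t) = (B.phi t) * B.R.el (k * g * k⁻¹) := by
      intro g hg h1 h3
      refine B.R.ext (by simp [B.R.pi_el, hp]) ?_
      rw [map_mul, map_mul, B.R.rho_el (Rep.sign_conj hg)]
      have conj : ∀ o : S6, g * o = o * g → k * g * k⁻¹ * (k * o * k⁻¹) = k * o * k⁻¹ * (k * g * k⁻¹) := by
        intro o ho
        calc k * g * k⁻¹ * (k * o * k⁻¹) = k * (g * o) * k⁻¹ := by group
          _ = k * (o * g) * k⁻¹ := by rw [ho]
          _ = _ := by group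
      rcases hkσ with h | h <;> rw [← h]
      · exact conj o1 h1
      · exact conj o3 h3
    exact not_planar hI e hxy h4 hsing hk (hcom g1 s1 a1 b1) (hcom g2 s2 a2 b2)
  · obtain ⟨u, hu, hu0⟩ := Submodule.exists_mem_ne_zero_of_ne_bot (p := B.R.U) fun h => by
      have := hII.1; rw [h, finrank_bot] at this; omega
    have hfix : ∀ w ∈ B.R.U, w ∈ Fix (B.R.a (B.phi t)) := fun w hw => mem_fix.mpr (hII.2.2 (B.phi t) hp w hw)
    have hno : ∀ w ∈ B.R.U, w ≠ 0 → w ∉ B.pA t := fun w hw hw0 h => by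
      have := hII.2.1 w hw hw0
      rw [e.A_sing.1 w h] at this; exact zero_ne_one this
    have hY0 : B.R.Y u ≠ 0 := fun h => hu0 (B.R.Y.map_eq_zero_iff.mp h)
    exact hno _ (add_mem hu (B.R.Y_U hu)) (fun h => hu0 (B.R.fpf_U hu (eq_of_add0 h).symm))
      (add_mem_pA (hfix u hu) (hfix _ (B.R.Y_U hu)) (hno u hu hu0) (hno _ (B.R.Y_U hu) hY0))

theorem no_ext (e : B.Ext t) : False := by
  classical
  by_cases hp : B.R.pi (B.phi t) = 1
  · exact not_ker e hp
  obtain ⟨hA4, hF5, hF4⟩ := e.finrank_pA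
  obtain ⟨f, hf, hview⟩ := e.exists_view
  have helem : Rep.Elem2 f.range := by
    refine ⟨?_, ?_⟩
    · rintro _ ⟨a, rfl⟩ _ ⟨b, rfl⟩
      rw [← map_mul, ← map_mul, show a * b = b * a from Subtype.ext ((B.p_comm _ a.2.1 _ b.2.1).mpr
        (e.A_sing.2 _ ⟨a, a.2, a.2.1, rfl⟩ _ ⟨b, b.2, b.2.1, rfl⟩))]
    · rintro _ ⟨a, rfl⟩
      rw [← map_mul, show a * a = 1 from Subtype.ext ((B.p_sq _ a.2.1).mpr (e.A_sing.1 _ ⟨a, a.2, a.2.1, rfl⟩)),
        map_one]
  have hhalf : ∀ (S' : Subgroup (B.A t)), Nat.card S' ≤ 2 * Nat.card ((B.R.pi.comp f).comp S'.subtype).ker := fun S' =>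
    Rep.card_le_two_mul _ fun a b h1 h2 =>
      ((B.R.elem_pi helem ⟨a.1, rfl⟩ ⟨b.1, rfl⟩).resolve_left h1).resolve_left h2
  have hfm := finrank_fix_mov (B.R.a (B.phi t))
  rw [B.R.dim] at hfm
  have hdA := finrank_fix_le (B := B) (t := t)
  by_cases htz : B.Conj ((t : G) * B.z)
  · set P1 : Subgroup G :=
      { carrier := {a | a ∈ B.A t ∧ B.p a ∈ Mov (B.R.a (B.phi t))}
        one_mem' := ⟨one_mem _, by rw [B.p_one]; exact zero_mem _⟩
        mul_mem' := fun {a b} ha hb => ⟨mul_mem ha.1 hb.1, by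
          rw [B.p_mul a ha.1.1 b hb.1.1]; exact add_mem ha.2 hb.2⟩
        inv_mem' := fun {a} ha => ⟨inv_mem ha.1, by rw [B.p_inv ha.1.1]; exact ha.2⟩ } with hP1
    have hzP : B.z ∈ P1 := ⟨z_mem_A, by rw [B.p_z]; exact zero_mem _⟩
    have hpP : B.pimg P1 = Mov (B.R.a (B.phi t)) ⊓ B.pA t := by
      refine le_antisymm (by rintro _ ⟨a, ha, haQ, rfl⟩; exact ⟨ha.2, a, ha.1, haQ, rfl⟩) ?_
      rintro w ⟨hw, a, ha, haQ, rfl⟩
      exact ⟨a, ⟨ha, hw⟩, haQ, rfl⟩
    have hd := Submodule.finrank_sup_add_finrank_inf_eq (Mov (B.R.a (B.phi t))) (B.pA t)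
    have hsle := Submodule.finrank_mono (sup_le e.mov_le_fix (pA_le_fix (B := B) (t := t)))
    have hc := B.card_pimg hzP
    rw [hpP, show P1 ⊓ B.Q = P1 from inf_eq_left.mpr fun a ha => ha.1.1,
      ← Nat.card_congr (Subgroup.subgroupOfEquivOfLe (show P1 ≤ B.A t from fun a ha => ha.1)).toEquiv] at hc
    have h2 : 2 ^ 2 ≤ 2 ^ finrank (ZMod 2) ↥(Mov (B.R.a (B.phi t)) ⊓ B.pA t) :=
      Nat.pow_le_pow_right (by norm_num) (by omega)
    have hk := hhalf (P1.subgroupOf (B.A t))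
    have h4 : 1 < Nat.card ((B.R.pi.comp f).comp (P1.subgroupOf (B.A t)).subtype).ker := by omega
    haveI := Fintype.ofFinite ((B.R.pi.comp f).comp (P1.subgroupOf (B.A t)).subtype).ker
    rw [Nat.card_eq_fintype_card] at h4
    obtain ⟨a, ha⟩ := Fintype.exists_ne_of_one_lt_card h4 1
    have hne : f a.1.1 ≠ 1 := by
      intro h
      have hd' := (hf _).mp h
      have h0 := e.pD_inf_mov htz (v := B.p (a.1.1 : G)) ⟨_, hd', a.1.1.2.1, rfl⟩ a.1.2.2
      exact ha (Subtype.ext (Subtype.ext (Subtype.ext (e.D_eq_one a.1.1.2.1 hd' h0))))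
    obtain ⟨t', et', ht'⟩ := hview _ (Or.inl (e.conj_all htz a.1.1.2.1 a.1.2.2)) hne
    have hpi : B.R.pi (f a.1.1) = 1 := a.2
    exact not_ker et' (ht' ▸ hpi)
  · have hAF : Fix (B.R.a (B.phi t)) ≤ B.pA t := fun v hv => by
      by_contra h
      exact htz (e.tz_of_fix hv h)
    have hd4 := Submodule.finrank_mono hAF
    have hMov : Mov (B.R.a (B.phi t)) = Fix (B.R.a (B.phi t)) := Submodule.eq_of_le_of_finrank_le e.mov_le_fix (by omega)
    have hcA := card_A (B := B) (t := t)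
    rw [show finrank (ZMod 2) (B.pA t) = 4 by omega] at hcA
    have hk := hhalf ⊤
    rw [Nat.card_congr Subgroup.topEquiv.toEquiv, hcA] at hk
    set J : Subgroup G := ((B.R.pi.comp f).ker).map (B.A t).subtype with hJdef
    have hJc : 16 ≤ Nat.card J := by
      have e1 : Nat.card ((B.R.pi.comp f).comp (⊤ : Subgroup (B.A t)).subtype).ker = Nat.card (B.R.pi.comp f).ker :=
        Nat.card_congr
          { toFun := fun a => ⟨a.1.1, a.2⟩
            invFun := fun a => ⟨⟨a.1, trivial⟩, a.2⟩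
            left_inv := fun a => rfl
            right_inv := fun a => rfl }
      rw [hJdef, ← Nat.card_congr ((B.R.pi.comp f).ker.equivMapOfInjective _ (B.A t).subtype_injective).toEquiv,
        ← e1]
      omega
    have hzJ : B.z ∉ J := by
      rintro ⟨a, ha, hae⟩
      obtain ⟨t', et', ht'⟩ := hview a (Or.inr hae) fun h => e.z_notin (hae ▸ (hf a).mp h)
      have hpi : B.R.pi (f a) = 1 := ha
      exact not_ker et' (ht' ▸ hpi)
    have hn : ∀ a ∈ J, a ≠ 1 → ¬ B.Conj ((t : G) * a) := by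
      rintro _ ⟨a, ha, rfl⟩ hne hconj
      by_cases h : f a = 1
      · exact e.not_conj ((hf a).mp h) hne hconj
      · obtain ⟨t', et', ht'⟩ := hview a (Or.inl hconj) h
        have hpi : B.R.pi (f a) = 1 := ha
        exact not_ker et' (ht' ▸ hpi)
    have hJM : B.pimg J ≤ Mov (B.R.a (B.phi t)) := by
      rintro _ ⟨_, ⟨a, -, rfl⟩, haQ, rfl⟩
      exact hMov ▸ pA_le_fix ⟨a, a.2, haQ, rfl⟩
    obtain ⟨-, h2⟩ := e.twisted hJM hn
    have hJQ : J ≤ B.Q := by rintro _ ⟨a, -, rfl⟩; exact a.2.1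
    let g : J → B.pimg J := fun a => ⟨B.p a, a, a.2, hJQ a.2, rfl⟩
    have hg : Function.Injective g := by
      intro a b hab
      refine Subtype.ext ((B.eq_of_p (hJQ a.2) (hJQ b.2) (congrArg Subtype.val hab)).resolve_right fun h => hzJ ?_)
      have hm := mul_mem (inv_mem b.2) a.2
      rwa [h, inv_mul_cancel_left] at hm
    have hle := Nat.card_le_card_of_injective g hg
    rw [Module.natCard_eq_pow_finrank (K := ZMod 2) (V := B.pimg J), Nat.card_zmod] at hle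
    have : 2 ^ finrank (ZMod 2) (B.pimg J) ≤ 2 ^ 2 := Nat.pow_le_pow_right (by norm_num) h2
    omega

omit t in
/-- The main result: a group with such a configuration is not simple. -/
theorem not_simple (B : Base G H V) : ¬ IsSimpleGroup G := by
  intro hS
  have hz2 : orderOf B.z = 2 := orderOf_eq_prime (by rw [pow_two, B.D.z_sq]) B.D.z_ne
  have hiso : Cfsg.IsIsolatedInvolution B.z := by
    refine ⟨hz2, fun g hc => ?_⟩
    by_contra hne
    have hM : g * B.z * g⁻¹ ∈ B.M := B.mem_M.mpr hc.eq.symm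
    exact no_ext (B := B) (t := ⟨_, hM⟩) ⟨⟨g, rfl⟩, fun hQ => hne (B.weakly_closed ⟨g, rfl⟩ hQ)⟩
  obtain ⟨N, hN, hNo, hNc⟩ := Transfer.exists_odd_normal_of_isolated hiso
  rcases hN.eq_bot_or_eq_top with h | h
  · have hcen : ∀ g, g * B.z = B.z * g := fun g => by
      have := hNc g
      rw [h, Subgroup.mem_bot] at this
      calc g * B.z = (B.z * g * B.z⁻¹ * g⁻¹) * (g * B.z) := by rw [this, one_mul]
        _ = B.z * g := by group
    have hZn : (Subgroup.zpowers B.z).Normal := ⟨fun n hn g => by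
      obtain ⟨k, rfl⟩ := Subgroup.mem_zpowers_iff.mp hn
      have hc : Commute g (B.z ^ k) := (show Commute g B.z from hcen g).zpow_right k
      rw [hc.eq, mul_inv_cancel_right]
      exact ⟨k, rfl⟩⟩
    rcases hZn.eq_bot_or_eq_top with h' | h'
    · exact B.D.z_ne (Subgroup.zpowers_eq_bot.mp h')
    · have hc : Nat.card G = 2 := by
        rw [← Nat.card_congr (Subgroup.topEquiv (G := G)).toEquiv, ← h', Nat.card_zpowers, hz2]
      have := Subgroup.card_le_card_group B.Q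
      rw [B.card, hc] at this
      norm_num at this
  · rw [h, Nat.card_congr Subgroup.topEquiv.toEquiv] at hNo
    exact Nat.not_even_iff_odd.mpr hNo (even_iff_two_dvd.mpr (hz2 ▸ orderOf_dvd_natCard B.z))

end Base

end Cfsg.Agent.S3A6Q9
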