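import Cfsg.Agent.Lib.S3A6Q9.OutBasic

/-
In the first type the image of t does not lie in the kernel of the map to S3 with a 4-dimensional
singular fixed space normalized by a conjugate of D8.
-/

set_option autoImplicit false
set_option linter.unusedSectionVars false

namespace Cfsg.Agent.S3A6Q9

open Module Equiv Equiv.Perm

namespace Rep

variable {H : Type*} [Group H] {V : Type*} [AddCommGroup V] [Module (ZMod 2) V] (R : Rep H V)

/-- An involution commuting with y fixes an invariant plane vectorwise. -/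
theorem fix_plane (hI : R.TypeI) [Finite V] {g : H} (hgy : g * R.y = R.y * g) (hg2 : g * g = 1)
    {W : Submodule (ZMod 2) V} (hW : finrank (ZMod 2) W = 2) (hWY : ∀ v ∈ W, R.Y v ∈ W)
    (hWg : ∀ v ∈ W, R.a g v ∈ W) {v : V} (hv : v ∈ W) : R.a g v = v := by
  set M := W.map ((R.a g).toLinearMap + LinearMap.id) with hM
  have hMW : M ≤ W := by
    rintro _ ⟨w, hw, rfl⟩
    exact add_mem (hWg w hw) hw
  have hMY : ∀ w ∈ M, R.Y w ∈ M := by
    rintro _ ⟨w, hw, rfl⟩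
    refine ⟨R.Y w, hWY w hw, ?_⟩
    show R.a g (R.Y w) + R.Y w = R.Y (R.a g w + w)
    rw [map_add, R.a_comm hgy]
  obtain ⟨k, hk⟩ := R.even_inv hI M hMY
  have hle := Submodule.finrank_mono hMW
  rcases (show k = 0 ∨ k = 1 by omega) with rfl | rfl
  · refine eq_of_add0 ?_
    have hm : R.a g v + v ∈ M := ⟨v, hv, rfl⟩
    rw [Submodule.finrank_eq_zero.mp (hk.trans (add_zero 0))] at hm
    exact (Submodule.mem_bot _).mp hm
  · have e : M = W := Submodule.eq_of_le_of_finrank_le hMW (by omega)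
    have hfix : ∀ w ∈ M, R.a g w = w := by
      rintro _ ⟨w, -, rfl⟩
      show R.a g (R.a g w + w) = R.a g w + w
      rw [map_add, ← R.a_mul, hg2, R.a_one, add_comm]
    exact hfix v (e ▸ hv)

end Rep

namespace Base

variable {G : Type*} [Group G] {H : Type*} [Group H] {V : Type*} [AddCommGroup V] [Module (ZMod 2) V]
variable {B : Base G H V} [Finite G] [Finite H] [Finite V]

/-- An element of H commuting with the image of t lifts into `C(t)` if tz is not conjugate to z. -/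
theorem Ext.lift_comm {t : B.M} (e : B.Ext t) (htz : ¬ B.Conj ((t : G) * B.z))
    (hfm : Fix (B.R.a (B.phi t)) ≤ Mov (B.R.a (B.phi t))) {h : H} (hh : h * B.phi t = B.phi t * h) :
    ∃ m : B.M, B.phi m = h ∧ (m : G) * (t : G) * (m : G)⁻¹ = t := by
  obtain ⟨m, rfl⟩ := B.exists_lift h
  set a1 := t⁻¹ * (m * t * m⁻¹) with ha1
  have hphi : B.phi a1 = 1 := by
    rw [ha1, map_mul, map_mul, map_mul, map_inv, map_inv, hh, mul_inv_cancel_right, inv_mul_cancel]
  have haQ : (a1 : G) ∈ B.Q := (B.phi_ker _).mp hphi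
  have hconj : (m : G) * (t : G) * (m : G)⁻¹ = (t : G) * (a1 : G) := by
    rw [ha1]; simp only [Subgroup.coe_mul, InvMemClass.coe_inv]; group
  have hinv : (t : G) * (a1 : G) * (t : G)⁻¹ = (a1 : G)⁻¹ := by
    have h2 : ((t : G) * (a1 : G)) * ((t : G) * (a1 : G)) = 1 := by
      rw [← hconj]
      calc (m : G) * (t : G) * (m : G)⁻¹ * ((m : G) * (t : G) * (m : G)⁻¹) =
          (m : G) * ((t : G) * t) * (m : G)⁻¹ := by group
        _ = 1 := by rw [e.sq]; group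
    rw [e.inv]
    refine eq_inv_of_mul_eq_one_left ?_
    rw [← h2]; group
  have hfix : B.p a1 ∈ Fix (B.R.a (B.phi t)) := by
    rw [mem_fix, ← B.p_conj t a1 haQ, hinv, B.p_inv haQ]
  obtain ⟨v, hv⟩ := mem_mov.mp (hfm hfix)
  obtain ⟨q, hq, rfl⟩ := B.p_surj v
  refine ⟨(⟨q, B.Q_le_M hq⟩ : B.M)⁻¹ * m, by rw [map_mul, map_inv, B.phi_Q hq, inv_one, one_mul], ?_⟩
  show q⁻¹ * (m : G) * (t : G) * (q⁻¹ * (m : G))⁻¹ = t
  rw [show q⁻¹ * (m : G) * (t : G) * (q⁻¹ * (m : G))⁻¹ = q⁻¹ * ((m : G) * (t : G) * (m : G)⁻¹) * q by group,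
    hconj]
  rcases B.eq_of_p haQ (K_mem hq) ((p_K hq).trans hv).symm with h | h
  · rw [h, ← e.conj_K]; group
  · exfalso
    apply htz
    have h' : (t : G) * B.z = q⁻¹ * ((m : G) * (t : G) * (m : G)⁻¹) * q := by
      rw [hconj, h, show (t : G) * (B.K t q * B.z) = (t : G) * B.K t q * B.z by group, ← e.conj_K]
      calc (t : G) * B.z = q⁻¹ * (q * (t : G) * q⁻¹) * (q * B.z) := by group
        _ = q⁻¹ * (q * (t : G) * q⁻¹) * (B.z * q) := by rw [B.D.z_central q hq]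
        _ = _ := by group
    rw [h']
    have := Conj.conj B (Conj.conj B e.1 (m : G)) q⁻¹
    rwa [inv_inv] at this

theorem Ext.mem_Qof_lift {t : B.M} (e : B.Ext t) {m : B.M} (hm : (m : G) * (t : G) * (m : G)⁻¹ = t) {v : V}
    (hv : v ∈ B.pD t) : B.R.a (B.phi m) v ∈ B.pD t := by
  obtain ⟨d, hd, hdQ, rfl⟩ := hv
  have h := (B.mem_Qof_conj e.1 (x := (m : G))).mpr hd
  rw [hm] at h
  exact ⟨_, h, B.Q_conj m.2 hdQ, B.p_conj m d hdQ⟩

theorem not_planar (hI : B.R.TypeI) {t : B.M} (e : B.Ext t) (hty : B.phi t * B.R.y = B.R.y * B.phi t)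
    (h4 : finrank (ZMod 2) (Fix (B.R.a (B.phi t))) = 4)
    (hs : ∀ v ∈ Fix (B.R.a (B.phi t)), B.R.Q.q v = 0) {k : S6} (hk : sign k = 1)
    (h1 : B.R.el (k * g1 * k⁻¹) * B.phi t = B.phi t * B.R.el (k * g1 * k⁻¹))
    (h2 : B.R.el (k * g2 * k⁻¹) * B.phi t = B.phi t * B.R.el (k * g2 * k⁻¹)) : False := by
  classical
  set x := B.phi t with hx
  have hMov : Mov (B.R.a x) = Fix (B.R.a x) := by
    refine Submodule.eq_of_le_of_finrank_le e.mov_le_fix ?_
    have h := finrank_fix_mov (B.R.a x)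
    rw [h4, B.R.dim] at h
    omega
  have hsM : ∀ w ∈ Mov (B.R.a x), B.R.Q.q w = 0 := fun w hw => hs w (hMov ▸ hw)
  have hpA : B.pA t = Fix (B.R.a x) := le_antisymm pA_le_fix (hMov ▸ e.mov_le_pA hsM)
  obtain ⟨f, hf, -⟩ := e.exists_view
  have hcard := e.card_range hf
  rw [hpA, h4] at hcard
  have hcomm : ∀ a b : B.A t, a * b = b * a := fun a b => Subtype.ext ((B.p_comm _ a.2.1 _ b.2.1).mpr
    (B.R.Q.mov_isotropic (B.R.iso _) e.a_invol (hMov ▸ hpA ▸ ⟨a, a.2, a.2.1, rfl⟩)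
      (hMov ▸ hpA ▸ ⟨b, b.2, b.2.1, rfl⟩)))
  have helem : Rep.Elem2 f.range := by
    refine ⟨?_, ?_⟩
    · rintro _ ⟨a, rfl⟩ _ ⟨b, rfl⟩; rw [← map_mul, ← map_mul, hcomm]
    · rintro _ ⟨a, rfl⟩
      rw [← map_mul, show a * a = 1 from Subtype.ext ((B.p_sq _ a.2.1).mpr (hs _ (hpA ▸ ⟨a, a.2, a.2.1, rfl⟩))),
        map_one]
  have h16 := B.R.card_elem_le helem
  have hD0 : finrank (ZMod 2) (B.pD t) ≠ 0 := fun h => by rw [h] at hcard; omega
  by_cases htz : B.Conj ((t : G) * B.z)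
  · refine hD0 (Submodule.finrank_eq_zero.mpr ((Submodule.eq_bot_iff _).mpr fun v hv => ?_))
    exact e.pD_inf_mov htz hv (hMov ▸ hpA ▸ e.pD_le hv)
  have hDM : B.pD t ≤ Mov (B.R.a x) := fun v hv => hMov ▸ hpA ▸ e.pD_le hv
  obtain ⟨htw, h2D⟩ := e.twisted (J := B.Qof (t : G)) hDM fun a ha hne => e.not_conj ha hne
  -- invariance
  have hlift : ∀ h, h * x = x * h → ∀ v ∈ B.pD t, B.R.a h v ∈ B.pD t := by
    intro h hh v hv
    obtain ⟨m, rfl, hm⟩ := e.lift_comm htz hMov.ge hh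
    exact e.mem_Qof_lift hm hv
  have hYD : ∀ v ∈ B.pD t, B.R.Y v ∈ B.pD t := hlift B.R.y hty.symm
  obtain ⟨i, hi⟩ := B.R.even_inv hI (B.pD t) hYD
  have hD2 : finrank (ZMod 2) (B.pD t) = 2 := by
    have hle : finrank (ZMod 2) (B.pD t) ≤ 2 := h2D
    omega
  -- the complement
  set f1 := (B.R.a x).toLinearMap + LinearMap.id with hf1
  set Lp := (B.pD t).comap f1 with hLp
  set W := B.R.Q.perp Lp with hW
  have hFixL : Fix (B.R.a x) ≤ Lp := fun v hv => by
    show f1 v ∈ B.pD t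
    rw [show f1 v = 0 from hv]; exact zero_mem _
  have hL6 : finrank (ZMod 2) Lp = 6 := by
    have h := LinearMap.finrank_range_add_finrank_ker (f1.comp Lp.subtype)
    have hr : LinearMap.range (f1.comp Lp.subtype) = B.pD t := by
      rw [LinearMap.range_comp, Submodule.range_subtype]
      refine le_antisymm (Submodule.map_comap_le _ _) fun v hv => ?_
      obtain ⟨u, hu⟩ := mem_mov.mp (hDM hv)
      exact ⟨u, show f1 u ∈ B.pD t from (show f1 u = v from hu) ▸ hv, hu⟩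
    have hk : finrank (ZMod 2) (LinearMap.ker (f1.comp Lp.subtype)) = finrank (ZMod 2) (Fix (B.R.a x)) := by
      refine LinearEquiv.finrank_eq
        (LinearEquiv.ofBijective ((Lp.subtype.comp (LinearMap.ker (f1.comp Lp.subtype)).subtype).codRestrict
          (Fix (B.R.a x)) fun v => v.2) ⟨?_, ?_⟩)
      · intro a b hab
        exact Subtype.ext (Subtype.ext (congrArg (Subtype.val : Fix (B.R.a x) → V) hab))
      · intro v
        exact ⟨⟨⟨v.1, hFixL v.2⟩, v.2⟩, rfl⟩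
    rw [hr, hD2, hk, h4] at h
    omega
  have hW2 : finrank (ZMod 2) W = 2 := by
    have := B.R.Q.finrank_perp Lp
    rw [hL6, B.R.dim] at this
    rw [hW]; omega
  have hWF : W ≤ Fix (B.R.a x) := by
    intro w hw
    rw [← hMov]
    exact B.R.Q.mem_mov_of_perp (B.R.iso _) fun v hv => B.R.Q.mem_perp.mp hw v (hFixL hv)
  have hWinv : ∀ h, h * x = x * h → ∀ w ∈ W, B.R.a h w ∈ W := by
    intro h hh w hw
    refine B.R.Q.mem_perp.mpr fun v hv => ?_
    have hinvc : h⁻¹ * x = x * h⁻¹ := ((Commute.inv_left (show Commute h x from hh))).eq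
    have hv' : B.R.a h⁻¹ v ∈ Lp := by
      show B.R.a x (B.R.a h⁻¹ v) + B.R.a h⁻¹ v ∈ B.pD t
      rw [← B.R.a_comm hinvc, ← map_add]
      exact hlift h⁻¹ hinvc _ hv
    have h' := B.R.Q.mem_perp.mp hw _ hv'
    rw [← B.R.B_a h, B.R.a_inv_cancel] at h'
    exact h'
  have hdis : B.pD t ⊓ W = ⊥ := by
    rw [Submodule.eq_bot_iff]
    rintro w ⟨hwD, hwW⟩
    by_contra hw0
    have hlt : ¬ B.pD t ≤ Submodule.span (ZMod 2) {w} := fun h => by
      have := Submodule.finrank_mono h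
      rw [hD2, finrank_span_singleton hw0] at this; omega
    obtain ⟨w1, hw1, hn⟩ := SetLike.not_le_iff_exists.mp hlt
    obtain ⟨v, hv⟩ := mem_mov.mp (hDM hw1)
    have h' := htw w1 hw1 w hwD (fun h => hn (h ▸ zero_mem _)) hw0
      (fun h => hn (h ▸ Submodule.mem_span_singleton_self _)) v hv
    rw [B.R.Q.mem_perp.mp hwW v (show f1 v ∈ B.pD t from (show f1 v = w1 from hv) ▸ hw1)] at h'
    exact zero_ne_one h'
  have hsum : B.pD t ⊔ W = Fix (B.R.a x) := by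
    refine Submodule.eq_of_le_of_finrank_le (sup_le (hMov ▸ hDM) hWF) ?_
    have := Submodule.finrank_sup_add_finrank_inf_eq (B.pD t) W
    rw [hdis, finrank_bot, hD2, hW2] at this
    rw [h4]; omega
  obtain ⟨-, -, -, -, -, -, s1, s2, -, -, g12, g22, hprod⟩ := basic_facts
  have htriv : ∀ g : S6, sign g = 1 → g * g = 1 →
      B.R.el (k * g * k⁻¹) * x = x * B.R.el (k * g * k⁻¹) → ∀ v ∈ Fix (B.R.a x), B.R.a (B.R.el (k * g * k⁻¹)) v = v := by
    intro g hg hg2 hgx v hv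
    have hs' : sign (k * g * k⁻¹) = 1 := Rep.sign_conj hg
    have hy := B.R.comm_y (B.R.pi_el (k * g * k⁻¹))
    have hi2 : B.R.el (k * g * k⁻¹) * B.R.el (k * g * k⁻¹) = 1 := by
      rw [← B.R.el_mul hs' hs', show k * g * k⁻¹ * (k * g * k⁻¹) = k * (g * g) * k⁻¹ by group, hg2,
        mul_one, mul_inv_cancel, B.R.el_one]
    rw [← hsum] at hv
    obtain ⟨d, hd, w, hw, rfl⟩ := Submodule.mem_sup.mp hv
    rw [map_add, B.R.fix_plane hI hy hi2 hD2 hYD (hlift _ hgx) hd,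
      B.R.fix_plane hI hy hi2 hW2 (hWinv _ hty.symm) (hWinv _ hgx) hw]
  have t1 := htriv g1 s1 g12 h1
  have t2 := htriv g2 s2 g22 h2
  have hc : ∀ v ∈ Fix (B.R.a x), B.R.a (B.R.el (k * c0 * k⁻¹)) v = v := by
    intro v hv
    have hg : sign (k * g1 * k⁻¹ * (k * g2 * k⁻¹)) = 1 := by rw [map_mul, Rep.sign_conj s1, Rep.sign_conj s2, one_mul]
    rw [← hprod, show k * (g1 * g2 * (g1 * g2)) * k⁻¹ =
      k * g1 * k⁻¹ * (k * g2 * k⁻¹) * (k * g1 * k⁻¹ * (k * g2 * k⁻¹)) by group, B.R.a_el_mul hg hg]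
    have h12 : B.R.a (B.R.el (k * g1 * k⁻¹ * (k * g2 * k⁻¹))) v = v := by
      rw [B.R.a_el_mul (Rep.sign_conj s1) (Rep.sign_conj s2), t2 v hv, t1 v hv]
    rw [h12, h12]
  have hFS : Fix (B.R.a x) = B.R.S (k * c0 * k⁻¹) := by
    refine Submodule.eq_of_le_of_finrank_le (fun v hv => B.R.mem_S.mpr (hc v hv)) ?_
    rw [B.R.finrank_S_conj hk Rep.sign_c0, B.R.finrank_S_c0 hI, h4]
  have hback : ∀ g : S6, sign g = 1 → (∀ v ∈ Fix (B.R.a x), B.R.a (B.R.el (k * g * k⁻¹)) v = v) →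
      ∀ v ∈ B.R.S c0, B.R.a (B.R.el g) v = v := by
    intro g hg hgt v hv
    have hv' := (B.R.S_conj_el hk Rep.sign_c0 (v := v)).mpr hv
    have h := hgt _ (hFS ▸ hv')
    exact B.R.mem_S.mp ((B.R.S_conj_el hk hg).mp (B.R.mem_S.mpr h))
  exact B.R.not_both_trivial hI (hback g1 s1 t1) (hback g2 s2 t2)

end Base

end Cfsg.Agent.S3A6Q9
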