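import Cfsg.Agent.Lib.S3A6Q9.Facts
import Cfsg.Agent.Lib.S3A6Q9.Linear

/-
Faithful actions on an 8-dimensional quadratic space of a group H ≤ S3 × S6 containing C3 × A6 and
mapping onto S3.  Either the element y of order 3 is fixed-point-free (`TypeI`), or its commutator
space is 2-dimensional and centralized by the kernel of the projection to S3 (`TypeII`).
-/

set_option autoImplicit false

namespace Cfsg.Agent.S3A6Q9

open Module Equiv Equiv.Perm

/-- The abstract shape of H. -/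
structure Shape (H : Type*) [Group H] where
  pi : H →* S3
  rho : H →* S6
  inj : ∀ h, pi h = 1 → rho h = 1 → h = 1
  e : ↥(alternatingGroup (Fin 6)) →* H
  pi_e : ∀ σ, pi (e σ) = 1
  rho_e : ∀ σ, rho (e σ) = σ
  y : H
  y3 : y ^ 3 = 1
  y_pi : pi y ≠ 1
  y_rho : rho y = 1
  surj : ∀ τ, ∃ h, pi h = τ
  parity : (∀ τ, ∃ h, pi h = τ ∧ rho h = 1) ∨ (∀ h, sign (pi h) = sign (rho h))

/-- An action of a group of this shape on an 8-dimensional quadratic space. -/
structure Rep (H : Type*) [Group H] (V : Type*) [AddCommGroup V] [Module (ZMod 2) V] extends Shape H where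
  Q : QS V
  a : H →* (V ≃ₗ[ZMod 2] V)
  iso : ∀ h v, Q.q (a h v) = Q.q v
  faith : ∀ h, (∀ v, a h v = v) → h = 1
  dim : finrank (ZMod 2) V = 8

theorem small_hom {M : Type*} [Group M] [Finite M] (hM : Nat.card M < 360)
    (φ : ↥(alternatingGroup (Fin 6)) →* M) (σ : ↥(alternatingGroup (Fin 6))) : φ σ = 1 := by
  haveI : IsSimpleGroup ↥(alternatingGroup (Fin 6)) := alternatingGroup.isSimpleGroup (by simp)
  rcases IsSimpleGroup.eq_bot_or_eq_top_of_normal φ.ker inferInstance with h | h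
  · exfalso
    have h1 := Nat.card_le_card_of_injective φ ((MonoidHom.ker_eq_bot_iff φ).mp h)
    have h2 : 2 * Nat.card ↥(alternatingGroup (Fin 6)) = Nat.card S6 := two_mul_nat_card_alternatingGroup
    have h3 : Nat.card S6 = 720 := by
      rw [Nat.card_eq_fintype_card, Fintype.card_perm, Fintype.card_fin]; decide
    omega
  · exact φ.mem_ker.mp (h ▸ Subgroup.mem_top σ)

theorem mem_alt {σ : S6} : σ ∈ alternatingGroup (Fin 6) ↔ sign σ = 1 := mem_alternatingGroup

/-- A homomorphism killing one nontrivial element of A6 is trivial. -/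
theorem trivial_of_kernel {M : Type*} [Group M]
    (φ : ↥(alternatingGroup (Fin 6)) →* M) (σ₀ : ↥(alternatingGroup (Fin 6))) (h0 : σ₀ ≠ 1) (h : φ σ₀ = 1)
    (σ : ↥(alternatingGroup (Fin 6))) : φ σ = 1 := by
  haveI : IsSimpleGroup ↥(alternatingGroup (Fin 6)) := alternatingGroup.isSimpleGroup (by simp)
  rcases IsSimpleGroup.eq_bot_or_eq_top_of_normal φ.ker inferInstance with e | e
  · exact absurd (Subgroup.mem_bot.mp (e ▸ φ.mem_ker.mpr h : σ₀ ∈ (⊥ : Subgroup _))) h0
  · exact φ.mem_ker.mp (e ▸ Subgroup.mem_top σ)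

namespace Shape

variable {H : Type*} [Group H] (S : Shape H)

theorem ext {g h : H} (h1 : S.pi g = S.pi h) (h2 : S.rho g = S.rho h) : g = h :=
  eq_of_mul_inv_eq_one (S.inj _ (by rw [map_mul, map_inv, h1, mul_inv_cancel])
    (by rw [map_mul, map_inv, h2, mul_inv_cancel]))

/-- The lift of an even permutation. -/
noncomputable def el (σ : S6) : H := if h : sign σ = 1 then S.e ⟨σ, mem_alt.mpr h⟩ else 1

theorem pi_el (σ : S6) : S.pi (S.el σ) = 1 := by
  unfold el; split
  · exact S.pi_e _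
  · exact map_one _

theorem rho_el {σ : S6} (h : sign σ = 1) : S.rho (S.el σ) = σ := by
  unfold el; rw [dif_pos h]; exact S.rho_e _

theorem el_mul {σ τ : S6} (hσ : sign σ = 1) (hτ : sign τ = 1) : S.el (σ * τ) = S.el σ * S.el τ :=
  S.ext (by simp [S.pi_el]) (by rw [map_mul, S.rho_el hσ, S.rho_el hτ, S.rho_el (by rw [map_mul, hσ, hτ, one_mul])])

theorem el_one : S.el 1 = 1 := S.ext (by rw [S.pi_el, map_one]) (by rw [S.rho_el (map_one _), map_one])

theorem el_inv {σ : S6} (hσ : sign σ = 1) : S.el σ⁻¹ = (S.el σ)⁻¹ :=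
  eq_inv_of_mul_eq_one_left (by
    rw [← S.el_mul (by rw [map_inv, hσ, inv_one]) hσ, inv_mul_cancel, S.el_one])

theorem el_eq {h : H} (hp : S.pi h = 1) (hs : sign (S.rho h) = 1) : S.el (S.rho h) = h :=
  S.ext (by rw [S.pi_el, hp]) (S.rho_el hs)

theorem el_conj {h : H} {σ : S6} (hσ : sign σ = 1) :
    h * S.el σ * h⁻¹ = S.el (S.rho h * σ * (S.rho h)⁻¹) := by
  refine S.ext (by simp [S.pi_el]) ?_
  rw [map_mul, map_mul, map_inv, S.rho_el hσ, S.rho_el (by
    rw [map_mul, map_mul, map_inv, hσ, mul_one, mul_inv_cancel])]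

theorem comm_y {h : H} (hp : S.pi h = 1) : h * S.y = S.y * h :=
  S.ext (by simp [hp]) (by simp [S.y_rho])

theorem comm_el {h : H} (hr : S.rho h = 1) {σ : S6} (hσ : sign σ = 1) : h * S.el σ = S.el σ * h :=
  S.ext (by simp [S.pi_el]) (by simp [hr])

theorem y_sign : sign (S.pi S.y) = 1 := by
  have h : (sign (S.pi S.y)) ^ 3 = 1 := by rw [← map_pow, ← map_pow, S.y3, map_one, map_one]
  rcases Int.units_eq_one_or (sign (S.pi S.y)) with e | e
  · exact e
  · rw [e] at h; exact absurd h (by decide)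

theorem pi_cases : ∀ p r : S3, sign p = 1 → p ≠ 1 →
    (r = 1 ∨ r = p ∨ r = p * p ∨ (sign r = -1 ∧ r * r = 1 ∧ r * p * r⁻¹ = p * p)) := by decide

theorem pi_class (h : H) :
    S.pi h = 1 ∨ S.pi h = S.pi S.y ∨ S.pi h = S.pi S.y * S.pi S.y ∨
      (sign (S.pi h) = -1 ∧ h * S.y * h⁻¹ = S.y * S.y) := by
  rcases pi_cases (S.pi S.y) (S.pi h) S.y_sign S.y_pi with e | e | e | ⟨e, -, e2⟩
  · exact Or.inl e
  · exact Or.inr (Or.inl e)
  · exact Or.inr (Or.inr (Or.inl e))
  · exact Or.inr (Or.inr (Or.inr ⟨e, S.ext (by simp only [map_mul, map_inv]; exact e2) (by simp [S.y_rho])⟩))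

end Shape

theorem zmod2_add_self (a : ZMod 2) : a + a = 0 := by revert a; decide

theorem const_q_false {V : Type*} [AddCommGroup V] [Module (ZMod 2) V] [Finite V] (Q : QS V) (W : Submodule (ZMod 2) V) (hW : finrank (ZMod 2) W = 4)
    (hnd : ∀ v ∈ W, (∀ w ∈ W, Q.B v w = 0) → v = 0) (e : ZMod 2) (hall : ∀ v ∈ W, v ≠ 0 → Q.q v = e) :
    False := by
  classical
  haveI := Fintype.ofFinite W
  have hB : ∀ u ∈ W, ∀ v ∈ W, u ≠ 0 → v ≠ 0 → u ≠ v → Q.B u v = e := fun u hu v hv h1 h2 h3 => by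
    have := Q.polar u v
    rw [hall _ (add_mem hu hv) (fun h => h3 (eq_of_add0 h)), hall u hu h1, hall v hv h2] at this
    rcases zmod2_cases (Q.B u v) with h | h <;> rcases zmod2_cases e with h' | h' <;>
      rw [h, h'] at this ⊢ <;> first | rfl | exact absurd this (by decide)
  have hc : Fintype.card W = 16 := by
    rw [Module.card_eq_pow_finrank (K := ZMod 2), ZMod.card, hW]; rfl
  obtain ⟨v0, hv0, hne⟩ : ∃ v ∈ W, v ≠ 0 := Submodule.exists_mem_ne_zero_of_ne_bot fun h => by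
    rw [h, finrank_bot] at hW; omega
  have pick : ∀ l : List W, l.length ≤ 4 → ∃ u : W, u ∉ l := by
    intro l hl
    by_contra! hcon
    have hsub : (Finset.univ : Finset W) ⊆ l.toFinset := fun x _ => List.mem_toFinset.mpr (hcon x)
    have := (Finset.card_le_card hsub).trans l.toFinset_card_le
    rw [Finset.card_univ, hc] at this
    omega
  obtain ⟨w, hw⟩ := pick [0, ⟨v0, hv0⟩] (by simp)
  simp only [List.mem_cons, List.not_mem_nil, or_false, not_or] at hw
  obtain ⟨u, hu⟩ := pick [0, ⟨v0, hv0⟩, w, ⟨v0, hv0⟩ + w] (by simp)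
  simp only [List.mem_cons, List.not_mem_nil, or_false, not_or] at hu
  have nz : ∀ {x : W}, x ≠ 0 → (x : V) ≠ 0 := fun hx h => hx (Subtype.ext h)
  have hsum : ⟨v0, hv0⟩ + w ≠ (0 : W) := fun h => hw.2 (Subtype.ext (eq_of_add0 (congrArg Subtype.val h)).symm)
  have h1 := hB u u.2 v0 hv0 (nz hu.1) hne fun h => hu.2.1 (Subtype.ext h)
  have h2 := hB u u.2 w w.2 (nz hu.1) (nz hw.1) fun h => hu.2.2.1 (Subtype.ext h)
  have h3 := hB u u.2 (v0 + w) (add_mem hv0 w.2) (nz hu.1) (nz hsum) fun h => hu.2.2.2 (Subtype.ext h)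
  rw [map_add, h1, h2] at h3
  have he : e = 0 := by rcases zmod2_cases e with h | h <;> rw [h] at h3 ⊢; exact absurd h3 (by decide)
  refine hne (hnd v0 hv0 fun x hx => ?_)
  by_cases hx0 : x = 0
  · rw [hx0, map_zero]
  by_cases hxv : x = v0
  · rw [hxv, Q.alt]
  rw [hB v0 hv0 x hx hne hx0 (Ne.symm hxv), he]

namespace Rep

variable {H : Type*} [Group H] {V : Type*} [AddCommGroup V] [Module (ZMod 2) V] (R : Rep H V)

theorem a_mul (g h : H) (v : V) : R.a (g * h) v = R.a g (R.a h v) := by rw [map_mul]; rfl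

theorem a_one (v : V) : R.a 1 v = v := by rw [map_one]; rfl

theorem a_comm {g h : H} (hgh : g * h = h * g) (v : V) : R.a g (R.a h v) = R.a h (R.a g v) := by
  rw [← R.a_mul, hgh, R.a_mul]

theorem a_inv_cancel (h : H) (v : V) : R.a h (R.a h⁻¹ v) = v := by
  rw [← R.a_mul, mul_inv_cancel, R.a_one]

theorem B_a (h : H) (u v : V) : R.Q.B (R.a h u) (R.a h v) = R.Q.B u v := R.Q.B_map (R.iso h) u v

/-- The action of y. -/
abbrev Y : V ≃ₗ[ZMod 2] V := R.a R.y

/-- The commutator space of y. -/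
abbrev U : Submodule (ZMod 2) V := Mov R.Y
/-- The fixed space of y. -/
abbrev C : Submodule (ZMod 2) V := Fix R.Y

theorem Y_pow : R.Y ^ 3 = 1 := by rw [← map_pow, R.y3, map_one]

theorem Y3 (v : V) : R.Y (R.Y (R.Y v)) = v := by
  have := R.Y_pow
  rw [pow_succ, pow_two] at this
  exact congrArg (fun T : V ≃ₗ[ZMod 2] V => T v) this

theorem sum_mem_U {v : V} (hv : v ∈ R.U) : v + R.Y v + R.Y (R.Y v) = 0 := by
  obtain ⟨w, rfl⟩ := mem_mov.mp hv
  rw [map_add, map_add, R.Y3]
  have : ∀ x y z : V, x + y + (z + x) + (y + z) = (x + x) + (y + y) + (z + z) := fun x y z => by abel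
  rw [show R.Y w + w + (R.Y (R.Y w) + R.Y w) + (w + R.Y (R.Y w)) =
    (R.Y w + R.Y w) + (w + w) + (R.Y (R.Y w) + R.Y (R.Y w)) by abel]
  simp [add_self0]

theorem U_inf_C {v : V} (hU : v ∈ R.U) (hC : v ∈ R.C) : v = 0 := by
  have h := R.sum_mem_U hU
  rw [mem_fix.mp hC, mem_fix.mp hC, add_self0, zero_add] at h
  exact h

theorem decomp (v : V) : ∃ u ∈ R.U, ∃ c ∈ R.C, v = u + c := by
  refine ⟨R.Y v + R.Y (R.Y v), ⟨R.Y v, ?_⟩, v + R.Y v + R.Y (R.Y v), mem_fix.mpr ?_, ?_⟩
  · show R.Y (R.Y v) + R.Y v = _; abel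
  · rw [map_add, map_add, R.Y3]; abel
  · rw [show R.Y v + R.Y (R.Y v) + (v + R.Y v + R.Y (R.Y v)) =
      v + (R.Y v + R.Y v) + (R.Y (R.Y v) + R.Y (R.Y v)) by abel, add_self0, add_self0, add_zero, add_zero]

theorem C_eq_perp [Finite V] : R.C = R.Q.perp R.U := R.Q.fix_eq_perp (R.iso _)

theorem orth_UC [Finite V] {u c : V} (hu : u ∈ R.U) (hc : c ∈ R.C) : R.Q.B u c = 0 := by
  rw [R.C_eq_perp] at hc
  exact (R.Q.mem_perp.mp hc) u hu

theorem finrank_UC [Finite V] : finrank (ZMod 2) R.C + finrank (ZMod 2) R.U = 8 :=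
  (finrank_fix_mov R.Y).trans R.dim

theorem map_U {h : H} (hc : h * R.y = R.y * h) {v : V} (hv : v ∈ R.U) : R.a h v ∈ R.U := by
  obtain ⟨w, rfl⟩ := mem_mov.mp hv
  refine ⟨R.a h w, ?_⟩
  show R.Y (R.a h w) + R.a h w = _
  rw [map_add, R.a_comm hc.symm]

theorem map_C {h : H} (hc : h * R.y = R.y * h) {v : V} (hv : v ∈ R.C) : R.a h v ∈ R.C := by
  rw [mem_fix, R.a_comm hc.symm, mem_fix.mp hv]

theorem Y_U {v : V} (hv : v ∈ R.U) : R.Y v ∈ R.U := R.map_U rfl hv

theorem fpf_U {v : V} (hv : v ∈ R.U) (h : R.Y v = v) : v = 0 := R.U_inf_C hv (mem_fix.mpr h)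

theorem even_dim [Finite V] (W : Submodule (ZMod 2) V) (hW : W ≤ R.U) (hY : ∀ v ∈ W, R.Y v ∈ W) :
    Even (finrank (ZMod 2) W) := by
  haveI : Fact (Nat.Prime 3) := ⟨Nat.prime_three⟩
  have h := card_mod_fixed 3 R.Y (fun v => R.Y3 v) W hY fun v hv h => R.fpf_U (hW hv) h
  rcases Nat.even_or_odd (finrank (ZMod 2) W) with e | ⟨k, e⟩
  · exact e
  · exfalso
    rw [e] at h
    have : 2 ^ (2 * k + 1) % 3 = 2 := by
      rw [pow_succ, pow_mul, Nat.mul_mod, Nat.pow_mod]; norm_num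
    rw [Nat.ModEq, this] at h
    norm_num at h

/-- The element of order five. -/
noncomputable abbrev F : V ≃ₗ[ZMod 2] V := R.a (R.el f5)

theorem sign_f5 : sign f5 = 1 := basic_facts.2.2.2.2.2.1

theorem el_f5_pow : R.el f5 ^ 5 = 1 := by
  refine R.inj _ (by rw [map_pow, R.pi_el, one_pow]) ?_
  rw [map_pow, R.rho_el sign_f5]; exact basic_facts.2.2.2.1

theorem F_pow : R.F ^ 5 = 1 := by rw [← map_pow, R.el_f5_pow, map_one]

theorem el_f5_y : R.el f5 * R.y = R.y * R.el f5 := R.comm_y (R.pi_el _)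

theorem F_not_one : ∃ v, R.F v ≠ v := by
  by_contra! h
  have := congrArg R.rho (R.faith _ h)
  rw [R.rho_el sign_f5, map_one] at this
  exact basic_facts.2.2.2.2.1 this

theorem fix_inf_mov_F {v : V} (h1 : v ∈ Fix R.F) (h2 : v ∈ Mov R.F) : v = 0 := by
  obtain ⟨w, rfl⟩ := mem_mov.mp h2
  have h := mem_fix.mp h1
  set F := R.F with hF
  have h5 : F (F (F (F (F w)))) = w := by
    have := R.F_pow
    simp only [pow_succ, pow_zero, one_mul] at this
    exact congrArg (fun T : V ≃ₗ[ZMod 2] V => T w) this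
  set v := F w + w with hv
  have e : F w = v + w := by rw [hv, add_assoc, add_self0, add_zero]
  rw [e, map_add, h, e, ← add_assoc, add_self0, zero_add, e, map_add, h, e, ← add_assoc, add_self0,
    zero_add, e] at h5
  calc v = (v + w) + w := by rw [add_assoc, add_self0, add_zero]
    _ = 0 := by rw [h5, add_self0]

/-- The part of the commutator space of F inside a nondegenerate invariant space. -/
theorem dim_movF [Finite V] : finrank (ZMod 2) ↥(R.U.map (R.F.toLinearMap + LinearMap.id)) = 0 ∨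
    finrank (ZMod 2) ↥(R.U.map (R.F.toLinearMap + LinearMap.id)) = 8 := by
  set W := R.U.map (R.F.toLinearMap + LinearMap.id) with hW
  have hWU : W ≤ R.U := by
    rintro _ ⟨u, hu, rfl⟩
    exact add_mem (R.map_U R.el_f5_y hu) hu
  have hWM : W ≤ Mov R.F := LinearMap.map_le_range
  have hFW : ∀ v ∈ W, R.F v ∈ W := by
    rintro _ ⟨u, hu, rfl⟩
    exact ⟨R.F u, R.map_U R.el_f5_y hu, by show _ = R.F (R.F u + u); rw [map_add]; rfl⟩
  have hYW : ∀ v ∈ W, R.Y v ∈ W := by
    rintro _ ⟨u, hu, rfl⟩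
    refine ⟨R.Y u, R.Y_U hu, ?_⟩
    show R.F (R.Y u) + R.Y u = R.Y (R.F u + u)
    rw [map_add, R.a_comm R.el_f5_y]
  have hfree : ∀ v ∈ W, R.F v = v → v = 0 := fun v hv h => R.fix_inf_mov_F (mem_fix.mpr h) (hWM hv)
  haveI : Fact (Nat.Prime 5) := ⟨by norm_num⟩
  have hmod := card_mod_fixed 5 R.F (fun v => by
    have := R.F_pow
    simp only [pow_succ, pow_zero, one_mul] at this
    exact congrArg (fun T : V ≃ₗ[ZMod 2] V => T v) this) W hFW hfree
  have hle : finrank (ZMod 2) W ≤ 8 := R.dim ▸ W.finrank_le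
  have hev := R.even_dim W hWU hYW
  by_contra! hne
  have h4 : finrank (ZMod 2) W = 4 := by
    obtain ⟨k, hk⟩ := hev
    rw [hk] at hmod hle hne ⊢
    rw [Nat.ModEq] at hmod
    have : k ≤ 4 := by omega
    interval_cases k <;> norm_num at hmod <;> omega
  refine no_three_five R.Q W h4 (fun v hv hperp => ?_) R.Y R.F (R.iso _) (R.iso _) hYW hFW R.Y_pow R.F_pow
    (show R.Y * R.F = R.F * R.Y by rw [← map_mul, ← map_mul, R.el_f5_y]) (fun v hv => R.fpf_U (hWU hv)) hfree
  refine R.fix_inf_mov_F ?_ (hWM hv)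
  rw [R.Q.fix_eq_perp (R.iso _), R.Q.mem_perp]
  intro w hw
  obtain ⟨x, rfl⟩ := mem_mov.mp hw
  obtain ⟨u, hu, c, hc, rfl⟩ := R.decomp x
  have hc' : R.F c + c ∈ R.C := add_mem (R.map_C R.el_f5_y hc) hc
  rw [map_add R.F, show R.F u + R.F c + (u + c) = (R.F u + u) + (R.F c + c) by abel, map_add,
    LinearMap.add_apply, R.Q.comm (R.F u + u), R.Q.comm (R.F c + c)]
  rw [hperp (R.F u + u) ⟨u, hu, rfl⟩, R.orth_UC (hWU hv) hc', add_zero]

/-- y acts without fixed points and so does the element of order five. -/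
def TypeI : Prop := (∀ v, R.Y v = v → v = 0) ∧ ∀ v, R.F v = v → v = 0

/-- The commutator space of y is a plane centralized by the kernel of the map to S3. -/
def TypeII : Prop := finrank (ZMod 2) R.U = 2 ∧ (∀ u ∈ R.U, u ≠ 0 → R.Q.q u = 1) ∧
  ∀ h, R.pi h = 1 → ∀ u ∈ R.U, R.a h u = u

theorem A6_trivial_U [Finite V] (hF : ∀ u ∈ R.U, R.F u = u) (σ : S6) (hσ : sign σ = 1) {u : V} (hu : u ∈ R.U) :
    R.a (R.el σ) u = u := by
  let φ : ↥(alternatingGroup (Fin 6)) →* Equiv.Perm ↥R.U :=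
    { toFun := fun τ =>
        { toFun := fun v => ⟨R.a (R.e τ) v, R.map_U (R.comm_y (R.pi_e τ)) v.2⟩
          invFun := fun v => ⟨R.a (R.e τ⁻¹) v, R.map_U (R.comm_y (R.pi_e _)) v.2⟩
          left_inv := fun v => Subtype.ext (by
            show R.a (R.e τ⁻¹) (R.a (R.e τ) v) = v
            rw [← R.a_mul, ← map_mul, inv_mul_cancel, map_one, R.a_one])
          right_inv := fun v => Subtype.ext (by
            show R.a (R.e τ) (R.a (R.e τ⁻¹) v) = v
            rw [← R.a_mul, ← map_mul, mul_inv_cancel, map_one, R.a_one]) }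
      map_one' := Equiv.ext fun v => Subtype.ext (by show R.a (R.e 1) v = v; rw [map_one, R.a_one])
      map_mul' := fun s t => Equiv.ext fun v => Subtype.ext (by
        show R.a (R.e (s * t)) v = _; rw [map_mul, R.a_mul]; rfl) }
  have hel : ∀ τ : S6, ∀ h : sign τ = 1, R.e ⟨τ, mem_alt.mpr h⟩ = R.el τ := fun τ h => by
    unfold Shape.el; rw [dif_pos h]
  have h0 : φ ⟨f5, mem_alt.mpr sign_f5⟩ = 1 := Equiv.ext fun v => Subtype.ext (by
    show R.a (R.e _) v = v
    rw [hel f5 sign_f5]; exact hF v v.2)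
  have h := trivial_of_kernel φ _ (fun e => basic_facts.2.2.2.2.1 (congrArg Subtype.val e)) h0
    ⟨σ, mem_alt.mpr hσ⟩
  have h' := congrArg (fun p : Equiv.Perm ↥R.U => (p ⟨u, hu⟩ : V)) h
  simp only [Equiv.Perm.coe_one, id_eq] at h'
  rw [← hel σ hσ]
  exact h'

theorem U_span [Finite V] (hU2 : finrank (ZMod 2) R.U = 2) {u : V} (hu : u ∈ R.U) (hu0 : u ≠ 0) :
    Submodule.span (ZMod 2) {u, R.Y u} = R.U := by
  refine Submodule.eq_of_le_of_finrank_le (Submodule.span_le.mpr ?_) ?_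
  · rintro x (rfl | rfl)
    exacts [hu, R.Y_U hu]
  rw [hU2]
  have hli : LinearIndependent (ZMod 2) ![u, R.Y u] := by
    refine (LinearIndependent.pair_iff' hu0).mpr fun a ha => ?_
    rcases zmod2_cases a with rfl | rfl
    · rw [zero_smul] at ha
      exact hu0 (R.Y.map_eq_zero_iff.mp ha.symm)
    · rw [one_smul] at ha
      exact hu0 (R.fpf_U hu ha.symm)
  have h := finrank_span_eq_card hli
  rw [Fintype.card_fin, Matrix.range_cons_cons_empty] at h
  rw [h]

theorem not_dim_four [Finite V] (hU : finrank (ZMod 2) R.U = 4) (hFU : ∀ u ∈ R.U, R.F u = u)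
    (hMC : Mov R.F ≤ R.C) (hFM : ∀ v ∈ Mov R.F, R.F v = v → v = 0) (hM4 : 4 ≤ finrank (ZMod 2) (Mov R.F)) :
    False := by
  classical
  haveI := Fintype.ofFinite V
  haveI : Fact (Nat.Prime 5) := ⟨by norm_num⟩
  have hsum := R.finrank_UC
  have hMeq : Mov R.F = R.C := Submodule.eq_of_le_of_finrank_le hMC (by omega)
  have hC4 : finrank (ZMod 2) R.C = 4 := by omega
  have hfree : ∀ v ∈ R.C, R.F v = v → v = 0 := hMeq ▸ hFM
  -- the nonzero vectors of C with a given value of q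
  let T : ZMod 2 → Type _ := fun e => {v : V // v ∈ R.C ∧ v ≠ 0 ∧ R.Q.q v = e}
  have hmaps : ∀ (τ : ↥(alternatingGroup (Fin 6))) (e : ZMod 2) (v : T e),
      R.a (R.e τ) v.1 ∈ R.C ∧ R.a (R.e τ) v.1 ≠ 0 ∧ R.Q.q (R.a (R.e τ) v.1) = e := fun τ e v =>
    ⟨R.map_C (R.comm_y (R.pi_e τ)) v.2.1, fun h => v.2.2.1 ((R.a (R.e τ)).map_eq_zero_iff.mp h),
      (R.iso _ _).trans v.2.2.2⟩
  let act : ∀ e : ZMod 2, ↥(alternatingGroup (Fin 6)) →* Equiv.Perm (T e) := fun e =>
    { toFun := fun τ =>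
        { toFun := fun v => ⟨_, hmaps τ e v⟩
          invFun := fun v => ⟨_, hmaps τ⁻¹ e v⟩
          left_inv := fun v => Subtype.ext (by
            show R.a (R.e τ⁻¹) (R.a (R.e τ) v.1) = v.1
            rw [← R.a_mul, ← map_mul, inv_mul_cancel, map_one, R.a_one])
          right_inv := fun v => Subtype.ext (by
            show R.a (R.e τ) (R.a (R.e τ⁻¹) v.1) = v.1
            rw [← R.a_mul, ← map_mul, mul_inv_cancel, map_one, R.a_one]) }
      map_one' := Equiv.ext fun v => Subtype.ext (by show R.a (R.e 1) v.1 = v.1; rw [map_one, R.a_one])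
      map_mul' := fun s t => Equiv.ext fun v => Subtype.ext (by
        show R.a (R.e (s * t)) v.1 = _; rw [map_mul, R.a_mul]; rfl) }
  let σ5 : ↥(alternatingGroup (Fin 6)) := ⟨f5, mem_alt.mpr sign_f5⟩
  have hσ5 : ∀ v, R.a (R.e σ5) v = R.F v := fun v => by
    show _ = R.a (R.el f5) v
    unfold Shape.el; rw [dif_pos sign_f5]
  -- no fixed point, so the cardinality is divisible by five
  have hdvd : ∀ e, Fintype.card (T e) % 5 = 0 := fun e => by
    let f : Function.End (T e) := fun v => act e σ5 v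
    have key : ∀ (n : ℕ) (v : T e), (f ^ n) v = ((act e σ5) ^ n) v := by
      intro n
      induction n with
      | zero => intro v; rfl
      | succ n ih => intro v; rw [pow_succ, pow_succ]; exact ih _
    have hf : f ^ 5 ^ 1 = 1 := by
      funext v
      rw [pow_one, key, ← map_pow, show σ5 ^ 5 = 1 from Subtype.ext basic_facts.2.2.2.1, map_one]
      rfl
    have h := Equiv.Perm.card_fixedPoints_modEq (f := f) (p := 5) (n := 1) hf
    haveI : IsEmpty (Function.fixedPoints f) := ⟨fun v => v.1.2.2.1 (hfree _ v.1.2.1 ((hσ5 _).symm.trans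
      (show R.a (R.e σ5) v.1.1 = v.1.1 from congrArg Subtype.val v.2)))⟩
    have h0 : Fintype.card (Function.fixedPoints f) = 0 := Fintype.card_eq_zero
    rw [h0] at h
    exact h
  have htot : Fintype.card (T 0) + Fintype.card (T 1) = 15 := by
    rw [← Fintype.card_sum]
    have e : T 0 ⊕ T 1 ≃ {v : R.C // v ≠ 0} :=
      { toFun := Sum.elim (fun v => ⟨⟨v.1, v.2.1⟩, fun h => v.2.2.1 (congrArg Subtype.val h)⟩)
          (fun v => ⟨⟨v.1, v.2.1⟩, fun h => v.2.2.1 (congrArg Subtype.val h)⟩)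
        invFun := fun v => if h : R.Q.q v.1.1 = 0 then
            Sum.inl ⟨v.1.1, v.1.2, fun h' => v.2 (Subtype.ext h'), h⟩
          else Sum.inr ⟨v.1.1, v.1.2, fun h' => v.2 (Subtype.ext h'), (zmod2_cases _).resolve_left h⟩
        left_inv := by
          rintro (v | v)
          · simp [v.2.2.2]
          · simp [v.2.2.2]
        right_inv := fun v => by
          by_cases h : R.Q.q v.1.1 = 0 <;> simp [h] }
    rw [Fintype.card_congr e, Fintype.card_subtype_compl, Fintype.card_subtype_eq,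
      Module.card_eq_pow_finrank (K := ZMod 2), ZMod.card, hC4]
    norm_num
  have hnd : ∀ v ∈ R.C, (∀ w ∈ R.C, R.Q.B v w = 0) → v = 0 := fun v hv h => by
    refine hfree v hv (mem_fix.mp ?_)
    rw [R.Q.fix_eq_perp (R.iso _), hMeq, R.Q.mem_perp]
    exact fun w hw => by rw [R.Q.comm]; exact h w hw
  have hne : ∀ e, Fintype.card (T e) = 15 → False := fun e he => by
    have hall : ∀ v ∈ R.C, v ≠ 0 → R.Q.q v = e := fun v hv hv0 => by
      by_contra hq
      have h1 : 0 < Fintype.card (T (R.Q.q v)) := Fintype.card_pos_iff.mpr ⟨⟨v, hv, hv0, rfl⟩⟩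
      rcases zmod2_cases e with rfl | rfl <;> rcases zmod2_cases (R.Q.q v) with h | h <;>
        rw [h] at hq h1 <;> first | exact hq rfl | omega
    exact const_q_false R.Q R.C hC4 hnd e hall
  obtain ⟨e, he⟩ : ∃ e, Fintype.card (T e) = 5 := by
    have h0 := hdvd 0
    have h1 := hdvd 1
    have n0 := hne 0
    have n1 := hne 1
    obtain ⟨a, ha⟩ : ∃ a, Fintype.card (T 0) = a := ⟨_, rfl⟩
    obtain ⟨b, hb⟩ : ∃ b, Fintype.card (T 1) = b := ⟨_, rfl⟩
    rw [ha, hb] at htot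
    rw [ha] at h0 n0
    rw [hb] at h1 n1
    have h15 : a ≠ 15 := fun h => n0 h
    have h15' : b ≠ 15 := fun h => n1 h
    rcases (show a = 5 ∨ b = 5 by omega) with h | h
    exacts [⟨0, ha.trans h⟩, ⟨1, hb.trans h⟩]
  have hsmall : Nat.card (Equiv.Perm (T e)) < 360 := by
    rw [Nat.card_eq_fintype_card, Fintype.card_perm, he]; decide
  obtain ⟨v⟩ := Fintype.card_pos_iff.mp (show 0 < Fintype.card (T e) by omega)
  have h := congrArg (fun p : Equiv.Perm (T e) => (p v).1) (small_hom hsmall (act e) σ5)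
  exact v.2.2.1 (hfree _ v.2.1 ((hσ5 _).symm.trans h))

theorem N0_trivial_U [Finite V] (hU2 : finrank (ZMod 2) R.U = 2)
    (hA : ∀ σ : S6, sign σ = 1 → ∀ v ∈ R.U, R.a (R.el σ) v = v) {h : H} (hp : R.pi h = 1) {u : V}
    (hu : u ∈ R.U) : R.a h u = u := by
  by_cases hs : sign (R.rho h) = 1
  · rw [← R.el_eq hp hs]; exact hA _ hs u hu
  have hs' : sign (R.rho h) = -1 := (Int.units_eq_one_or _).resolve_left hs
  have ho : sign o1 = -1 := odd_centralizes.2.2.2.2.1
  have hσ : sign ((R.rho h)⁻¹ * o1) = 1 := by rw [map_mul, map_inv, hs', ho]; decide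
  set k := h * R.el ((R.rho h)⁻¹ * o1) with hk
  have hkp : R.pi k = 1 := by rw [hk, map_mul, hp, R.pi_el, one_mul]
  have hkr : R.rho k = o1 := by rw [hk, map_mul, R.rho_el hσ, mul_inv_cancel_left]
  have hk2 : k * k = 1 := R.inj _ (by rw [map_mul, hkp, one_mul]) (by
    rw [map_mul, hkr]; exact Equiv.swap_mul_self _ _)
  have key : R.a k u = u := by
    by_contra hne
    have hku := R.map_U (R.comm_y hkp) hu
    have hfix : R.a k (R.a k u + u) = R.a k u + u := by
      rw [map_add, ← R.a_mul, hk2, R.a_one, add_comm]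
    set w := R.a k u + u with hw
    have hwU : w ∈ R.U := add_mem hku hu
    have hw0 : w ≠ 0 := fun e => hne (eq_of_add0 e)
    have hYw : R.a k (R.Y w) = R.Y w := by rw [R.a_comm (R.comm_y hkp), hfix]
    have hspan := R.U_span hU2 hwU hw0
    apply hne
    have hu' := hu
    rw [← hspan, Submodule.mem_span_pair] at hu'
    obtain ⟨a, b, hab⟩ := hu'
    rw [← hab, map_add, map_smul, map_smul, hfix, hYw]
  rw [hk, R.a_mul, hA _ hσ u hu] at key
  exact key

theorem typeI_or_typeII [Finite V] : R.TypeI ∨ R.TypeII := by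
  have hsum := R.finrank_UC
  have hev := R.even_dim R.U le_rfl fun v => R.Y_U
  rcases R.dim_movF with h0 | h8
  swap
  · -- the whole space
    left
    have hU : R.U = ⊤ := by
      refine Submodule.eq_top_of_finrank_eq ?_
      have hle : R.U.map (R.F.toLinearMap + LinearMap.id) ≤ R.U := by
        rintro _ ⟨u, hu, rfl⟩; exact add_mem (R.map_U R.el_f5_y hu) hu
      have := Submodule.finrank_mono hle
      have := R.U.finrank_le
      rw [R.dim] at *
      omega
    refine ⟨fun v => R.fpf_U (hU ▸ Submodule.mem_top), fun v hv => R.fix_inf_mov_F (mem_fix.mpr hv) ?_⟩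
    have : R.U.map (R.F.toLinearMap + LinearMap.id) = ⊤ := Submodule.eq_top_of_finrank_eq (by rw [h8, R.dim])
    exact LinearMap.map_le_range (this ▸ Submodule.mem_top)
  have hFU : ∀ u ∈ R.U, R.F u = u := fun u hu => eq_of_add0 (by
    have hm : R.F u + u ∈ R.U.map (R.F.toLinearMap + LinearMap.id) := ⟨u, hu, rfl⟩
    rw [Submodule.finrank_eq_zero.mp h0] at hm
    exact (Submodule.mem_bot _).mp hm)
  have hMC : Mov R.F ≤ R.C := by
    rintro _ ⟨x, rfl⟩
    obtain ⟨u, hu, c, hc, rfl⟩ := R.decomp x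
    show R.F (u + c) + (u + c) ∈ R.C
    rw [map_add, hFU u hu, show u + R.F c + (u + c) = (u + u) + (R.F c + c) by abel, add_self0, zero_add]
    exact add_mem (R.map_C R.el_f5_y hc) hc
  have hFM : ∀ v ∈ Mov R.F, R.F v = v → v = 0 := fun v hv h => R.fix_inf_mov_F (mem_fix.mpr h) hv
  haveI : Fact (Nat.Prime 5) := ⟨by norm_num⟩
  have hmod := card_mod_fixed 5 R.F (fun v => by
    have := R.F_pow
    simp only [pow_succ, pow_zero, one_mul] at this
    exact congrArg (fun T : V ≃ₗ[ZMod 2] V => T v) this) (Mov R.F)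
    (fun v hv => by
      obtain ⟨x, rfl⟩ := mem_mov.mp hv
      exact ⟨R.F x, by show _ = R.F (R.F x + x); rw [map_add]; rfl⟩) hFM
  have hMpos : finrank (ZMod 2) (Mov R.F) ≠ 0 := fun h => by
    obtain ⟨v, hv⟩ := R.F_not_one
    have := mov_mem R.F v
    rw [Submodule.finrank_eq_zero.mp h] at this
    exact hv (eq_of_add0 ((Submodule.mem_bot _).mp this))
  have hMle := Submodule.finrank_mono hMC
  obtain ⟨k, hk⟩ := hev
  have hU0 : finrank (ZMod 2) R.U ≠ 0 := fun h => by
    refine R.y_pi ?_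
    rw [R.faith R.y fun v => eq_of_add0 ?_, map_one]
    have := mov_mem R.Y v
    rw [show Mov R.Y = ⊥ from Submodule.finrank_eq_zero.mp h] at this
    exact (Submodule.mem_bot _).mp this
  have hM4 : 4 ≤ finrank (ZMod 2) (Mov R.F) := by
    by_contra hlt
    rw [Nat.ModEq] at hmod
    have : finrank (ZMod 2) (Mov R.F) < 4 := by omega
    interval_cases h : finrank (ZMod 2) (Mov R.F) <;> first | exact hMpos rfl | norm_num at hmod
  by_cases hU4 : finrank (ZMod 2) R.U = 4
  · exfalso; exact R.not_dim_four hU4 hFU hMC hFM hM4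
  right
  have hU2 : finrank (ZMod 2) R.U = 2 := by omega
  refine ⟨hU2, ?_, ?_⟩
  · intro u hu hu0
    by_contra hq
    have hq0 : R.Q.q u = 0 := (zmod2_cases _).resolve_right hq
    have hYu := R.Y_U hu
    have hspan := R.U_span hU2 hu hu0
    have hB : R.Q.B u (R.Y u) = 0 := by
      have := R.Q.polar u (R.Y u)
      have e : u + R.Y u = R.Y (R.Y u) := eq_of_add0 (R.sum_mem_U hu)
      rw [e, R.iso, R.iso, hq0, zero_add, zero_add] at this
      exact this.symm
    refine hu0 (R.U_inf_C hu ?_)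
    rw [R.C_eq_perp, R.Q.mem_perp]
    intro w hw
    rw [← hspan, Submodule.mem_span_pair] at hw
    obtain ⟨a, b, rfl⟩ := hw
    rw [map_add, LinearMap.add_apply, map_smul, map_smul, LinearMap.smul_apply, LinearMap.smul_apply,
      R.Q.alt, R.Q.comm, hB, smul_zero, smul_zero, add_zero]
  · exact fun h hp u hu => R.N0_trivial_U hU2 (fun σ hσ v hv => R.A6_trivial_U hFU σ hσ hv) hp hu

end Rep

end Cfsg.Agent.S3A6Q9
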