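import Cfsg.Agent.Lib.S3A6Q9.OutMain
import Cfsg.Agent.Lib.LargeExtraspecial.OutForm

/-
From an involution whose centralizer M has a self-centralizing normal extraspecial subgroup of
order 2^9 with quotient S3 × A6, S3 × S6 or the even part of the latter, to `Base`.
-/

set_option autoImplicit false
set_option linter.unusedSectionVars false

open scoped commutatorElement

namespace Cfsg.Agent.S3A6Q9

open Module Equiv Equiv.Perm
open Cfsg.Agent.LargeExtraspecial
open Cfsg.Agent.LargeExtraspecial.OutForm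

/-- The quadratic space `E / Z(E)`. -/
noncomputable def QSof (E : Type*) [Group E] [Finite E] [Fact (Cfsg.IsExtraspecial 2 E)] : QS (Vm E) where
  q := qf E
  B := (qf E).polarBilin
  polar u v := by
    rw [QuadraticMap.polarBilin_apply_apply, QuadraticMap.polar]; abel
  alt v := by
    rw [QuadraticMap.polarBilin_apply_apply, QuadraticMap.polar_self, two_smul]
    exact zmod2_add_self _
  nondeg v h := qf_nondegenerate.1 v h

/-- The action of `MulAut E` on `E / Z(E)` as linear maps. -/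
noncomputable def actHom (E : Type*) [Group E] [Finite E] [Fact (Cfsg.IsExtraspecial 2 E)] :
    MulAut E →* (Vm E ≃ₗ[ZMod 2] Vm E) := (Forms.preservingFun (F := ZMod 2) (V := Vm E) (qf E)).subtype.comp (act E)

section

variable {G : Type*} [Group G] [Finite G] {z : G}
variable {Q' : Subgroup ↥(Subgroup.centralizer ({z} : Set G))}

theorem z_mem_core (hC : Subgroup.centralizer (Q' : Set ↥(Subgroup.centralizer ({z} : Set G))) ≤ Q') :
    ∃ h : z ∈ Subgroup.centralizer ({z} : Set G), (⟨z, h⟩ : ↥(Subgroup.centralizer ({z} : Set G))) ∈ Q' := by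
  refine ⟨Subgroup.mem_centralizer_singleton_iff.mpr rfl, hC (Subgroup.mem_centralizer_iff.mpr fun q _ => ?_)⟩
  exact Subtype.ext (Subgroup.mem_centralizer_singleton_iff.mp q.2)

theorem not_simple_of_iso (hz : orderOf z = 2) [Q'.Normal] (hQ : Cfsg.IsExtraspecial 2 ↥Q')
    (hQ9 : Nat.card ↥Q' = 2 ^ 9)
    (hC : Subgroup.centralizer (Q' : Set ↥(Subgroup.centralizer ({z} : Set G))) ≤ Q')
    {K : Type*} [Group K] [Finite K] (S : Shape K) (e : ↥(Subgroup.centralizer ({z} : Set G)) ⧸ Q' ≃* K) :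
    ¬ IsSimpleGroup G := by
  classical
  haveI : Fact (Cfsg.IsExtraspecial 2 ↥Q') := ⟨hQ⟩
  set Q : Subgroup G := Q'.map (Subgroup.centralizer ({z} : Set G)).subtype with hQdef
  obtain ⟨hzM, hzQ'⟩ := z_mem_core hC
  have memQ : ∀ x : G, x ∈ Q ↔ ∃ h : x ∈ (Subgroup.centralizer ({z} : Set G)), (⟨x, h⟩ : (Subgroup.centralizer ({z} : Set G))) ∈ Q' := fun x => by
    constructor
    · rintro ⟨y, hy, rfl⟩; exact ⟨y.2, hy⟩
    · rintro ⟨h, hx⟩; exact ⟨⟨x, h⟩, hx, rfl⟩
  have hz1 : z ≠ 1 := fun h => by simp [h] at hz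
  have hzcen : ∀ q : (Subgroup.centralizer ({z} : Set G)), q * ⟨z, hzM⟩ = ⟨z, hzM⟩ * q := fun q =>
    Subtype.ext (Subgroup.mem_centralizer_singleton_iff.mp q.2)
  set z' : Q' := ⟨⟨z, hzM⟩, hzQ'⟩ with hz'
  have hz'c : z' ∈ Subgroup.center ↥Q' := Subgroup.mem_center_iff.mpr fun q => Subtype.ext (hzcen q.1)
  have hzeta : z' = zeta ↥Q' := (zeta_cases hz'c).resolve_left fun h =>
    hz1 (congrArg (fun q : Q' => (q.1 : G)) h)
  have hcases : ∀ q : Q', q ∈ Subgroup.center ↥Q' → q = 1 ∨ q = z' := fun q hq => hzeta ▸ zeta_cases hq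
  have D : Data Q z := by
    refine ⟨(memQ z).mpr ⟨hzM, hzQ'⟩, hz1, by rw [← pow_two, ← hz, pow_orderOf_eq_one], ?_, ?_, ?_, ?_⟩
    · intro q hq
      obtain ⟨h, -⟩ := (memQ q).mp hq
      exact Subgroup.mem_centralizer_singleton_iff.mp h
    · intro x hx
      have hxM : x ∈ (Subgroup.centralizer ({z} : Set G)) := Subgroup.mem_centralizer_singleton_iff.mpr (hx z ((memQ z).mpr ⟨hzM, hzQ'⟩)).symm
      have hcx : (⟨x, hxM⟩ : (Subgroup.centralizer ({z} : Set G))) ∈ Q' := hC (Subgroup.mem_centralizer_iff.mpr fun q hq =>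
        Subtype.ext (hx q ⟨q, hq, rfl⟩))
      rcases hcases ⟨_, hcx⟩ (Subgroup.mem_center_iff.mpr fun q =>
        Subtype.ext (Subtype.ext (hx q.1 ⟨q.1, q.2, rfl⟩))) with h | h
      · exact Or.inl (congrArg (fun q : Q' => (q.1 : G)) h)
      · exact Or.inr (congrArg (fun q : Q' => (q.1 : G)) h)
    · rintro _ ⟨a, ha, rfl⟩ _ ⟨b, hb, rfl⟩
      rcases hcases _ (comm_mem (⟨a, ha⟩ : Q') ⟨b, hb⟩) with h | h
      · exact Or.inl (congrArg (fun q : Q' => (q.1 : G)) h)
      · exact Or.inr (congrArg (fun q : Q' => (q.1 : G)) h)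
    · rintro c hc _ ⟨q, hq, rfl⟩
      have hcM : c ∈ (Subgroup.centralizer ({z} : Set G)) := Subgroup.mem_centralizer_singleton_iff.mpr hc
      exact ⟨⟨c, hcM⟩ * q * ⟨c, hcM⟩⁻¹, ‹Q'.Normal›.conj_mem q hq _, rfl⟩
  have hcard : Nat.card Q = 2 ^ 9 := by
    rw [hQdef, ← hQ9]
    exact (Nat.card_congr (Q'.equivMapOfInjective _ (Subgroup.centralizer ({z} : Set G)).subtype_injective).toEquiv).symm
  -- the action
  let ψ : (Subgroup.centralizer ({z} : Set G)) →* (Vm ↥Q' ≃ₗ[ZMod 2] Vm ↥Q') := (actHom ↥Q').comp (MulAut.conjNormal)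
  have hψ : ∀ (m : (Subgroup.centralizer ({z} : Set G))) (q : Q'), ψ m (pr q) = pr (MulAut.conjNormal m q) := fun m q => actLin_pr _ q
  have hψQ : Q' ≤ ψ.ker := fun m hm => by
    refine MonoidHom.mem_ker.mpr ?_
    have h : MulAut.conjNormal m ∈ (act ↥Q').ker := inn_le_ker ⟨⟨m, hm⟩, MulEquiv.ext fun q => Subtype.ext (by simp)⟩
    show actHom ↥Q' (MulAut.conjNormal m) = 1
    exact congrArg Subtype.val (MonoidHom.mem_ker.mp h)
  let a : K →* (Vm ↥Q' ≃ₗ[ZMod 2] Vm ↥Q') := (QuotientGroup.lift Q' ψ hψQ).comp e.symm.toMonoidHom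
  have ha : ∀ m : (Subgroup.centralizer ({z} : Set G)), a (e (QuotientGroup.mk m)) = ψ m := fun m => by
    show QuotientGroup.lift Q' ψ hψQ (e.symm (e (QuotientGroup.mk m))) = ψ m
    rw [MulEquiv.symm_apply_apply, QuotientGroup.lift_mk]
  have hsurj : ∀ h : K, ∃ m : (Subgroup.centralizer ({z} : Set G)), e (QuotientGroup.mk m) = h := fun h => by
    obtain ⟨m, hm⟩ := QuotientGroup.mk_surjective (e.symm h)
    exact ⟨m, by rw [hm, MulEquiv.apply_symm_apply]⟩
  let R : Rep K (Vm ↥Q') :=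
    { S with
      Q := QSof ↥Q'
      a := a
      iso := fun h v => by
        obtain ⟨m, rfl⟩ := hsurj h
        rw [ha]
        exact (act ↥Q' (MulAut.conjNormal m)).2 v
      faith := fun h hv => by
        obtain ⟨m, rfl⟩ := hsurj h
        rw [ha] at hv
        have hk : MulAut.conjNormal m ∈ (act ↥Q').ker := MonoidHom.mem_ker.mpr (Subtype.ext (LinearEquiv.ext hv))
        rw [OutForm.ker_eq] at hk
        obtain ⟨g, hg⟩ := hk
        have hcent : (g : (Subgroup.centralizer ({z} : Set G)))⁻¹ * m ∈ Q' := hC (Subgroup.mem_centralizer_iff.mpr fun q hq => by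
          have h1 := congrArg (fun f : MulAut ↥Q' => ((f ⟨q, hq⟩ : Q') : (Subgroup.centralizer ({z} : Set G)))) hg
          have h1' : (g : (Subgroup.centralizer ({z} : Set G))) * q * (g : (Subgroup.centralizer ({z} : Set G)))⁻¹ = m * q * m⁻¹ := by simpa using h1
          calc q * ((g : (Subgroup.centralizer ({z} : Set G)))⁻¹ * m) = (g : (Subgroup.centralizer ({z} : Set G)))⁻¹ * ((g : (Subgroup.centralizer ({z} : Set G))) * q * (g : (Subgroup.centralizer ({z} : Set G)))⁻¹) * m := by group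
            _ = (g : (Subgroup.centralizer ({z} : Set G)))⁻¹ * (m * q * m⁻¹) * m := by rw [h1']
            _ = _ := by group)
        have hm : m ∈ Q' := by
          have := mul_mem g.2 hcent
          rwa [mul_inv_cancel_left] at this
        rw [(QuotientGroup.eq_one_iff m).mpr hm, map_one]
      dim := finrank_Vm (n := 4) (by rw [hQ9]) }
  let p : G → Vm ↥Q' := fun x => if h : x ∈ Q then pr ⟨⟨x, ((memQ x).mp h).1⟩, ((memQ x).mp h).2⟩ else 0
  have hp : ∀ q : Q', p ((q : (Subgroup.centralizer ({z} : Set G))) : G) = pr q := fun q => by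
    show dite _ _ _ = _
    rw [dif_pos ⟨(q : (Subgroup.centralizer ({z} : Set G))), q.2, rfl⟩]
  have getQ : ∀ x ∈ Q, ∃ q : Q', ((q : (Subgroup.centralizer ({z} : Set G))) : G) = x := fun x hx => by
    obtain ⟨y, hy, rfl⟩ := hx; exact ⟨⟨y, hy⟩, rfl⟩
  have hone : ∀ q : Q', ((q : (Subgroup.centralizer ({z} : Set G))) : G) = 1 ↔ q = 1 := fun q =>
    ⟨fun h => Subtype.ext (Subtype.ext h), fun h => by rw [h]; rfl⟩
  let B : Base G K (Vm ↥Q') :=
    { z := z
      Q := Q
      D := D
      card := hcard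
      R := R
      phi := e.toMonoidHom.comp (QuotientGroup.mk' Q')
      phi_surj := hsurj
      phi_ker := fun m => by
        show e (QuotientGroup.mk m) = 1 ↔ _
        rw [map_eq_one_iff e e.injective, QuotientGroup.eq_one_iff]
        exact ⟨fun h => ⟨m, h, rfl⟩, fun h => by obtain ⟨y, hy, he⟩ := h; exact (Subtype.ext he : y = m) ▸ hy⟩
      p := p
      p_mul := fun x hx y hy => by
        obtain ⟨q, rfl⟩ := getQ x hx
        obtain ⟨r, rfl⟩ := getQ y hy
        rw [hp, hp, show ((q : (Subgroup.centralizer ({z} : Set G))) : G) * ((r : (Subgroup.centralizer ({z} : Set G))) : G) = (((q * r : Q') : (Subgroup.centralizer ({z} : Set G))) : G) from rfl, hp, pr_mul]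
      p_surj := fun v => by
        obtain ⟨q, rfl⟩ := pr_surjective v
        exact ⟨_, ⟨(q : (Subgroup.centralizer ({z} : Set G))), q.2, rfl⟩, hp q⟩
      p_zero := fun x hx => by
        obtain ⟨q, rfl⟩ := getQ x hx
        rw [hp, pr_eq_zero]
        constructor
        · intro hq
          rcases hcases q hq with h | h <;> rw [h]
          · exact Or.inl rfl
          · exact Or.inr rfl
        · rintro (h | h)
          · rw [(hone q).mp h]; exact one_mem _
          · rw [show q = z' from Subtype.ext (Subtype.ext h)]; exact hz'c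
      p_sq := fun x hx => by
        obtain ⟨q, rfl⟩ := getQ x hx
        rw [hp, show ((q : (Subgroup.centralizer ({z} : Set G))) : G) * ((q : (Subgroup.centralizer ({z} : Set G))) : G) = (((q * q : Q') : (Subgroup.centralizer ({z} : Set G))) : G) from rfl, hone]
        show _ ↔ qf ↥Q' (pr q) = 0
        rw [qf_apply]
        exact ⟨fun h => by rw [h, eps_one], fun h => eps_inj (sq_mem q) (one_mem _) (by rw [h, eps_one])⟩
      p_comm := fun x hx y hy => by
        obtain ⟨q, rfl⟩ := getQ x hx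
        obtain ⟨r, rfl⟩ := getQ y hy
        rw [hp, hp]
        show _ ↔ QuadraticMap.polar (qf ↥Q') (pr q) (pr r) = 0
        rw [show QuadraticMap.polar (qf ↥Q') (pr q) (pr r) = QuadraticMap.polar qfun (pr q) (pr r) from rfl, polar_pr]
        constructor
        · intro h
          rw [commutatorElement_eq_one_iff_mul_comm.mpr (Subtype.ext (Subtype.ext h) : q * r = r * q), eps_one]
        · intro h
          exact congrArg (fun w : Q' => ((w : (Subgroup.centralizer ({z} : Set G))) : G))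
            (commutatorElement_eq_one_iff_mul_comm.mp (eps_inj (comm_mem q r) (one_mem _) (by rw [h, eps_one])))
      p_conj := fun m x hx => by
        obtain ⟨q, rfl⟩ := getQ x hx
        show p _ = a (e (QuotientGroup.mk m)) _
        rw [ha, hp, hψ, ← hp]
        congr 1 }
  exact B.not_simple

end

/-- An element of order three. -/
def c3 : S3 := swap 0 1 * swap 1 2

theorem c3_facts : c3 ^ 3 = 1 ∧ c3 ≠ 1 ∧ sign c3 = 1 := by decide

/-- The shape of S3 × A6. -/
def shapeAlt : Shape (S3 × ↥(alternatingGroup (Fin 6))) where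
  pi := MonoidHom.fst _ _
  rho := (alternatingGroup (Fin 6)).subtype.comp (MonoidHom.snd _ _)
  inj h h1 h2 := Prod.ext h1 (Subtype.ext h2)
  e := MonoidHom.inr _ _
  pi_e _ := rfl
  rho_e _ := rfl
  y := (c3, 1)
  y3 := Prod.ext c3_facts.1 (one_pow 3)
  y_pi := c3_facts.2.1
  y_rho := rfl
  surj τ := ⟨(τ, 1), rfl⟩
  parity := Or.inl fun τ => ⟨(τ, 1), rfl, rfl⟩

/-- The shape of S3 × S6. -/
def shapeSym : Shape (S3 × S6) where
  pi := MonoidHom.fst _ _
  rho := MonoidHom.snd _ _
  inj h h1 h2 := Prod.ext h1 h2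
  e := (MonoidHom.inr _ _).comp (alternatingGroup (Fin 6)).subtype
  pi_e _ := rfl
  rho_e _ := rfl
  y := (c3, 1)
  y3 := Prod.ext c3_facts.1 (one_pow 3)
  y_pi := c3_facts.2.1
  y_rho := rfl
  surj τ := ⟨(τ, 1), rfl⟩
  parity := Or.inl fun τ => ⟨(τ, 1), rfl, rfl⟩

/-- The even part of S3 × S6. -/
abbrev EvenPart : Subgroup (S3 × S6) :=
  MonoidHom.ker (Equiv.Perm.sign.comp (MonoidHom.fst (Equiv.Perm (Fin 3)) (Equiv.Perm (Fin 6))) *
    Equiv.Perm.sign.comp (MonoidHom.snd (Equiv.Perm (Fin 3)) (Equiv.Perm (Fin 6))))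

theorem mem_evenPart {h : S3 × S6} : h ∈ EvenPart ↔ sign h.1 * sign h.2 = 1 := Iff.rfl

/-- The shape of the even part of S3 × S6. -/
def shapeEven : Shape ↥EvenPart where
  pi := (MonoidHom.fst _ _).comp EvenPart.subtype
  rho := (MonoidHom.snd _ _).comp EvenPart.subtype
  inj h h1 h2 := Subtype.ext (Prod.ext h1 h2)
  e := ((MonoidHom.inr _ _).comp (alternatingGroup (Fin 6)).subtype).codRestrict _ fun σ =>
    mem_evenPart.mpr (by
      show sign (1 : S3) * sign (σ : S6) = 1
      rw [map_one, one_mul]; exact mem_alternatingGroup.mp σ.2)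
  pi_e _ := rfl
  rho_e _ := rfl
  y := ⟨(c3, 1), mem_evenPart.mpr (by rw [map_one, c3_facts.2.2, one_mul])⟩
  y3 := Subtype.ext (Prod.ext c3_facts.1 (one_pow 3))
  y_pi := c3_facts.2.1
  y_rho := rfl
  surj τ := by
    rcases Int.units_eq_one_or (sign τ) with h | h
    · exact ⟨⟨(τ, 1), mem_evenPart.mpr (by rw [map_one, h, one_mul])⟩, rfl⟩
    · exact ⟨⟨(τ, o1), mem_evenPart.mpr (by rw [h, odd_centralizes.2.2.2.2.1]; decide)⟩, rfl⟩
  parity := Or.inr fun h => by
    have e := mem_evenPart.mp h.2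
    show sign h.1.1 = sign h.1.2
    rcases Int.units_eq_one_or (sign h.1.1) with a | a <;> rcases Int.units_eq_one_or (sign h.1.2) with b | b <;>
      rw [a, b] at e ⊢ <;> first | rfl | exact absurd e (by decide)

end Cfsg.Agent.S3A6Q9
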