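import Cfsg.Agent.Lib.S3A6Q9.Local

/-
In the first type the orbit of a centre vector under A6 is the set of nonzero vectors of a totally
singular 4-dimensional subspace S with V = S ⊕ Y S; this makes the space a tensor product and
determines the space attached to a centre vector.
-/

set_option autoImplicit false

namespace Cfsg.Agent.S3A6Q9

open Module Equiv Equiv.Perm

namespace Rep

variable {H : Type*} [Group H] {V : Type*} [AddCommGroup V] [Module (ZMod 2) V] (R : Rep H V)

/-- The symplectic form `B a (Y c)` carried by S. -/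
abbrev bs (a c : V) : ZMod 2 := R.Q.B a (R.Y c)

/-- A tensor factorization based at a0. -/
structure Frame (L : Lab) (a0 : V) (S : Submodule (ZMod 2) V) : Prop where
  ne : a0 ≠ 0
  cen : a0 ∈ R.cen L
  mem : a0 ∈ S
  dim : finrank (ZMod 2) S = 4
  inv : ∀ σ : S6, sign σ = 1 → ∀ v ∈ S, R.a (R.el σ) v ∈ S
  sing : ∀ v ∈ S, R.Q.q v = 0
  iso : ∀ u ∈ S, ∀ v ∈ S, R.Q.B u v = 0
  trans : ∀ v ∈ S, v ≠ 0 → ∃ σ : S6, sign σ = 1 ∧ R.a (R.el σ) a0 = v
  disj : ∀ v ∈ S, R.Y v ∈ S → v = 0

theorem ypow_mod (n : ℕ) (v : V) : R.a (R.y ^ n) v = R.a (R.y ^ (n % 3)) v := by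
  conv_lhs => rw [← Nat.mod_add_div n 3, pow_add, pow_mul, R.y3, one_pow, mul_one]

variable (hI : R.TypeI) {L : Lab} (hL : R.Labelled L)
include hI hL

theorem ypow_fix {n : ℕ} {v : V} (hv : v ≠ 0) (h : R.a (R.y ^ n) v = v) : n % 3 = 0 := by
  rw [R.ypow_mod] at h
  have h3 := Nat.mod_lt n (show 3 > 0 by norm_num)
  rcases (show n % 3 = 0 ∨ n % 3 = 1 ∨ n % 3 = 2 by omega) with e | e | e <;> rw [e] at h
  · exact e
  · rw [pow_one] at h; exact absurd (R.Y_fpf hI h) hv
  · refine absurd (R.Y_fpf hI ?_) hv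
    conv_lhs => rw [← h]
    rw [← R.a_mul, show R.y * R.y ^ 2 = R.y ^ 3 from (pow_succ' R.y 2).symm, R.y3, R.a_one]

theorem cen_line [Finite V] {a v : V} (ha : a ∈ R.cen L) (ha0 : a ≠ 0) (hv : v ∈ R.cen L) (hv0 : v ≠ 0) :
    ∃ i < 3, v = R.a (R.y ^ i) a := by
  classical
  haveI := Fintype.ofFinite (R.cen L)
  let f : Option (Fin 3) → R.cen L := fun o => o.elim 0 fun i => ⟨R.a (R.y ^ i.val) a, R.ypow_cen ha i⟩
  have hne : ∀ i : Fin 3, R.a (R.y ^ i.val) a ≠ 0 := fun i h => ha0 ((R.a _).map_eq_zero_iff.mp h)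
  have hinj : Function.Injective f := by
    rintro (_ | i) (_ | j) h
    · rfl
    · exact absurd (congrArg Subtype.val h).symm (hne j)
    · exact absurd (congrArg Subtype.val h) (hne i)
    · congr 1
      have h' := congrArg (R.a (R.y ^ (3 - j.val))) (congrArg Subtype.val h)
      change R.a (R.y ^ (3 - j.val)) (R.a (R.y ^ i.val) a) = R.a (R.y ^ (3 - j.val)) (R.a (R.y ^ j.val) a) at h'
      rw [← R.a_mul, ← R.a_mul, ← pow_add, ← pow_add, Nat.sub_add_cancel j.isLt.le, R.y3, R.a_one] at h'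
      have := R.ypow_fix hI hL ha0 h'
      have := i.isLt; have := j.isLt
      exact Fin.ext (by omega)
  have hc : Fintype.card (R.cen L) = 4 := by
    rw [Module.card_eq_pow_finrank (K := ZMod 2), ZMod.card, (R.finrank_cen hI hL).1]; rfl
  obtain ⟨o, ho⟩ := ((Fintype.bijective_iff_injective_and_card f).mpr ⟨hinj, by simp [hc]⟩).2 ⟨v, hv⟩
  rcases o with _ | i
  · exact absurd (congrArg Subtype.val ho).symm hv0
  · exact ⟨i.val, i.isLt, (congrArg Subtype.val ho).symm⟩

theorem ka_fix_cen {k : S6} (hk : k ∈ L.ka) {v : V} (hv : v ∈ R.cen L) :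
    sign k = 1 ∧ R.a (R.el k) v = v :=
  ⟨(R.ka_elts hI hL (List.mem_cons_of_mem _ hk)).1, (R.ka_elts hI hL (List.mem_cons_of_mem _ hk)).2 v hv⟩

theorem norm_fix [Finite V] {n : S6} (hn : sign n = 1) (h1 : n * c0 * n⁻¹ ∈ L.ka) (h2 : n * L.ga * n⁻¹ ∈ L.ka)
    {v : V} (hv : v ∈ R.cen L) : R.a (R.el n) v = v := by
  have hmem := hL.1.2 n hn h1 h2
  simp only [Lab.normList, List.mem_flatMap, List.mem_cons, List.not_mem_nil, or_false] at hmem
  have fix : ∀ g ∈ [c0, L.ga, L.gl, L.ha], sign g = 1 ∧ R.a (R.el g) v = v := fun g hg =>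
    ⟨(R.gens_cen hI hL hg).1, (R.gens_cen hI hL hg).2 v hv⟩
  have comb : ∀ a b : S6, (sign a = 1 ∧ R.a (R.el a) v = v) → (sign b = 1 ∧ R.a (R.el b) v = v) →
      (sign (a * b) = 1 ∧ R.a (R.el (a * b)) v = v) := fun a b ha hb =>
    ⟨by rw [map_mul, ha.1, hb.1, one_mul], by rw [R.a_el_mul ha.1 hb.1, hb.2, ha.2]⟩
  obtain ⟨k, hk, m, hm, hn'⟩ := hmem
  have hk' : sign k = 1 ∧ R.a (R.el k) v = v := by
    rcases hk with rfl | rfl | rfl | rfl
    · exact ⟨map_one _, R.a_el_one v⟩
    · exact fix _ (by simp)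
    · exact fix _ (by simp)
    · exact comb _ _ (fix _ (by simp)) (fix _ (by simp))
  have hm' : sign m = 1 ∧ R.a (R.el m) v = v := by
    rcases hm with rfl | rfl
    · exact hk'
    · exact comb _ _ hk' (fix _ (by simp))
  rcases hn' with rfl | rfl | rfl
  · exact hm'.2
  · exact (comb _ _ hm' (fix _ (by simp))).2
  · exact (comb _ _ (comb _ _ hm' (fix _ (by simp))) (fix _ (by simp))).2

/-- An element inverting y and normalizing the four-group stabilizes the centre. -/
theorem stab_cen [Finite V] {x : H} (h1 : R.rho x * c0 * (R.rho x)⁻¹ ∈ L.ka)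
    (h2 : R.rho x * L.ga * (R.rho x)⁻¹ ∈ L.ka) {v : V} (hv : v ∈ R.cen L) : R.a x v ∈ R.cen L := by
  have hg := hL.1.1
  set r := R.rho x with hr
  have key : ∀ k ∈ L.ka, sign (r⁻¹ * k * r) = 1 := fun k hk => by
    rw [map_mul, map_mul, map_inv, (R.ka_fix_cen hI hL hk hv).1, mul_one, inv_mul_cancel]
  -- the conjugates of c0, ga lie in ka, hence all members of ka are conjugates of members of ka
  have fixv : ∀ k ∈ L.ka, R.a (R.el k) v = v := fun k hk => (R.ka_fix_cen hI hL hk hv).2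
  have img : ∀ k : S6, sign k = 1 → R.a (R.el k) v = v → R.a x v ∈ R.S (r * k * r⁻¹) := fun k hk h =>
    (R.S_conj hk).mpr (R.mem_S.mpr h)
  have w1 := img c0 sign_c0 (fixv c0 (by simp [Lab.ka]))
  have w2 := img L.ga hg.sga (fixv L.ga (by simp [Lab.ka]))
  have hne : r * c0 * r⁻¹ ≠ r * L.ga * r⁻¹ := fun e => by
    obtain ⟨u, hu, hne⟩ := hL.2.2
    exact hne (mul_left_cancel (mul_right_cancel e) ▸ R.mem_S.mp hu)
  simp only [Lab.ka, List.mem_cons, List.not_mem_nil, or_false] at h1 h2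
  set W := R.a x v
  have mulS : ∀ a b : S6, sign a = 1 → sign b = 1 → W ∈ R.S a → W ∈ R.S b → W ∈ R.S (a * b) :=
    fun a b ha hb hWa hWb => R.mem_S.mpr (by rw [R.a_el_mul ha hb, R.mem_S.mp hWb, R.mem_S.mp hWa])
  have hs0 := sign_c0
  have hcc : c0 * c0 = 1 := basic_facts.2.1
  have sp : sign (c0 * L.ga) = 1 := by rw [map_mul, hs0, hg.sga, one_mul]
  have fromC : W ∈ R.S c0 → W ∈ R.S (c0 * L.ga) → W ∈ R.S L.ga := fun u u' => by
    have := mulS _ _ hs0 sp u u'
    rwa [← mul_assoc, hcc, one_mul] at this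
  have fromA : W ∈ R.S L.ga → W ∈ R.S (c0 * L.ga) → W ∈ R.S c0 := fun u u' => by
    have := mulS _ _ sp hg.sga u' u
    rwa [mul_assoc, hg.ga2, mul_one] at this
  rcases h1 with e | e | e <;> rcases h2 with e' | e' | e' <;> rw [e] at w1 <;> rw [e'] at w2
  all_goals first
    | exact absurd (e.trans e'.symm) hne
    | exact ⟨w1, w2⟩
    | exact ⟨w2, w1⟩
    | exact ⟨w1, fromC w1 w2⟩
    | exact ⟨w2, fromC w2 w1⟩
    | exact ⟨fromA w1 w2, w1⟩
    | exact ⟨fromA w2 w1, w2⟩

/-- An element inverting y with fixed vectors u, v makes them orthogonal. -/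
theorem orth_of_fixed {x : H} (hx : x * R.y * x⁻¹ = R.y * R.y) {u v : V} (hu : R.a x u = u) (hv : R.a x v = v) :
    R.Q.B u v = 0 := by
  have hsum : v + R.Y v + R.Y (R.Y v) = 0 := R.sum_mem_U (R.U_top hI ▸ Submodule.mem_top)
  have e : v = R.Y v + R.Y (R.Y v) := eq_of_add0 (by rw [← add_assoc]; exact hsum)
  have h1 : R.a x (R.Y v) = R.Y (R.Y v) := by
    rw [← R.a_mul, show x * R.y = (x * R.y * x⁻¹) * x by group, hx, R.a_mul, hv, R.a_mul]
  have h2 : R.Q.B u (R.Y v) = R.Q.B u (R.Y (R.Y v)) := by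
    conv_lhs => rw [← R.B_a x, hu, h1]
  conv_lhs => rw [e, map_add, h2]
  exact zmod2_add_self _

/-- The element inverting y that fixes a0, for a given image in S3. -/
theorem exists_theta [Finite V] {a0 : V} (ha : a0 ∈ R.cen L) (ha0 : a0 ≠ 0) :
    ∃ x : H, x * R.y * x⁻¹ = R.y * R.y ∧ R.a x a0 = a0 ∧
      (R.rho x = 1 ∨ ((∀ h, sign (R.pi h) = sign (R.rho h)) ∧ R.rho x * c0 * (R.rho x)⁻¹ ∈ L.ka ∧
        R.rho x * L.ga * (R.rho x)⁻¹ ∈ L.ka)) := by
  obtain ⟨x, hpx, hx⟩ : ∃ x : H, sign (R.pi x) = -1 ∧ (R.rho x = 1 ∨ ((∀ h, sign (R.pi h) = sign (R.rho h)) ∧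
      R.rho x * c0 * (R.rho x)⁻¹ ∈ L.ka ∧ R.rho x * L.ga * (R.rho x)⁻¹ ∈ L.ka)) := by
    rcases R.parity with h | h
    · obtain ⟨x, h1, h2⟩ := h (swap 0 1)
      exact ⟨x, by rw [h1]; decide, Or.inl h2⟩
    · obtain ⟨p, hp, p1, p2, -, -⟩ := hL.1.1.common 1 (map_one _)
      obtain ⟨g, hg⟩ := R.surj (swap 0 1)
      have hgs : sign (R.rho g) = -1 := by rw [← h, hg]; decide
      have hs : sign ((R.rho g)⁻¹ * p) = 1 := by rw [map_mul, map_inv, hgs, hp]; decide
      refine ⟨g * R.el ((R.rho g)⁻¹ * p), ?_, Or.inr ⟨h, ?_, ?_⟩⟩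
      · rw [map_mul, hg, R.pi_el, mul_one]; decide
      all_goals rw [map_mul, R.rho_el hs, mul_inv_cancel_left]
      · exact p1
      · exact p2
  have hinv : x * R.y * x⁻¹ = R.y * R.y := by
    rcases R.pi_class x with e | e | e | ⟨-, e⟩
    · rw [e, map_one] at hpx; exact absurd hpx (by decide)
    · rw [e, R.y_sign] at hpx; exact absurd hpx (by decide)
    · rw [e, map_mul, R.y_sign] at hpx; exact absurd hpx (by decide)
    · exact e
  have hmem : R.a x a0 ∈ R.cen L := by
    rcases hx with e | ⟨-, e1, e2⟩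
    · refine R.stab_cen hI hL ?_ ?_ ha <;> rw [e] <;> simp [Lab.ka]
    · exact R.stab_cen hI hL e1 e2 ha
  obtain ⟨j, -, hj⟩ := R.cen_line hI hL ha ha0 hmem fun h => ha0 ((R.a x).map_eq_zero_iff.mp h)
  refine ⟨R.y ^ (2 * j) * x, ?_, ?_, ?_⟩
  · calc R.y ^ (2 * j) * x * R.y * (R.y ^ (2 * j) * x)⁻¹ = R.y ^ (2 * j) * (x * R.y * x⁻¹) * (R.y ^ (2 * j))⁻¹ := by group
      _ = R.y * R.y := by rw [hinv, ← pow_two, ← pow_add, ← div_eq_mul_inv, div_eq_iff_eq_mul, ← pow_add]; ring_nf
  · rw [R.a_mul, hj, ← R.a_mul, ← pow_add, show 2 * j + j = 3 * j by ring, pow_mul, R.y3, one_pow, R.a_one]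
  · have hr : R.rho (R.y ^ (2 * j) * x) = R.rho x := by rw [map_mul, map_pow, R.y_rho, one_pow, one_mul]
    rw [hr]; exact hx

theorem orbit_orth [Finite V] {a0 : V} (ha : a0 ∈ R.cen L) (ha0 : a0 ≠ 0) {h : S6} (hh : sign h = 1) :
    R.Q.B a0 (R.a (R.el h) a0) = 0 := by
  obtain ⟨x, hinv, hfix, hx⟩ := R.exists_theta hI hL ha ha0
  rcases hx with e | ⟨hpar, e1, e2⟩
  · refine R.orth_of_fixed hI hL hinv hfix ?_
    rw [R.a_comm (R.comm_el e hh), hfix]
  obtain ⟨p, hp, p1, p2, p3, p4⟩ := hL.1.1.common h hh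
  -- the element with the same image in S3 and image p in S6
  have hxs : sign (R.rho x) = -1 := by
    rw [← hpar]
    have := congrArg R.pi hinv
    simp only [map_mul, map_inv] at this
    rcases Int.units_eq_one_or (sign (R.pi x)) with e | e
    · exfalso
      have key : ∀ r q : S3, sign r = 1 → sign q = 1 → q ≠ 1 → r * q * r⁻¹ ≠ q * q := by decide
      exact key _ _ e R.y_sign R.y_pi this
    · exact e
  have main : ∀ n : S6, sign n = -1 → n * c0 * n⁻¹ ∈ L.ka → n * L.ga * n⁻¹ ∈ L.ka →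
      ∃ x' : H, R.pi x' = R.pi x ∧ R.rho x' = n ∧ R.a x' a0 = a0 := by
    intro n hn n1 n2
    have hs : sign ((R.rho x)⁻¹ * n) = 1 := by rw [map_mul, map_inv, hxs, hn]; decide
    refine ⟨x * R.el ((R.rho x)⁻¹ * n), by rw [map_mul, R.pi_el, mul_one],
      by rw [map_mul, R.rho_el hs, mul_inv_cancel_left], ?_⟩
    have hw : R.a (R.el ((R.rho x)⁻¹ * n)) a0 = a0 := by
      have hmem : R.a (R.el ((R.rho x)⁻¹ * n)) a0 ∈ R.cen L := by
        have h1 : R.a (x * R.el ((R.rho x)⁻¹ * n)) a0 ∈ R.cen L :=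
          R.stab_cen hI hL (by rw [map_mul, R.rho_el hs, mul_inv_cancel_left]; exact n1)
            (by rw [map_mul, R.rho_el hs, mul_inv_cancel_left]; exact n2) ha
        obtain ⟨j, -, hj⟩ := R.cen_line hI hL ha ha0 h1 fun h => ha0 ((R.a _).map_eq_zero_iff.mp h)
        rw [R.a_mul] at hj
        have e : R.a (R.el ((R.rho x)⁻¹ * n)) a0 = R.a x⁻¹ (R.a (R.y ^ j) a0) := by
          rw [← hj, ← R.a_mul x⁻¹, inv_mul_cancel, R.a_one]
        have hxa : R.a x⁻¹ a0 = a0 := by
          conv_lhs => rw [← hfix]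
          rw [← R.a_mul, inv_mul_cancel, R.a_one]
        rw [e]
        have hc : x⁻¹ * R.y ^ j = R.y ^ (2 * j) * x⁻¹ := by
          have h2 : x⁻¹ * R.y * x = R.y * R.y := by
            have h4 : R.y ^ 4 = R.y := by rw [pow_succ, R.y3, one_mul]
            have : x * (R.y * R.y) * x⁻¹ = R.y := by
              rw [show x * (R.y * R.y) * x⁻¹ = (x * R.y * x⁻¹) * (x * R.y * x⁻¹) by group, hinv,
                show R.y * R.y * (R.y * R.y) = R.y ^ 4 by simp [pow_succ, mul_assoc], h4]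
            calc x⁻¹ * R.y * x = x⁻¹ * (x * (R.y * R.y) * x⁻¹) * x := by rw [this]
              _ = _ := by group
          have h3 : ∀ k : ℕ, x⁻¹ * R.y ^ k * x = (R.y * R.y) ^ k := fun k => by
            rw [← h2]
            induction k with
            | zero => simp
            | succ k ih => rw [pow_succ, pow_succ, ← ih]; group
          calc x⁻¹ * R.y ^ j = (x⁻¹ * R.y ^ j * x) * x⁻¹ := by group
            _ = _ := by rw [h3, ← pow_two, ← pow_mul]
        rw [← R.a_mul, hc, R.a_mul, hxa]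
        exact R.ypow_cen ha _
      -- x normalizes the four-group, hence so does its product with n
      refine R.norm_fix hI hL hs ?_ ?_ ha
      all_goals
        have key : ∀ m ∈ L.ka, (R.rho x)⁻¹ * m * R.rho x ∈ L.ka := by
          intro m hm
          have hx1 := e1
          have hx2 := e2
          simp only [Lab.ka, List.mem_cons, List.not_mem_nil, or_false] at hx1 hx2 hm ⊢
          set r := R.rho x
          have hne : r * c0 * r⁻¹ ≠ r * L.ga * r⁻¹ := fun e => by
            obtain ⟨u, hu, hne⟩ := hL.2.2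
            exact hne (mul_left_cancel (mul_right_cancel e) ▸ R.mem_S.mp hu)
          have hcomm : c0 * L.ga = L.ga * c0 := hL.1.1.gac.symm
          have hp : r * (c0 * L.ga) * r⁻¹ = (r * c0 * r⁻¹) * (r * L.ga * r⁻¹) := by group
          have inv : ∀ a b : S6, r * a * r⁻¹ = b → r⁻¹ * b * r = a := fun a b h => by rw [← h]; group
          have hcc : c0 * c0 = 1 := basic_facts.2.1
          have hga2 := hL.1.1.ga2
          have e1' : c0 * (c0 * L.ga) = L.ga := by rw [← mul_assoc, hcc, one_mul]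
          have e2' : L.ga * (c0 * L.ga) = c0 := by rw [hcomm, ← mul_assoc, hga2, one_mul]
          have e3' : c0 * L.ga * c0 = L.ga := by rw [hcomm, mul_assoc, hcc, mul_one]
          have e4' : c0 * L.ga * L.ga = c0 := by rw [mul_assoc, hga2, mul_one]
          rcases hx1 with a | a | a <;> rcases hx2 with b | b | b <;>
            first
            | exact absurd (a.trans b.symm) hne
            | (rw [a, b] at hp
               rcases hm with rfl | rfl | rfl <;>
                first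
                | exact Or.inl (inv _ _ a)
                | exact Or.inr (Or.inl (inv _ _ b))
                | exact Or.inr (Or.inr (inv _ _ (by first | exact hp | (rw [hp]; first | exact hcomm.symm | exact e1' | exact e2' | exact e3' | exact e4')))))
      · rw [show (R.rho x)⁻¹ * n * c0 * ((R.rho x)⁻¹ * n)⁻¹ = (R.rho x)⁻¹ * (n * c0 * n⁻¹) * R.rho x by group]
        exact key _ n1
      · rw [show (R.rho x)⁻¹ * n * L.ga * ((R.rho x)⁻¹ * n)⁻¹ = (R.rho x)⁻¹ * (n * L.ga * n⁻¹) * R.rho x by group]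
        exact key _ n2
    rw [R.a_mul, hw, hfix]
  obtain ⟨x1, hp1, hr1, hf1⟩ := main p hp p1 p2
  obtain ⟨x2, hp2, hr2, hf2⟩ := main (h⁻¹ * p * h) (by rw [map_mul, map_mul, map_inv, hp, hh]; decide) p3 p4
  have hx1 : x1 * R.y * x1⁻¹ = R.y * R.y := by
    refine R.ext ?_ (by simp [R.y_rho])
    simp only [map_mul, map_inv, hp1]
    simpa [map_mul] using congrArg R.pi hinv
  refine R.orth_of_fixed hI hL hx1 hf1 ?_
  -- x1 = el h * x2 * el h⁻¹
  have hconj : x1 = R.el h * x2 * (R.el h)⁻¹ := by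
    refine R.ext ?_ ?_
    · simp [R.pi_el, hp1, hp2]
    · simp only [map_mul, map_inv, R.rho_el hh, hr1, hr2]; group
  rw [hconj, R.a_mul, ← R.a_mul (R.el h)⁻¹, inv_mul_cancel, R.a_one, R.a_mul, hf2]

theorem exists_frame [Finite V] {a0 : V} (ha : a0 ∈ R.cen L) (ha0 : a0 ≠ 0) : ∃ S, R.Frame L a0 S := by
  classical
  haveI := Fintype.ofFinite V
  set O : Set V := {v | ∃ σ : S6, sign σ = 1 ∧ R.a (R.el σ) a0 = v} with hO
  set S := Submodule.span (ZMod 2) O with hS
  have hOinv : ∀ σ : S6, sign σ = 1 → ∀ v ∈ O, R.a (R.el σ) v ∈ O := by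
    rintro σ hσ _ ⟨τ, hτ, rfl⟩
    exact ⟨σ * τ, by rw [map_mul, hσ, hτ, one_mul], R.a_el_mul hσ hτ _⟩
  have hinv : ∀ σ : S6, sign σ = 1 → ∀ v ∈ S, R.a (R.el σ) v ∈ S := by
    intro σ hσ v hv
    induction hv using Submodule.span_induction with
    | mem v hv => exact Submodule.subset_span (hOinv σ hσ v hv)
    | zero => rw [map_zero]; exact zero_mem _
    | add u v _ _ hu hv => rw [map_add]; exact add_mem hu hv
    | smul c v _ hv => rw [map_smul]; exact Submodule.smul_mem _ _ hv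
  have hisoO : ∀ u ∈ O, ∀ v ∈ O, R.Q.B u v = 0 := by
    rintro _ ⟨σ, hσ, rfl⟩ _ ⟨τ, hτ, rfl⟩
    have hs : sign (σ⁻¹ * τ) = 1 := by rw [map_mul, map_inv, hσ, hτ]; decide
    have := R.orbit_orth hI hL ha ha0 hs
    rw [← R.B_a (R.el σ), ← R.a_el_mul hσ hs, mul_inv_cancel_left] at this
    exact this
  have hiso : ∀ u ∈ S, ∀ v ∈ S, R.Q.B u v = 0 := by
    intro u hu v hv
    induction hu using Submodule.span_induction with
    | mem u hu =>
      induction hv using Submodule.span_induction with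
      | mem v hv => exact hisoO u hu v hv
      | zero => rw [map_zero]
      | add a b _ _ h1 h2 => rw [map_add, h1, h2, add_zero]
      | smul c a _ h => rw [map_smul, h, smul_zero]
    | zero => rw [map_zero, LinearMap.zero_apply]
    | add a b _ _ h1 h2 => rw [map_add, LinearMap.add_apply, h1, h2, add_zero]
    | smul c a _ h => rw [map_smul, LinearMap.smul_apply, h, smul_zero]
  have hqa : R.Q.q a0 = 0 := R.S_singular hI sign_c0 basic_facts.2.1 basic_facts.2.2.1 ha.1
  have hsing : ∀ v ∈ S, R.Q.q v = 0 := by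
    intro v hv
    induction hv using Submodule.span_induction with
    | mem v hv => obtain ⟨σ, -, rfl⟩ := hv; rw [R.iso, hqa]
    | zero => exact R.Q.q_zero
    | add a b ha' hb' h1 h2 => rw [R.Q.polar, h1, h2, hiso a ha' b hb', add_zero, add_zero]
    | smul c a _ h =>
      rcases zmod2_cases c with rfl | rfl
      · rw [zero_smul, R.Q.q_zero]
      · rw [one_smul, h]
  have hamem : a0 ∈ S := Submodule.subset_span ⟨1, map_one _, R.a_el_one _⟩
  haveI : Fact (Nat.Prime 5) := ⟨by norm_num⟩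
  have hFS : ∀ v ∈ S, R.F v ∈ S := hinv f5 sign_f5
  have hmod := card_mod_fixed 5 R.F (fun v => by
    have := R.F_pow
    simp only [pow_succ, pow_zero, one_mul] at this
    exact congrArg (fun T : V ≃ₗ[ZMod 2] V => T v) this) S hFS fun v _ h => hI.2 v h
  have hle : finrank (ZMod 2) S ≤ 4 := by
    have := R.Q.isotropic_le hiso; rw [R.dim] at this; omega
  have hpos : finrank (ZMod 2) S ≠ 0 := fun h =>
    ha0 ((Submodule.mem_bot _).mp (Submodule.finrank_eq_zero.mp h ▸ hamem))
  have hdim : finrank (ZMod 2) S = 4 := by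
    rw [Nat.ModEq] at hmod
    interval_cases h : finrank (ZMod 2) S <;> first | exact absurd rfl hpos | rfl | norm_num at hmod
  -- A6 acts faithfully on S
  have hfaith : ∀ (M : Type) [Group M] [Finite M] (φ : ↥(alternatingGroup (Fin 6)) →* M), Nat.card M < 360 →
      ∀ σ, φ σ = 1 := fun M _ _ φ h => small_hom h φ
  let restr : ↥(alternatingGroup (Fin 6)) →* Equiv.Perm S :=
    { toFun := fun τ =>
        { toFun := fun v => ⟨R.a (R.el τ.1) v, hinv _ (mem_alt.mp τ.2) _ v.2⟩
          invFun := fun v => ⟨R.a (R.el (τ⁻¹).1) v, hinv _ (mem_alt.mp (τ⁻¹).2) _ v.2⟩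
          left_inv := fun v => Subtype.ext (by
            show R.a (R.el (τ⁻¹).1) (R.a (R.el τ.1) v) = v
            rw [← R.a_el_mul (mem_alt.mp (τ⁻¹).2) (mem_alt.mp τ.2), ← Subgroup.coe_mul, inv_mul_cancel]
            exact R.a_el_one _)
          right_inv := fun v => Subtype.ext (by
            show R.a (R.el τ.1) (R.a (R.el (τ⁻¹).1) v) = v
            rw [← R.a_el_mul (mem_alt.mp τ.2) (mem_alt.mp (τ⁻¹).2), ← Subgroup.coe_mul, mul_inv_cancel]
            exact R.a_el_one _) }
      map_one' := Equiv.ext fun v => Subtype.ext (R.a_el_one _)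
      map_mul' := fun s t => Equiv.ext fun v => Subtype.ext (R.a_el_mul (mem_alt.mp s.2) (mem_alt.mp t.2) _) }
  let σ5 : ↥(alternatingGroup (Fin 6)) := ⟨f5, mem_alt.mpr sign_f5⟩
  have hσ5 : restr σ5 ≠ 1 := fun h => by
    have : R.F a0 = a0 := congrArg (fun p : Equiv.Perm S => (p ⟨a0, hamem⟩).1) h
    exact ha0 (hI.2 a0 this)
  -- S meets Y S trivially
  have hdisj : ∀ v ∈ S, R.Y v ∈ S → v = 0 := by
    by_contra! hcon
    obtain ⟨v0, hv0, hYv0, hne⟩ := hcon
    set W := S ⊓ Submodule.comap R.Y.toLinearMap S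
    have hWinv : ∀ v ∈ W, R.F v ∈ W := fun v hv => ⟨hFS v hv.1, by
      show R.Y (R.F v) ∈ S
      rw [R.a_comm R.el_f5_y.symm]; exact hFS _ hv.2⟩
    have hm := card_mod_fixed 5 R.F (fun v => by
      have := R.F_pow
      simp only [pow_succ, pow_zero, one_mul] at this
      exact congrArg (fun T : V ≃ₗ[ZMod 2] V => T v) this) W hWinv fun v _ h => hI.2 v h
    have hW0 : finrank (ZMod 2) W ≠ 0 := fun h =>
      hne (by
        have hm : v0 ∈ W := ⟨hv0, hYv0⟩
        rw [Submodule.finrank_eq_zero.mp h] at hm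
        exact (Submodule.mem_bot _).mp hm)
    have hW4 : finrank (ZMod 2) W ≤ 4 := hdim ▸ Submodule.finrank_mono inf_le_left
    have hWS : W = S := by
      refine Submodule.eq_of_le_of_finrank_le inf_le_left ?_
      rw [hdim]
      rw [Nat.ModEq] at hm
      interval_cases h : finrank (ZMod 2) W <;> first | exact absurd rfl hW0 | exact le_rfl | norm_num at hm
    have hYS : ∀ v ∈ S, R.Y v ∈ S := fun v hv => by rw [← hWS] at hv; exact hv.2
    -- an element commuting with Y is determined by the images of two vectors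
    obtain ⟨u, hu, hu'⟩ : ∃ u ∈ S, u ∉ Submodule.span (ZMod 2) ({a0, R.Y a0} : Set V) := by
      by_contra! h
      have h' := (Submodule.finrank_mono h).trans (finrank_span_pair_le a0 (R.Y a0))
      omega
    have hgen : Submodule.span (ZMod 2) ({a0, R.Y a0, u, R.Y u} : Set V) = S := by
      refine Submodule.eq_of_le_of_finrank_le (Submodule.span_le.mpr ?_) ?_
      · rintro x (rfl | rfl | rfl | rfl)
        exacts [hamem, hYS _ hamem, hu, hYS _ hu]
      have hsum : ∀ x, R.Y (R.Y x) = x + R.Y x := fun x =>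
        (eq_of_add0 (R.sum_mem_U (R.U_top hI ▸ Submodule.mem_top))).symm
      have hev := R.even_inv hI (Submodule.span (ZMod 2) ({a0, R.Y a0, u, R.Y u} : Set V)) (fun v hv => by
        induction hv using Submodule.span_induction with
        | mem x hx =>
          rcases hx with rfl | rfl | rfl | rfl
          · exact Submodule.subset_span (by simp)
          · rw [hsum]; exact add_mem (Submodule.subset_span (by simp)) (Submodule.subset_span (by simp))
          · exact Submodule.subset_span (by simp)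
          · rw [hsum]; exact add_mem (Submodule.subset_span (by simp)) (Submodule.subset_span (by simp))
        | zero => rw [map_zero]; exact zero_mem _
        | add a b _ _ h1 h2 => rw [map_add]; exact add_mem h1 h2
        | smul c a _ h => rw [map_smul]; exact Submodule.smul_mem _ _ h)
      have hlt := Submodule.finrank_lt_finrank_of_lt (show Submodule.span (ZMod 2) ({a0, R.Y a0} : Set V) <
          Submodule.span (ZMod 2) ({a0, R.Y a0, u, R.Y u} : Set V) from
        lt_of_le_of_ne (Submodule.span_mono (by rintro x (rfl | rfl) <;> simp)) fun h => hu' (h ▸ Submodule.subset_span (by simp)))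
      have h2 : finrank (ZMod 2) ↥(Submodule.span (ZMod 2) ({a0, R.Y a0} : Set V)) = 2 := by
        have hli : LinearIndependent (ZMod 2) ![a0, R.Y a0] := by
          refine (LinearIndependent.pair_iff' ha0).mpr fun a ha' => ?_
          rcases zmod2_cases a with rfl | rfl
          · rw [zero_smul] at ha'; exact ha0 (R.Y.map_eq_zero_iff.mp ha'.symm)
          · rw [one_smul] at ha'; exact ha0 (R.Y_fpf hI ha'.symm)
        have h := finrank_span_eq_card hli
        rw [Fintype.card_fin, Matrix.range_cons_cons_empty] at h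
        exact h
      obtain ⟨k, hk⟩ := hev
      omega
    let j : restr.range → S × S := fun p => (p.1 ⟨a0, hamem⟩, p.1 ⟨u, hu⟩)
    have hj : Function.Injective j := by
      rintro ⟨_, s, rfl⟩ ⟨_, t, rfl⟩ e
      simp only [j, Prod.mk.injEq, Subtype.ext_iff] at e
      obtain ⟨e1, e2⟩ := e
      change R.a (R.el s.1) a0 = R.a (R.el t.1) a0 at e1
      change R.a (R.el s.1) u = R.a (R.el t.1) u at e2
      refine Subtype.ext (Equiv.ext fun v => Subtype.ext ?_)
      show R.a (R.el s.1) v = R.a (R.el t.1) v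
      have hv : (v : V) ∈ Submodule.span (ZMod 2) ({a0, R.Y a0, u, R.Y u} : Set V) := hgen.symm ▸ v.2
      generalize (v : V) = x at hv
      induction hv using Submodule.span_induction with
      | mem x hx =>
        rcases hx with rfl | rfl | rfl | rfl
        · exact e1
        · rw [← R.Y_el, ← R.Y_el, e1]
        · exact e2
        · rw [← R.Y_el, ← R.Y_el, e2]
      | zero => simp
      | add a b _ _ h1 h2 => rw [map_add, map_add, h1, h2]
      | smul c a _ h => rw [map_smul, map_smul, h]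
    have hcard : Nat.card restr.range < 360 := by
      have h := Nat.card_le_card_of_injective j hj
      rw [Nat.card_prod, Module.natCard_eq_pow_finrank (K := ZMod 2) (V := S), hdim, Nat.card_zmod] at h
      omega
    exact hσ5 (congrArg Subtype.val (small_hom hcard restr.rangeRestrict σ5))
  refine ⟨S, ha0, ha, hamem, hdim, hinv, hsing, hiso, ?_, hdisj⟩
  -- transitivity: otherwise there is an invariant set of five vectors
  by_contra! hcon
  obtain ⟨v1, hv1, hv10, hv1o⟩ := hcon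
  let Ts : Bool → Type _ := fun b => {v : V // v ∈ S ∧ v ≠ 0 ∧ (v ∈ O ↔ b = true)}
  have hmapT : ∀ (τ : ↥(alternatingGroup (Fin 6))) b (v : Ts b), (restr τ ⟨v.1, v.2.1⟩).1 ∈ S ∧
      (restr τ ⟨v.1, v.2.1⟩).1 ≠ 0 ∧ ((restr τ ⟨v.1, v.2.1⟩).1 ∈ O ↔ b = true) := by
    intro τ b v
    refine ⟨(restr τ ⟨v.1, v.2.1⟩).2, fun h => v.2.2.1 ((R.a (R.el τ.1)).map_eq_zero_iff.mp h), ?_⟩
    refine Iff.trans ?_ v.2.2.2
    refine ⟨fun h => ?_, fun h => hOinv _ (mem_alt.mp τ.2) _ h⟩
    have h' := hOinv _ (mem_alt.mp (τ⁻¹).2) _ h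
    change R.a (R.el (τ⁻¹).1) (R.a (R.el τ.1) v.1) ∈ O at h'
    rwa [← R.a_el_mul (mem_alt.mp (τ⁻¹).2) (mem_alt.mp τ.2), ← Subgroup.coe_mul, inv_mul_cancel,
      show ((1 : ↥(alternatingGroup (Fin 6))) : S6) = 1 from rfl, R.a_el_one] at h'
  let actT : ∀ b, ↥(alternatingGroup (Fin 6)) →* Equiv.Perm (Ts b) := fun b =>
    { toFun := fun τ =>
        { toFun := fun v => ⟨_, hmapT τ b v⟩
          invFun := fun v => ⟨_, hmapT τ⁻¹ b v⟩
          left_inv := fun v => Subtype.ext (by
            show ((restr τ⁻¹) (restr τ ⟨v.1, v.2.1⟩)).1 = v.1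
            rw [← Equiv.Perm.mul_apply, ← map_mul, inv_mul_cancel, map_one]; rfl)
          right_inv := fun v => Subtype.ext (by
            show ((restr τ) (restr τ⁻¹ ⟨v.1, v.2.1⟩)).1 = v.1
            rw [← Equiv.Perm.mul_apply, ← map_mul, mul_inv_cancel, map_one]; rfl) }
      map_one' := Equiv.ext fun v => Subtype.ext (by show ((restr 1) ⟨v.1, v.2.1⟩).1 = v.1; rw [map_one]; rfl)
      map_mul' := fun s t => Equiv.ext fun v => Subtype.ext (by
        show ((restr (s * t)) ⟨v.1, v.2.1⟩).1 = _; rw [map_mul]; rfl) }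
  have hdvd : ∀ b, Fintype.card (Ts b) % 5 = 0 := fun b => by
    let f : Function.End (Ts b) := fun v => actT b σ5 v
    have key : ∀ (n : ℕ) (v : Ts b), (f ^ n) v = ((actT b σ5) ^ n) v := by
      intro n
      induction n with
      | zero => intro v; rfl
      | succ n ih => intro v; rw [pow_succ, pow_succ]; exact ih _
    have hf : f ^ 5 ^ 1 = 1 := by
      funext v
      rw [pow_one, key, ← map_pow, show σ5 ^ 5 = 1 from Subtype.ext basic_facts.2.2.2.1, map_one]
      rfl
    have h := Equiv.Perm.card_fixedPoints_modEq (f := f) (p := 5) (n := 1) hf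
    haveI : IsEmpty (Function.fixedPoints f) := ⟨fun v => v.1.2.2.1 (hI.2 _ (congrArg Subtype.val v.2))⟩
    rw [show Fintype.card (Function.fixedPoints f) = 0 from Fintype.card_eq_zero] at h
    exact h
  have htot : Fintype.card (Ts true) + Fintype.card (Ts false) = 15 := by
    rw [← Fintype.card_sum]
    have e : Ts true ⊕ Ts false ≃ {v : S // v ≠ 0} :=
      { toFun := Sum.elim (fun v => ⟨⟨v.1, v.2.1⟩, fun h => v.2.2.1 (congrArg Subtype.val h)⟩)
          (fun v => ⟨⟨v.1, v.2.1⟩, fun h => v.2.2.1 (congrArg Subtype.val h)⟩)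
        invFun := fun v => if h : v.1.1 ∈ O then
            Sum.inl ⟨v.1.1, v.1.2, fun h' => v.2 (Subtype.ext h'), iff_of_true h rfl⟩
          else Sum.inr ⟨v.1.1, v.1.2, fun h' => v.2 (Subtype.ext h'), iff_of_false h Bool.false_ne_true⟩
        left_inv := by
          rintro (v | v)
          · simp [v.2.2.2.mpr rfl]
          · have : v.1 ∉ O := fun h => Bool.false_ne_true (v.2.2.2.mp h)
            simp [this]
        right_inv := fun v => by
          by_cases h : v.1.1 ∈ O <;> simp [h] }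
    rw [Fintype.card_congr e, Fintype.card_subtype_compl, Fintype.card_subtype_eq,
      Module.card_eq_pow_finrank (K := ZMod 2), ZMod.card, hdim]
    norm_num
  have hpt : 0 < Fintype.card (Ts true) :=
    Fintype.card_pos_iff.mpr ⟨⟨a0, hamem, ha0, iff_of_true ⟨1, map_one _, R.a_el_one _⟩ rfl⟩⟩
  have hpf : 0 < Fintype.card (Ts false) := Fintype.card_pos_iff.mpr ⟨⟨v1, hv1, hv10,
    iff_of_false (by rintro ⟨σ, hσ, e⟩; exact hv1o σ hσ e) Bool.false_ne_true⟩⟩
  obtain ⟨b, hb⟩ : ∃ b, Fintype.card (Ts b) = 5 := by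
    have h0 := hdvd true
    have h1 := hdvd false
    obtain ⟨x, hx⟩ : ∃ x, Fintype.card (Ts true) = x := ⟨_, rfl⟩
    obtain ⟨y, hy⟩ : ∃ y, Fintype.card (Ts false) = y := ⟨_, rfl⟩
    rw [hx] at htot h0 hpt
    rw [hy] at htot h1 hpf
    rcases (show x = 5 ∨ y = 5 by omega) with h | h
    exacts [⟨true, hx.trans h⟩, ⟨false, hy.trans h⟩]
  have hsmall : Nat.card (Equiv.Perm (Ts b)) < 360 := by
    rw [Nat.card_eq_fintype_card, Fintype.card_perm, hb]; decide
  obtain ⟨v⟩ := Fintype.card_pos_iff.mp (show 0 < Fintype.card (Ts b) by omega)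
  have h := congrArg (fun p : Equiv.Perm (Ts b) => (p v).1) (small_hom hsmall (actT b) σ5)
  exact v.2.2.1 (hI.2 _ h)

end Rep

end Cfsg.Agent.S3A6Q9
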