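import Cfsg.Agent.Lib.S3A6Q9.Rep

/-
The fixed-point-free case: the fixed space of an involution of A6 is 4-dimensional and totally
singular, exactly one of the two four-groups of `c0` fixes it pointwise, and the other one has a
2-dimensional fixed space, the centre of the involution.
-/

set_option autoImplicit false

namespace Cfsg.Agent.S3A6Q9

open Module Equiv Equiv.Perm

theorem finrank_span_pair_le {V : Type*} [AddCommGroup V] [Module (ZMod 2) V] [Finite V] (x y : V) :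
    finrank (ZMod 2) ↥(Submodule.span (ZMod 2) ({x, y} : Set V)) ≤ 2 := by
  classical
  have h := finrank_span_le_card (R := ZMod 2) ({x, y} : Set V)
  refine h.trans ?_
  rw [Set.toFinset_insert, Set.toFinset_singleton]
  exact Finset.card_le_two

namespace Rep

variable {H : Type*} [Group H] {V : Type*} [AddCommGroup V] [Module (ZMod 2) V] (R : Rep H V)

theorem sign_c0 : sign c0 = 1 := basic_facts.1
theorem sign_c4 : sign c4 = 1 := path_facts.2.2.2.1

/-- The fixed space of the lift of a permutation. -/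
noncomputable abbrev S (σ : S6) : Submodule (ZMod 2) V := Fix (R.a (R.el σ))

theorem mem_S {σ : S6} {v : V} : v ∈ R.S σ ↔ R.a (R.el σ) v = v := mem_fix

theorem a_el_mul {σ τ : S6} (h1 : sign σ = 1) (h2 : sign τ = 1) (v : V) :
    R.a (R.el (σ * τ)) v = R.a (R.el σ) (R.a (R.el τ) v) := by rw [R.el_mul h1 h2, R.a_mul]

theorem a_el_one (v : V) : R.a (R.el 1) v = v := by rw [R.el_one, R.a_one]

theorem a_el_invol {σ : S6} (h : sign σ = 1) (h2 : σ * σ = 1) (v : V) :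
    R.a (R.el σ) (R.a (R.el σ) v) = v := by rw [← R.a_el_mul h h, h2, R.a_el_one]

theorem sign_conj {h σ : S6} (hσ : sign σ = 1) : sign (h * σ * h⁻¹) = 1 := by
  rw [map_mul, map_mul, map_inv, hσ, mul_one, mul_inv_cancel]

theorem a_el_conj {g : H} {σ : S6} (hσ : sign σ = 1) (v : V) :
    R.a g (R.a (R.el σ) v) = R.a (R.el (R.rho g * σ * (R.rho g)⁻¹)) (R.a g v) := by
  rw [← R.el_conj hσ, ← R.a_mul, ← R.a_mul, inv_mul_cancel_right]

theorem S_conj {g : H} {σ : S6} (hσ : sign σ = 1) {v : V} :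
    R.a g v ∈ R.S (R.rho g * σ * (R.rho g)⁻¹) ↔ v ∈ R.S σ := by
  rw [R.mem_S, R.mem_S, ← R.a_el_conj hσ]
  exact (R.a g).injective.eq_iff

theorem S_conj_el {h σ : S6} (hh : sign h = 1) (hσ : sign σ = 1) {v : V} :
    R.a (R.el h) v ∈ R.S (h * σ * h⁻¹) ↔ v ∈ R.S σ := by
  have := R.S_conj (g := R.el h) (v := v) hσ
  rwa [R.rho_el hh] at this

theorem S_map_eq {h σ : S6} (hh : sign h = 1) (hσ : sign σ = 1) :
    R.S (h * σ * h⁻¹) = (R.S σ).map (R.a (R.el h)).toLinearMap := by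
  ext v
  constructor
  · intro hv
    refine ⟨R.a (R.el h)⁻¹ v, (R.S_conj_el hh hσ).mp ?_, R.a_inv_cancel _ v⟩
    rw [R.a_inv_cancel]; exact hv
  · rintro ⟨w, hw, rfl⟩
    exact (R.S_conj_el hh hσ).mpr hw

theorem finrank_S_conj {h σ : S6} (hh : sign h = 1) (hσ : sign σ = 1) :
    finrank (ZMod 2) (R.S (h * σ * h⁻¹)) = finrank (ZMod 2) (R.S σ) := by
  rw [R.S_map_eq hh hσ]
  exact (LinearEquiv.finrank_eq (Submodule.equivMapOfInjective (R.a (R.el h)).toLinearMap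
    (R.a (R.el h)).injective (R.S σ))).symm

theorem Y_S {σ : S6} {v : V} (hv : v ∈ R.S σ) : R.Y v ∈ R.S σ := by
  rw [R.mem_S, R.a_comm (R.comm_y (R.pi_el σ)), R.mem_S.mp hv]

theorem Y_el (σ : S6) (v : V) : R.Y (R.a (R.el σ) v) = R.a (R.el σ) (R.Y v) :=
  R.a_comm (R.comm_y (R.pi_el σ)).symm v

variable (hI : R.TypeI)
include hI

theorem U_top : R.U = ⊤ := by
  rw [eq_top_iff]
  intro v _
  obtain ⟨u, hu, c, hc, rfl⟩ := R.decomp v
  rw [hI.1 c (mem_fix.mp hc), add_zero]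
  exact hu

theorem Y_fpf {v : V} (h : R.Y v = v) : v = 0 := hI.1 v h

theorem even_inv [Finite V] (W : Submodule (ZMod 2) V) (hY : ∀ v ∈ W, R.Y v ∈ W) :
    Even (finrank (ZMod 2) W) := R.even_dim W (R.U_top hI ▸ le_top) hY

theorem f5_fpf {g : S6} (h5 : g ^ 5 = 1) (hg : g ≠ 1) {v : V} (hv : R.a (R.el g) v = v) : v = 0 := by
  obtain ⟨h, hh, e⟩ := exists_conj_f5 g h5 hg
  have hgs : sign g = 1 := by
    have : sign g ^ 5 = 1 := by rw [← map_pow, h5, map_one]
    rcases Int.units_eq_one_or (sign g) with e | e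
    · exact e
    · rw [e] at this; exact absurd this (by decide)
  have hv' : R.a (R.el (h * f5 * h⁻¹)) v = v := by
    rcases e with e | e <;> rw [e]
    · exact hv
    · rw [R.a_el_mul hgs hgs, hv, hv]
  have hw : R.a (R.el h)⁻¹ v ∈ R.S f5 :=
    (R.S_conj_el hh sign_f5).mp (by rw [R.a_inv_cancel]; exact R.mem_S.mpr hv')
  have h0 := hI.2 _ (R.mem_S.mp hw)
  exact ((R.a (R.el h)⁻¹).map_eq_zero_iff).mp h0

theorem finrank_S_c0 [Finite V] : finrank (ZMod 2) (R.S c0) = 4 := by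
  have hinv : ∀ v, R.a (R.el c0) (R.a (R.el c0) v) = v := R.a_el_invol sign_c0 basic_facts.2.1
  have h1 := finrank_fix_mov (R.a (R.el c0))
  have h2 := Submodule.finrank_mono (mov_le_fix hinv)
  obtain ⟨h, hh, hc⟩ := exists_conj_c0 c4 sign_c4 (by have := path_facts; tauto) (by have := path_facts; tauto)
  have h4 : finrank (ZMod 2) (R.S c4) = finrank (ZMod 2) (R.S c0) := by
    rw [← hc]; exact R.finrank_S_conj hh sign_c0
  have hdis : Disjoint (R.S c0) (R.S c4) := by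
    rw [Submodule.disjoint_def]
    intro v h0 h4
    refine hI.2 v ?_
    show R.a (R.el (c0 * c4)) v = v
    rw [R.a_el_mul sign_c0 sign_c4, R.mem_S.mp h4, R.mem_S.mp h0]
  have h5 := Submodule.finrank_add_finrank_le_of_disjoint hdis
  rw [R.dim] at h1 h5
  have := h1
  change finrank (ZMod 2) ↥(R.S c0) + _ = 8 at h1
  change _ ≤ finrank (ZMod 2) ↥(R.S c0) at h2
  omega

theorem finrank_S [Finite V] {σ : S6} (hs : sign σ = 1) (h2 : σ * σ = 1) (h1 : σ ≠ 1) :
    finrank (ZMod 2) (R.S σ) = 4 := by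
  obtain ⟨h, hh, rfl⟩ := exists_conj_c0 σ hs h2 h1
  rw [R.finrank_S_conj hh sign_c0]; exact R.finrank_S_c0 hI

theorem S_eq_mov [Finite V] {σ : S6} (hs : sign σ = 1) (h2 : σ * σ = 1) (h1 : σ ≠ 1) :
    Mov (R.a (R.el σ)) = R.S σ := by
  refine Submodule.eq_of_le_of_finrank_le (mov_le_fix (R.a_el_invol hs h2)) ?_
  have h := finrank_fix_mov (R.a (R.el σ))
  have h4 := R.finrank_S hI hs h2 h1
  rw [R.dim] at h
  change finrank (ZMod 2) ↥(R.S σ) + _ = 8 at h
  omega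

theorem S_isotropic [Finite V] {σ : S6} (hs : sign σ = 1) (h2 : σ * σ = 1) (h1 : σ ≠ 1) {u v : V}
    (hu : u ∈ R.S σ) (hv : v ∈ R.S σ) : R.Q.B u v = 0 := by
  rw [← R.S_eq_mov hI hs h2 h1] at hu hv
  exact R.Q.mov_isotropic (R.iso _) (R.a_el_invol hs h2) hu hv

theorem S_singular [Finite V] {σ : S6} (hs : sign σ = 1) (h2 : σ * σ = 1) (h1 : σ ≠ 1) {v : V}
    (hv : v ∈ R.S σ) : R.Q.q v = 0 :=
  R.Q.q_eq_zero_of_fpf (R.iso R.y) (fun _ a _ b => R.S_isotropic hI hs h2 h1 a b) (fun _ => R.Y_S)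
    (fun v _ => R.sum_mem_U (R.U_top hI ▸ Submodule.mem_top)) hv

/-- The two elements of C_A6(c0) generating it do not both fix the fixed space of c0. -/
theorem not_both_trivial [Finite V] (hg1 : ∀ v ∈ R.S c0, R.a (R.el g1) v = v)
    (hg2 : ∀ v ∈ R.S c0, R.a (R.el g2) v = v) : False := by
  obtain ⟨-, -, -, -, -, -, s1, s2, -⟩ := basic_facts
  have hcent : ∀ x : S6, sign x = 1 → x * c0 = c0 * x → R.S c0 ≤ R.S x := by
    intro x hx hxc v hv
    rw [R.mem_S]
    have hmem := centralizer_c0 x hx hxc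
    simp only [List.mem_cons, List.not_mem_nil, or_false] at hmem
    have hc := R.mem_S.mp hv
    rcases hmem with rfl | rfl | rfl | rfl | rfl | rfl | rfl | rfl
    · exact R.a_el_one v
    · exact hc
    · exact hg1 v hv
    · rw [R.a_el_mul sign_c0 s1, hg1 v hv, hc]
    · exact hg2 v hv
    · rw [R.a_el_mul sign_c0 s2, hg2 v hv, hc]
    · rw [R.a_el_mul s1 s2, hg2 v hv, hg1 v hv]
    · rw [R.a_el_mul s2 s1, hg1 v hv, hg2 v hv]
  -- a commuting involution has the same fixed space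
  have step : ∀ σ σ' : S6, sign σ = 1 → σ * σ = 1 → σ ≠ 1 → sign σ' = 1 → σ' * σ' = 1 → σ' ≠ 1 →
      σ * σ' = σ' * σ → R.S σ = R.S c0 → R.S σ' = R.S c0 := by
    intro σ σ' hs h2 h1 hs' h2' h1' hcom he
    obtain ⟨h, hh, rfl⟩ := exists_conj_c0 σ hs h2 h1
    have hle : R.S (h * c0 * h⁻¹) ≤ R.S σ' := by
      rw [R.S_map_eq hh sign_c0]
      rintro _ ⟨v, hv, rfl⟩
      have hx : sign (h⁻¹ * σ' * h) = 1 := by
        rw [map_mul, map_mul, map_inv, hs', mul_one, inv_mul_cancel]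
      have hxc : h⁻¹ * σ' * h * c0 = c0 * (h⁻¹ * σ' * h) := by
        calc h⁻¹ * σ' * h * c0 = h⁻¹ * (σ' * (h * c0 * h⁻¹)) * h := by group
          _ = h⁻¹ * ((h * c0 * h⁻¹) * σ') * h := by rw [hcom]
          _ = _ := by group
      have := (R.S_conj_el hh hx (v := v)).mpr (hcent _ hx hxc hv)
      rwa [show h * (h⁻¹ * σ' * h) * h⁻¹ = σ' by group] at this
    refine (Submodule.eq_of_le_of_finrank_le (he ▸ hle) ?_).symm
    rw [R.finrank_S hI hs' h2' h1', R.finrank_S_c0 hI]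
  obtain ⟨a1, a2, a3, a4, b1, b2, b3, b4, n1, n2, n3, n4, e0, e1, e2, e3⟩ := path_facts
  have h1 := step c0 p1 sign_c0 basic_facts.2.1 basic_facts.2.2.1 a1 b1 n1 e0 rfl
  have h2 := step p1 p2 a1 b1 n1 a2 b2 n2 e1 h1
  have h3 := step p2 p3 a2 b2 n2 a3 b3 n3 e2 h2
  have h4 := step p3 c4 a3 b3 n3 a4 b4 n4 e3 h3
  have h0 : R.S c0 = ⊥ := by
    rw [Submodule.eq_bot_iff]
    intro v hv
    refine hI.2 v ?_
    show R.a (R.el (c0 * c4)) v = v
    rw [R.a_el_mul sign_c0 sign_c4, R.mem_S.mp (h4 ▸ hv : v ∈ R.S c4), R.mem_S.mp hv]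
  have := R.finrank_S_c0 hI
  rw [h0, finrank_bot] at this
  omega

/-- If an involution `g` commuting with y and c0 acts nontrivially on `S c0`, its fixed space there
is a plane, totally isotropic for the form induced by c0. -/
theorem plane [Finite V] {x : H} (hxy : x * R.y = R.y * x) {T : Submodule (ZMod 2) V}
    (hT4 : finrank (ZMod 2) T = 4) (hTY : ∀ v ∈ T, R.Y v ∈ T) (hTx : ∀ v ∈ T, R.a x v ∈ T)
    (hx2 : x * x = 1) (hne : ∃ v ∈ T, R.a x v ≠ v) :
    finrank (ZMod 2) ↥(T ⊓ Fix (R.a x)) = 2 ∧ T.map ((R.a x).toLinearMap + LinearMap.id) = T ⊓ Fix (R.a x) := by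
  set W := T ⊓ Fix (R.a x) with hW
  set M := T.map ((R.a x).toLinearMap + LinearMap.id) with hM
  have hMW : M ≤ W := by
    rintro _ ⟨v, hv, rfl⟩
    refine ⟨add_mem (hTx v hv) hv, mov_le_fix (fun w => ?_) ⟨v, rfl⟩⟩
    rw [← R.a_mul, hx2, R.a_one]
  have hWY : ∀ v ∈ W, R.Y v ∈ W := fun v hv =>
    ⟨hTY v hv.1, mem_fix.mpr (by rw [R.a_comm hxy, mem_fix.mp hv.2])⟩
  have hMY : ∀ v ∈ M, R.Y v ∈ M := by
    rintro _ ⟨v, hv, rfl⟩
    refine ⟨R.Y v, hTY v hv, ?_⟩
    show R.a x (R.Y v) + R.Y v = R.Y (R.a x v + v)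
    rw [map_add, R.a_comm hxy]
  have hM0 : finrank (ZMod 2) M ≠ 0 := fun h => by
    obtain ⟨v, hv, hxv⟩ := hne
    have hm : R.a x v + v ∈ M := ⟨v, hv, rfl⟩
    rw [Submodule.finrank_eq_zero.mp h] at hm
    exact hxv (eq_of_add0 ((Submodule.mem_bot _).mp hm))
  have hle := Submodule.finrank_mono hMW
  have hWT : finrank (ZMod 2) W ≤ 4 := hT4 ▸ Submodule.finrank_mono inf_le_left
  have hW4 : finrank (ZMod 2) W ≠ 4 := fun h => by
    obtain ⟨v, hv, hxv⟩ := hne
    have e : W = T := Submodule.eq_of_le_of_finrank_le inf_le_left (by omega)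
    rw [← e] at hv
    exact hxv (mem_fix.mp hv.2)
  obtain ⟨k, hk⟩ := R.even_inv hI W hWY
  obtain ⟨l, hl⟩ := R.even_inv hI M hMY
  exact ⟨by omega, Submodule.eq_of_le_of_finrank_le hMW (by omega)⟩

/-- The form of a fixed space vanishes on the commutator plane of a commuting element. -/
theorem form_zero [Finite V] {x : H} {g : H} (hgx : g * x = x * g)
    (hiso : ∀ u ∈ Fix (R.a x), ∀ v ∈ Fix (R.a x), R.Q.B u v = 0) {u w : V}
    (hu : u ∈ (Fix (R.a x)).map ((R.a g).toLinearMap + LinearMap.id))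
    (hw : R.a g (R.a x w + w) = R.a x w + w) : R.Q.B u w = 0 := by
  obtain ⟨a, ha, rfl⟩ := hu
  show R.Q.B (R.a g a + a) w = 0
  have hfix : R.a g⁻¹ w + w ∈ Fix (R.a x) := by
    rw [mem_fix, map_add, R.a_comm ((Commute.inv_left (show Commute g x from hgx)).symm.eq)]
    have h' : R.a g⁻¹ (R.a x w + w) = R.a x w + w := by
      conv_lhs => rw [← hw]
      rw [← R.a_mul, inv_mul_cancel, R.a_one]
    rw [map_add] at h'
    refine eq_of_add0 ?_
    rw [show R.a g⁻¹ (R.a x w) + R.a x w + (R.a g⁻¹ w + w) =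
      (R.a g⁻¹ (R.a x w) + R.a g⁻¹ w) + (R.a x w + w) by abel, h', add_self0]
  have e : R.Q.B (R.a g a) w = R.Q.B a (R.a g⁻¹ w) := by
    conv_lhs => rw [← R.a_inv_cancel g w]
    rw [R.B_a]
  rw [map_add, LinearMap.add_apply, e, ← map_add]
  exact hiso a ha _ hfix

/-- The two possible roles of the four-groups through c0. -/
def Labelled (L : Lab) : Prop :=
  (L.Good ∧ ∀ n : S6, sign n = 1 → n * c0 * n⁻¹ ∈ L.ka → n * L.ga * n⁻¹ ∈ L.ka → n ∈ L.normList) ∧ (∀ v ∈ R.S c0, R.a (R.el L.gl) v = v) ∧ ∃ v ∈ R.S c0, R.a (R.el L.ga) v ≠ v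

theorem exists_lab [Finite V] : ∃ L, R.Labelled L := by
  obtain ⟨-, c2, c1, -, -, -, s1, s2, g1c, g2c, g12, g22, hprod⟩ := basic_facts
  by_cases h1 : ∀ v ∈ R.S c0, R.a (R.el g1) v = v
  · refine ⟨lab2, ⟨lab2_good, lab2_norm⟩, h1, ?_⟩
    by_contra! h2
    exact R.not_both_trivial hI h1 h2
  by_cases h2 : ∀ v ∈ R.S c0, R.a (R.el g2) v = v
  · simp only [not_forall] at h1
    obtain ⟨v, hv, h1⟩ := h1
    exact ⟨lab1, ⟨lab1_good, lab1_norm⟩, h2, v, hv, h1⟩
  exfalso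
  simp only [not_forall] at h1 h2
  obtain ⟨v1, hv1, hn1⟩ := h1
  obtain ⟨v2, hv2, hn2⟩ := h2
  set T := R.S c0 with hTdef
  have hT4 := R.finrank_S_c0 hI
  have invol : ∀ g : S6, sign g = 1 → g * g = 1 → R.el g * R.el g = 1 := fun g hs h => by
    rw [← R.el_mul hs hs, h, R.el_one]
  have comm0 : ∀ g : S6, sign g = 1 → g * c0 = c0 * g → R.el g * R.el c0 = R.el c0 * R.el g :=
    fun g hs h => by rw [← R.el_mul hs sign_c0, h, R.el_mul sign_c0 hs]
  have hTg : ∀ g : S6, sign g = 1 → g * c0 = c0 * g → ∀ v ∈ T, R.a (R.el g) v ∈ T := by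
    intro g hs h v hv
    have hc := R.mem_S.mp hv
    rw [hTdef, R.mem_S, R.a_comm (comm0 g hs h).symm, hc]
  obtain ⟨d1, m1⟩ := R.plane hI (R.comm_y (R.pi_el g1)) hT4 (fun _ => R.Y_S) (hTg g1 s1 g1c)
    (invol g1 s1 g12) ⟨v1, hv1, hn1⟩
  obtain ⟨d2, m2⟩ := R.plane hI (R.comm_y (R.pi_el g2)) hT4 (fun _ => R.Y_S) (hTg g2 s2 g2c)
    (invol g2 s2 g22) ⟨v2, hv2, hn2⟩
  set W1 := T ⊓ Fix (R.a (R.el g1)) with hW1
  set W2 := T ⊓ Fix (R.a (R.el g2)) with hW2
  -- on T the elements g1, g2 commute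
  have hcomm : ∀ v ∈ T, R.a (R.el g1) (R.a (R.el g2) v) = R.a (R.el g2) (R.a (R.el g1) v) := by
    intro v hv
    have h : R.a (R.el g1) (R.a (R.el g2) (R.a (R.el g1) (R.a (R.el g2) v))) = v := by
      have hs : sign (g1 * g2) = 1 := by rw [map_mul, s1, s2, one_mul]
      rw [← R.a_el_mul s1 s2 v, ← R.a_el_mul s1 s2, ← R.a_el_mul hs hs, hprod]
      exact R.mem_S.mp hv
    have e := congrArg (fun x => R.a (R.el g2) (R.a (R.el g1) x)) h
    simpa [R.a_el_invol s1 g12, R.a_el_invol s2 g22] using e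
  -- W2 = W1
  have hW : W1 = W2 := by
    by_contra hne
    obtain ⟨w, hw, hw0⟩ : ∃ w ∈ W1 ⊓ W2, w ≠ 0 := by
      by_cases hall : ∀ x ∈ W1, R.a (R.el g2) x = x
      · obtain ⟨w, hw, hw0⟩ := Submodule.exists_mem_ne_zero_of_ne_bot
          (p := W1) fun h => by rw [h, finrank_bot] at d1; omega
        exact ⟨w, ⟨hw, hw.1, mem_fix.mpr (hall w hw)⟩, hw0⟩
      · simp only [not_forall] at hall
        obtain ⟨x, hx, hgx⟩ := hall
        refine ⟨R.a (R.el g2) x + x, ⟨⟨add_mem (hTg g2 s2 g2c x hx.1) hx.1, ?_⟩,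
          add_mem (hTg g2 s2 g2c x hx.1) hx.1, ?_⟩, fun h => hgx (eq_of_add0 h)⟩
        · exact mem_fix.mpr (by rw [map_add, hcomm x hx.1, mem_fix.mp hx.2])
        · exact mem_fix.mpr (by rw [map_add, R.a_el_invol s2 g22, add_comm])
    have hev : Even (finrank (ZMod 2) ↥(W1 ⊓ W2)) := R.even_inv hI _ fun v hv =>
      ⟨⟨R.Y_S hv.1.1, R.Y_S hv.1.2⟩, R.Y_S hv.1.1, R.Y_S hv.2.2⟩
    have hpos : finrank (ZMod 2) ↥(W1 ⊓ W2) ≠ 0 := fun h =>
      hw0 ((Submodule.mem_bot _).mp (Submodule.finrank_eq_zero.mp h ▸ hw))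
    obtain ⟨k, hk⟩ := hev
    have e1 : W1 ⊓ W2 = W1 := Submodule.eq_of_le_of_finrank_le inf_le_left (by omega)
    have e2 : W1 ⊓ W2 = W2 := Submodule.eq_of_le_of_finrank_le inf_le_right (by omega)
    exact hne (e1.symm.trans e2)
  rw [← hW] at m2
  -- a vector outside W1
  have hu : v1 ∉ W1 := fun h => hn1 (mem_fix.mp h.2)
  have hYW : ∀ v ∈ W1, R.Y v ∈ W1 := fun v hv => ⟨R.Y_S hv.1, R.Y_S hv.2⟩
  have hYu : R.Y v1 ∉ W1 := fun h => hu (R.Y3 v1 ▸ hYW _ (hYW _ h))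
  set l1 := R.a (R.el g1) v1 + v1 with hl1
  set l2 := R.a (R.el g2) v1 + v1 with hl2
  have hl1W : l1 ∈ W1 := m1 ▸ ⟨v1, hv1, rfl⟩
  have hl2W : l2 ∈ W1 := m2 ▸ ⟨v1, hv1, rfl⟩
  have hne1 : l1 ≠ 0 := fun h => hn1 (eq_of_add0 h)
  have hne2 : l2 ≠ 0 := fun h => hu (hW.symm ▸ ⟨hv1, mem_fix.mpr (eq_of_add0 h)⟩)
  -- T is spanned by W1, v1 and Y v1
  have hgen : W1 ⊔ Submodule.span (ZMod 2) ({v1, R.Y v1} : Set V) = T := by
    refine Submodule.eq_of_le_of_finrank_le (sup_le inf_le_left (Submodule.span_le.mpr ?_)) ?_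
    · rintro x (rfl | rfl)
      exacts [hv1, R.Y_S hv1]
    have hmem1 : v1 ∈ W1 ⊔ Submodule.span (ZMod 2) ({v1, R.Y v1} : Set V) :=
      Submodule.mem_sup_right (Submodule.subset_span (Set.mem_insert _ _))
    have hlt := Submodule.finrank_lt_finrank_of_lt (show W1 < W1 ⊔ Submodule.span (ZMod 2) ({v1, R.Y v1} : Set V) from
      lt_of_le_of_ne le_sup_left fun h => hu (h ▸ hmem1))
    have hev := R.even_inv hI (W1 ⊔ Submodule.span (ZMod 2) ({v1, R.Y v1} : Set V)) (by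
      intro x hx
      obtain ⟨a, ha, b, hb, rfl⟩ := Submodule.mem_sup.mp hx
      rw [map_add]
      refine add_mem (Submodule.mem_sup_left (hYW a ha)) ?_
      rw [Submodule.mem_span_pair] at hb
      obtain ⟨i, j, rfl⟩ := hb
      have e : R.Y (R.Y v1) = v1 + R.Y v1 :=
        (eq_of_add0 (R.sum_mem_U (R.U_top hI ▸ Submodule.mem_top))).symm
      rw [map_add, map_smul, map_smul, e]
      exact Submodule.mem_sup_right (Submodule.mem_span_pair.mpr ⟨j, i + j, by module⟩))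
    obtain ⟨k, hk⟩ := hev
    rw [hT4]; omega
  by_cases hl : l1 = l2
  · -- then the product, of order four, fixes T pointwise
    set e := R.el (g1 * g2) with he
    have hfe : ∀ x ∈ T, R.a e x = x := by
      intro x hx
      rw [← hgen] at hx
      obtain ⟨a, ha, b, hb, rfl⟩ := Submodule.mem_sup.mp hx
      have ha1 : R.a (R.el g1) a = a := mem_fix.mp ha.2
      have ha2 : R.a (R.el g2) a = a := mem_fix.mp (hW ▸ ha).2
      have hu1 : R.a e v1 = v1 := by
        have e2 : R.a (R.el g2) v1 = l1 + v1 := by rw [hl, hl2, add_assoc, add_self0, add_zero]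
        rw [he, R.a_el_mul s1 s2, e2, map_add, mem_fix.mp hl1W.2,
          show R.a (R.el g1) v1 = l1 + v1 by rw [hl1, add_assoc, add_self0, add_zero],
          ← add_assoc, add_self0, zero_add]
      rw [Submodule.mem_span_pair] at hb
      obtain ⟨i, j, rfl⟩ := hb
      rw [map_add, show R.a e a = a by rw [he, R.a_el_mul s1 s2, ha2, ha1], map_add, map_smul, map_smul, hu1,
        R.a_comm (R.comm_y (R.pi_el _)), hu1]
    have hsq : ∀ v, R.a e (R.a e v) = v := by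
      intro v
      have hm : R.a e v + v ∈ T := by
        rw [hTdef, ← R.S_eq_mov hI sign_c0 c2 c1]
        refine R.Q.mem_mov_of_perp (R.iso _) fun w hw => ?_
        have hew : R.a e w = w := hfe w hw
        rw [map_add]
        conv_lhs => enter [1]; rw [← hew]
        rw [R.B_a]
        exact zmod2_add_self _
      have h := hfe _ hm
      rw [map_add] at h
      calc R.a e (R.a e v) = (R.a e (R.a e v) + R.a e v) + R.a e v := by rw [add_assoc, add_self0, add_zero]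
        _ = v := by rw [h, add_comm (R.a e v) v, add_assoc, add_self0, add_zero]
    refine c1 ?_
    have := congrArg R.rho (R.faith (R.el c0) fun v => by
      rw [← hprod, R.a_el_mul (by rw [map_mul, s1, s2, one_mul]) (by rw [map_mul, s1, s2, one_mul])]
      exact hsq v)
    rwa [R.rho_el sign_c0, map_one] at this
  -- the induced form would be degenerate
  have hB0 : ∀ lam ∈ W1, ∀ w, R.a (R.el c0) w + w ∈ W1 → R.Q.B lam w = 0 := by
    intro lam hlam w hw
    rw [← m1] at hlam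
    exact R.form_zero hI (comm0 g1 s1 g1c)
      (fun _ a _ b => R.S_isotropic hI sign_c0 c2 c1 a b) hlam (mem_fix.mp hw.2)
  have exw : ∀ x ∈ T, ∃ w, R.a (R.el c0) w + w = x := fun x hx => by
    rw [hTdef, ← R.S_eq_mov hI sign_c0 c2 c1] at hx
    exact mem_mov.mp hx
  have hsymm : ∀ x w z w', R.a (R.el c0) w' + w' = x → R.a (R.el c0) w + w = z →
      R.Q.B x w = R.Q.B z w' := by
    intro x w z w' hx hz
    have hc : R.Q.B (R.a (R.el c0) w') w = R.Q.B w' (R.a (R.el c0) w) := by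
      conv_lhs => rw [← R.B_a (R.el c0), R.a_el_invol sign_c0 c2]
    rw [← hx, ← hz, map_add, map_add, LinearMap.add_apply, LinearMap.add_apply, hc,
      R.Q.comm (R.a (R.el c0) w) w', R.Q.comm w w']
  -- the key relation, for both l1 and l2
  have key : ∀ g : S6, sign g = 1 → g * c0 = c0 * g → ∀ l, R.a (R.el g) v1 = v1 + l → l ∈ W1 →
      (∀ x ∈ W1, R.a (R.el g) x = x) → ∀ w, R.a (R.el c0) w + w = v1 → R.Q.B l w = 0 := by
    intro g hs hgc l hgv hlW hgW w1 hw1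
    obtain ⟨w, hw⟩ := exw _ (R.Y_S hv1)
    obtain ⟨μ, hμ⟩ := exw _ (hTg g hs hgc _ hv1 |> fun _ => R.Y_S (show l ∈ T from hlW.1))
    have hgY : R.a (R.el g) (R.Y v1) = R.Y v1 + R.Y l := by rw [← R.Y_el, hgv, map_add]
    set s' := R.a (R.el g) w + (w + μ) with hs'
    have hs'T : s' ∈ T := by
      rw [hTdef, R.mem_S]
      refine eq_of_add0 ?_
      have e : R.a (R.el g) (R.a (R.el c0) w) + R.a (R.el g) w = R.Y v1 + R.Y l := by
        rw [← map_add, hw, hgY]
      rw [hs', map_add, map_add, ← R.a_comm (comm0 g hs hgc),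
        show R.a (R.el g) (R.a (R.el c0) w) + (R.a (R.el c0) w + R.a (R.el c0) μ) +
          (R.a (R.el g) w + (w + μ)) = (R.a (R.el g) (R.a (R.el c0) w) + R.a (R.el g) w) +
          (R.a (R.el c0) w + w) + (R.a (R.el c0) μ + μ) by abel, e, hw, hμ,
        show R.Y v1 + R.Y l + R.Y v1 + R.Y l = (R.Y v1 + R.Y v1) + (R.Y l + R.Y l) by abel,
        add_self0, add_self0, add_zero]
    have hgw : R.a (R.el g) w = w + μ + s' := by
      rw [hs', show w + μ + (R.a (R.el g) w + (w + μ)) = R.a (R.el g) w + ((w + μ) + (w + μ)) by abel,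
        add_self0, add_zero]
    have h := R.B_a (R.el g) v1 w
    rw [hgv, hgw] at h
    simp only [map_add, LinearMap.add_apply] at h
    rw [R.S_isotropic hI sign_c0 c2 c1 hv1 hs'T, R.S_isotropic hI sign_c0 c2 c1 hlW.1 hs'T,
      hB0 l hlW μ (hμ.symm ▸ hYW l hlW), add_zero, add_zero, add_zero] at h
    -- h : B v1 w + B v1 μ + B l w = B v1 w
    have h' : R.Q.B v1 μ + R.Q.B l w = 0 := by
      rw [add_assoc, add_eq_left] at h
      rw [add_comm]; exact h
    -- B v1 μ = B (Y Y v1) w_l = B l (a lift of Y Y v1)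
    obtain ⟨wl, hwl⟩ := exw _ hlW.1
    have hw2 : R.a (R.el c0) (R.Y w) + R.Y w = R.Y (R.Y v1) := by rw [← R.Y_el, ← map_add, hw]
    have hμ' : R.a (R.el c0) (R.Y wl) + R.Y wl = R.Y l := by rw [← R.Y_el, ← map_add, hwl]
    have e1 : R.Q.B v1 μ = R.Q.B v1 (R.Y wl) := by
      have hd : μ + R.Y wl ∈ T := by
        rw [hTdef, R.mem_S, map_add]
        refine eq_of_add0 ?_
        rw [show R.a (R.el c0) μ + R.a (R.el c0) (R.Y wl) + (μ + R.Y wl) =
          (R.a (R.el c0) μ + μ) + (R.a (R.el c0) (R.Y wl) + R.Y wl) by abel, hμ, hμ', add_self0]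
      have := R.S_isotropic hI sign_c0 c2 c1 hv1 hd
      rw [map_add] at this
      exact eq_of_add0 this
    have e2 : R.Q.B v1 (R.Y wl) = R.Q.B (R.Y (R.Y v1)) wl := by
      conv_lhs => rw [← R.Y3 v1]
      exact R.B_a R.y _ _
    have e3 : R.Q.B (R.Y (R.Y v1)) wl = R.Q.B l (R.Y w) := hsymm _ _ _ _ hw2 hwl
    rw [e1, e2, e3, ← map_add] at h'
    -- Y w + w is a lift of v1
    have hd : R.Y w + w + w1 ∈ T := by
      rw [hTdef, R.mem_S, map_add, map_add]
      refine eq_of_add0 ?_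
      rw [show R.a (R.el c0) (R.Y w) + R.a (R.el c0) w + R.a (R.el c0) w1 + (R.Y w + w + w1) =
        (R.a (R.el c0) (R.Y w) + R.Y w) + (R.a (R.el c0) w + w) + (R.a (R.el c0) w1 + w1) by abel,
        hw2, hw, hw1, show R.Y (R.Y v1) + R.Y v1 + v1 = v1 + R.Y v1 + R.Y (R.Y v1) by abel]
      exact R.sum_mem_U (R.U_top hI ▸ Submodule.mem_top)
    have h'' := R.S_isotropic hI sign_c0 c2 c1 hlW.1 hd
    rw [map_add, h', zero_add] at h''
    exact h''
  obtain ⟨w1, hw1⟩ := exw v1 hv1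
  have k1 := key g1 s1 g1c l1 (by rw [hl1, show v1 + (R.a (R.el g1) v1 + v1) = R.a (R.el g1) v1 + (v1 + v1) by abel, add_self0, add_zero]) hl1W
    (fun x hx => mem_fix.mp hx.2) w1 hw1
  have k2 := key g2 s2 g2c l2 (by rw [hl2, show v1 + (R.a (R.el g2) v1 + v1) = R.a (R.el g2) v1 + (v1 + v1) by abel, add_self0, add_zero]) hl2W
    (fun x hx => mem_fix.mp (hW ▸ hx).2) w1 hw1
  have hspan : Submodule.span (ZMod 2) ({l1, l2} : Set V) = W1 := by
    refine Submodule.eq_of_le_of_finrank_le (Submodule.span_le.mpr (by rintro x (rfl | rfl); exacts [hl1W, hl2W])) ?_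
    rw [d1]
    have hli : LinearIndependent (ZMod 2) ![l1, l2] := by
      refine (LinearIndependent.pair_iff' hne1).mpr fun a ha => ?_
      rcases zmod2_cases a with rfl | rfl
      · rw [zero_smul] at ha; exact hne2 ha.symm
      · rw [one_smul] at ha; exact hl ha
    have h := finrank_span_eq_card hli
    rw [Fintype.card_fin, Matrix.range_cons_cons_empty] at h
    rw [h]
  have hall : ∀ x ∈ W1, R.Q.B x w1 = 0 := fun x hx => by
    rw [← hspan, Submodule.mem_span_pair] at hx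
    obtain ⟨i, j, rfl⟩ := hx
    simp [k1, k2]
  -- l1 is then orthogonal to everything
  refine hne1 (R.Q.nondeg l1 fun v => ?_)
  have hm : R.a (R.el c0) v + v ∈ T := by rw [hTdef, ← R.S_eq_mov hI sign_c0 c2 c1]; exact mov_mem _ v
  rw [← hgen] at hm
  obtain ⟨a, ha, b, hb, hab⟩ := Submodule.mem_sup.mp hm
  rw [Submodule.mem_span_pair] at hb
  obtain ⟨i, j, rfl⟩ := hb
  set x := v + i • w1 + j • R.Y w1 with hxdef
  have hx : R.a (R.el c0) x + x ∈ W1 := by
    have e : R.a (R.el c0) x + x = a := by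
      rw [hxdef, map_add, map_add, map_smul, map_smul, ← R.Y_el,
        show R.a (R.el c0) v + i • R.a (R.el c0) w1 + j • R.Y (R.a (R.el c0) w1) + (v + i • w1 + j • R.Y w1) =
          (R.a (R.el c0) v + v) + i • (R.a (R.el c0) w1 + w1) + j • (R.Y (R.a (R.el c0) w1) + R.Y w1) by module,
        ← map_add R.Y, hw1, ← hab, show a + (i • v1 + j • R.Y v1) + i • v1 + j • R.Y v1 =
          a + ((i • v1 + i • v1) + (j • R.Y v1 + j • R.Y v1)) by abel, add_self0, add_self0, add_zero, add_zero]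
    rw [e]; exact ha
  have hxB := hB0 l1 hl1W x hx
  have hY2 : R.Q.B l1 (R.Y w1) = 0 := by
    conv_lhs => rw [← R.Y3 l1]
    rw [R.B_a]
    exact hall _ (hYW _ (hYW _ hl1W))
  rw [hxdef, map_add, map_add, map_smul, map_smul, k1, hY2, smul_zero, smul_zero, add_zero, add_zero] at hxB
  exact hxB

end Rep

end Cfsg.Agent.S3A6Q9
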