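import Cfsg.Agent.Lib.S3A6Q9.WeakCentre

/-
z is weakly closed in Q: `Base.weakly_closed`.  If all neighbours have noncentre image, a suitable
group of order 2^5 normalized by a subgroup of G contains an orbit of length 13.
-/

set_option autoImplicit false
set_option linter.unusedSectionVars false

namespace Cfsg.Agent.S3A6Q9

open Module Equiv Equiv.Perm
open Cfsg.Agent.LargeExtraspecial (conjS mem_conjS)

/-- A group of order 32 has no set of 13 elements permuted transitively by automorphisms. -/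
theorem no_orbit_thirteen {E : Type*} [Group E] [Finite E] (hE : Nat.card E = 32) (A : Subgroup (MulAut E))
    (e0 : E) (h13 : Nat.card (MulAction.orbit A e0) = 13) : False := by
  classical
  haveI : Finite A := inferInstance
  haveI := Fintype.ofFinite A
  haveI := Fintype.ofFinite (MulAction.orbit A e0)
  haveI : Fact (Nat.Prime 13) := ⟨by norm_num⟩
  have hdvd : 13 ∣ Nat.card A := by
    rw [Nat.card_eq_fintype_card, ← MulAction.card_orbit_mul_card_stabilizer_eq_card_group A e0, ← Nat.card_eq_fintype_card,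
      h13]
    exact dvd_mul_right _ _
  obtain ⟨φ, hφ⟩ := exists_prime_orderOf_dvd_card' (G := A) 13 hdvd
  have hP : IsPGroup 13 (Subgroup.zpowers φ) := IsPGroup.of_card (((Nat.card_zpowers φ).trans hφ).trans (pow_one 13).symm)
  have hmod := hP.card_modEq_card_fixedPoints E
  set f : E →* E := ((φ : MulAut E) : E ≃* E).toMonoidHom
  have hset : ∀ e, e ∈ MulAction.fixedPoints (Subgroup.zpowers φ) E ↔ e ∈ MonoidHom.eqLocus f (MonoidHom.id E) := by
    intro e
    constructor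
    · intro h
      exact h ⟨φ, Subgroup.mem_zpowers φ⟩
    · rintro (h : (φ : MulAut E) e = e) ⟨ψ, hψ⟩
      show ψ • e = e
      have hmem : φ ∈ MulAction.stabilizer A e := h
      have hle : Subgroup.zpowers φ ≤ MulAction.stabilizer A e := Subgroup.zpowers_le.mpr hmem
      exact hle hψ
  rw [hE, Nat.card_congr (Equiv.subtypeEquivRight hset : MulAction.fixedPoints (Subgroup.zpowers φ) E ≃ _)] at hmod
  have hd := Subgroup.card_subgroup_dvd_card (MonoidHom.eqLocus f (MonoidHom.id E))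
  rw [hE, show 32 = 2 ^ 5 by norm_num] at hd
  obtain ⟨k, hk, hk'⟩ := (Nat.dvd_prime_pow Nat.prime_two).mp hd
  rw [hk'] at hmod
  interval_cases k <;> first | exact absurd hmod (by decide) | skip
  have htop : MonoidHom.eqLocus f (MonoidHom.id E) = ⊤ := Subgroup.eq_top_of_card_eq _ (by rw [hk', hE]; norm_num)
  have : φ = 1 := by
    apply Subtype.ext
    apply MulEquiv.ext
    intro e
    exact htop.ge (Subgroup.mem_top e)
  rw [this, orderOf_one] at hφ
  norm_num at hφ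

namespace Base

variable {G : Type*} [Group G] {H : Type*} [Group H] {V : Type*} [AddCommGroup V] [Module (ZMod 2) V]
variable {B : Base G H V} [Finite G] [Finite H] [Finite V] {L : Lab}
variable (hI : B.R.TypeI) (hL : B.R.Labelled L)
include hI hL

theorem no_noncentre (hall : ∀ v, B.Nbr v → ¬ B.R.Centre L (B.p v)) {v : G} (n : B.Nbr v) : False := by
  classical
  obtain ⟨h, hh, hS, hnc, hEs⟩ := noncentre_std hI hL n (hall v n)
  obtain ⟨m0, hm0⟩ := B.exists_lift (B.R.el h)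
  obtain ⟨ns, hps⟩ := n.map m0
  set s := (m0 : G) * v * (m0 : G)⁻¹ with hsdef
  have hEs' : B.Eof s = B.R.S c0 := by rw [hsdef, B.Eof_conj n.1, hm0]; exact hEs
  rw [← hm0, ← hps] at hS hnc
  clear_value s
  obtain ⟨hcover, -, hinj⟩ := B.R.noncentre hI hL hS ns.p_ne hnc
  set E : Subgroup G := B.Q ⊓ B.Qof s with hEdef
  have hEcard : Nat.card E = 32 := by
    rw [hEdef, inf_comm, B.card_pimg ns.z_mem, show B.pimg (B.Qof s) = B.R.S c0 from hEs', B.R.finrank_S_c0 hI]
    norm_num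
  have hEmem : ∀ a ∈ B.Q, a ∈ E ↔ B.p a ∈ B.R.S c0 := fun a ha => by
    rw [← hEs', ns.mem_iff ha, hEdef, Subgroup.mem_inf]; exact ⟨fun h => h.2, fun h => ⟨ha, h⟩⟩
  -- elements of M preserving S c0 normalize E
  have hnormM : ∀ m : B.M, (∀ w, w ∈ B.R.S c0 → B.R.a (B.phi m) w ∈ B.R.S c0) →
      ∀ a ∈ E, (m : G) * a * (m : G)⁻¹ ∈ E := by
    intro m hm a ha
    have haQ : a ∈ B.Q := ha.1
    exact (hEmem _ (B.Q_conj m.2 haQ)).mpr (by rw [B.p_conj m a haQ]; exact hm _ ((hEmem a haQ).mp ha))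
  -- an element taking z to s and normalizing E
  obtain ⟨g0, hg0⟩ := id ns.1
  have hn0 : B.Nbr (g0⁻¹ * B.z * g0) := by
    refine ⟨⟨g0⁻¹, by group⟩, ?_, fun e => ns.2.2 ?_⟩
    · have := ns.z_mem; rw [B.Qof_eq hg0, mem_conjS] at this; exact this
    · rw [← hg0]
      calc g0 * B.z * g0⁻¹ = g0 * (g0⁻¹ * B.z * g0) * g0⁻¹ := by rw [e]
        _ = B.z := by group
  obtain ⟨h1, hh1, -, -, hE1⟩ := noncentre_std hI hL hn0 (hall _ hn0)
  obtain ⟨m1, hm1⟩ := B.exists_lift (B.R.el h1)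
  set g := g0 * (m1 : G)⁻¹ with hgdef
  have hg : g * B.z * g⁻¹ = s := by
    calc g * B.z * g⁻¹ = g0 * ((m1 : G)⁻¹ * (B.z * (m1 : G))) * g0⁻¹ := by rw [hgdef]; group
      _ = g0 * ((m1 : G)⁻¹ * ((m1 : G) * B.z)) * g0⁻¹ := by rw [← B.mem_M.mp m1.2]
      _ = s := by rw [inv_mul_cancel_left, hg0]
  have hz1 : g⁻¹ * B.z * g = (m1 : G) * (g0⁻¹ * B.z * g0) * (m1 : G)⁻¹ := by rw [hgdef]; group
  have hgE : ∀ a ∈ E, g * a * g⁻¹ ∈ E := by
    intro a ha
    refine ⟨?_, ?_⟩
    · have h1' : B.Eof (g⁻¹ * B.z * g) = B.R.S c0 := by rw [hz1, B.Eof_conj hn0.1, hm1]; exact hE1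
      have hnz : B.Nbr (g⁻¹ * B.z * g) := hz1 ▸ (hn0.map m1).1
      have h2 : a ∈ B.Qof (g⁻¹ * B.z * g) := (hnz.mem_iff ha.1).mp (h1'.symm ▸ (hEmem a ha.1).mp ha)
      rw [B.Qof_eq (g := g⁻¹) (by group), mem_conjS] at h2
      show g * a * g⁻¹ ∈ B.Q
      simpa only [inv_inv] using h2
    · show g * a * g⁻¹ ∈ B.Qof s
      rw [B.Qof_eq hg, mem_conjS, show g⁻¹ * (g * a * g⁻¹) * g = a by group]
      exact ha.1
  set N := Subgroup.normalizer (E : Set G) with hNdef
  have hmemN : ∀ x, (∀ a ∈ E, x * a * x⁻¹ ∈ E) → x ∈ N := by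
    intro x hx
    rw [hNdef, Subgroup.mem_normalizer_iff]
    intro a
    refine ⟨hx a, fun ha => ?_⟩
    have hf : Function.Bijective fun b : E => (⟨x * b * x⁻¹, hx b b.2⟩ : E) := by
      rw [Finite.injective_iff_bijective.symm]
      intro b c e
      exact Subtype.ext (mul_left_cancel (mul_right_cancel (congrArg Subtype.val e)))
    obtain ⟨b, hb⟩ := hf.2 ⟨_, ha⟩
    have : (b : G) = a := mul_left_cancel (mul_right_cancel (congrArg Subtype.val hb))
    exact this ▸ b.2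
  have hzE : B.z ∈ E := ⟨B.D.z_mem, ns.z_mem⟩
  -- the thirteen conjugates
  let img : Fin 3 × Bool → V := fun p =>
    B.R.a (B.R.y ^ p.1.val) (if p.2 then B.R.a (B.R.el L.ga) (B.p s) else B.p s)
  let hel : Fin 3 × Bool → H := fun p => B.R.y ^ p.1.val * (if p.2 then B.R.el L.ga else 1)
  have hhel : ∀ p, B.R.a (hel p) (B.p s) = img p := by
    rintro ⟨i, b⟩; cases b <;> simp [hel, img, B.R.a_mul, B.R.a_one]
  have hy : ∀ (i : ℕ) w, w ∈ B.R.S c0 → B.R.a (B.R.y ^ i) w ∈ B.R.S c0 := fun i w hw => by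
    rw [B.R.mem_S, B.R.a_comm (B.R.el_comm_ypow i), B.R.mem_S.mp hw]
  have hga : ∀ w, w ∈ B.R.S c0 → B.R.a (B.R.el L.ga) w ∈ B.R.S c0 := fun w hw => by
    have hg' := hL.1.1
    rw [B.R.mem_S, ← B.R.a_el_mul Rep.sign_c0 hg'.sga, ← hg'.gac, B.R.a_el_mul hg'.sga Rep.sign_c0, B.R.mem_S.mp hw]
  have hpres : ∀ p, ∀ w, w ∈ B.R.S c0 → B.R.a (hel p) w ∈ B.R.S c0 := by
    rintro ⟨i, b⟩ w hw
    cases b <;> simp only [hel, B.R.a_mul, if_false, if_true, B.R.a_one, Bool.false_eq_true]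
    · exact hy _ _ hw
    · exact hy _ _ (hga _ hw)
  choose mp hmp using fun p => B.exists_lift (hel p)
  have hNp : ∀ p, (mp p : G) ∈ N := fun p => hmemN _ (hnormM _ (by rw [hmp p]; exact hpres p))
  have hNQ : ∀ q ∈ B.Q, q ∈ N := fun q hq => hmemN _ (hnormM ⟨q, B.Q_le_M hq⟩ fun w hw => by
    rw [B.phi_Q hq, B.R.a_one]; exact hw)
  set A : Subgroup (MulAut E) := (Subgroup.normalizerMonoidHom E).range
  set e0 : E := ⟨B.z, hzE⟩
  let cand : Option ((Fin 3 × Bool) × Bool) → E := fun o => o.elim e0 fun p =>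
    ⟨(mp p.1 : G) * s * (mp p.1 : G)⁻¹ * (if p.2 then B.z else 1), mul_mem
      (hnormM _ (by rw [hmp p.1]; exact hpres p.1) s ⟨ns.2.1, (B.data ns.1).z_mem⟩)
      (by split; exacts [hzE, one_mem _])⟩
  have hsmul : ∀ x (hx : x ∈ N), ((⟨Subgroup.normalizerMonoidHom E ⟨x, hx⟩, ⟨_, rfl⟩⟩ : A) • e0 : E).1 =
      x * B.z * x⁻¹ := fun x hx => rfl
  have horb : ∀ e : E, e ∈ MulAction.orbit A e0 ↔ ∃ o, cand o = e := by
    intro e
    constructor
    · rintro ⟨⟨_, ⟨x, hx⟩, rfl⟩, rfl⟩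
      set w := x * B.z * x⁻¹ with hw
      have hwE : w ∈ E := (((⟨Subgroup.normalizerMonoidHom E ⟨x, hx⟩, ⟨_, rfl⟩⟩ : A) • e0 : E)).2
      by_cases hwz : w = B.z
      · exact ⟨none, Subtype.ext hwz.symm⟩
      have hn : B.Nbr w := ⟨⟨x, rfl⟩, hwE.1, hwz⟩
      have hwS := (hEmem w hwE.1).mp hwE
      rcases hcover _ hwS with h0 | hC | ⟨i, hi, hv⟩
      · exact absurd h0 hn.p_ne
      · exact absurd hC (hall w hn)
      obtain ⟨p, hp⟩ : ∃ p, B.p w = img p := by
        rcases hv with hv | hv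
        · exact ⟨(⟨i, hi⟩, false), hv⟩
        · exact ⟨(⟨i, hi⟩, true), hv⟩
      have hmQ := B.Q_conj (mp p).2 ns.2.1
      rcases B.eq_of_p hwE.1 hmQ (by rw [hp, B.p_conj (mp p) s ns.2.1, hmp p, hhel p]) with e' | e'
      · exact ⟨some (p, false), Subtype.ext (by show _ * (1 : G) = _; rw [mul_one]; exact e'.symm)⟩
      · exact ⟨some (p, true), Subtype.ext e'.symm⟩
    · rintro ⟨o, rfl⟩
      obtain ⟨x, hx, he⟩ : ∃ x ∈ N, x * B.z * x⁻¹ = (cand o : G) := by
        rcases o with _ | ⟨p, b⟩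
        · exact ⟨1, one_mem _, by show 1 * B.z * 1⁻¹ = B.z; group⟩
        · have hg' : g ∈ N := hmemN g hgE
          cases b
          · refine ⟨mp p * g, mul_mem (hNp p) hg', ?_⟩
            show _ = (mp p : G) * s * (mp p : G)⁻¹ * 1
            rw [← hg]; group
          · obtain ⟨q, hq, hqe⟩ := B.conj_of_p (Conj.conj B ns.1 (mp p : G)) (B.Q_conj (mp p).2 ns.2.1)
              (ns.map (mp p)).1.2.2 (mul_mem (B.Q_conj (mp p).2 ns.2.1) B.D.z_mem) (B.p_mul_z (B.Q_conj (mp p).2 ns.2.1))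
            refine ⟨q * (mp p * g), mul_mem (hNQ q hq) (mul_mem (hNp p) hg'), ?_⟩
            show _ = (mp p : G) * s * (mp p : G)⁻¹ * B.z
            rw [← hqe, ← hg]; group
      exact ⟨⟨Subgroup.normalizerMonoidHom E ⟨x, hx⟩, ⟨_, rfl⟩⟩, Subtype.ext (by rw [← he]; rfl)⟩
  have hcandinj : Function.Injective cand := by
    have hp : ∀ p b, B.p ((cand (some (p, b)) : E) : G) = img p := by
      intro p b
      have h1 : B.p ((mp p : G) * s * (mp p : G)⁻¹) = img p := by rw [B.p_conj (mp p) s ns.2.1, hmp p, hhel p]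
      cases b
      · show B.p (_ * 1) = _; rw [mul_one]; exact h1
      · show B.p (_ * B.z) = _; rw [B.p_mul_z (B.Q_conj (mp p).2 ns.2.1)]; exact h1
    have himg0 : ∀ p, img p ≠ 0 := fun p e => by
      rw [← hhel p] at e; exact ns.p_ne ((B.R.a _).map_eq_zero_iff.mp e)
    rintro (_ | ⟨p, b⟩) (_ | ⟨q, c⟩) e
    · rfl
    · exfalso; apply himg0 q; rw [← hp q c, ← e]; exact B.p_z
    · exfalso; apply himg0 p; rw [← hp p b, e]; exact B.p_z
    · have hpq : p = q := hinj (show img p = img q by rw [← hp p b, ← hp q c, e])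
      subst hpq
      cases b <;> cases c
      · rfl
      · exact absurd (mul_left_cancel (congrArg Subtype.val e)) B.D.z_ne.symm
      · exact absurd (mul_left_cancel (congrArg Subtype.val e)) B.D.z_ne
      · rfl
  refine no_orbit_thirteen hEcard A e0 ?_
  have heq : MulAction.orbit A e0 = Set.range cand := Set.ext horb
  rw [heq, Nat.card_congr (Equiv.ofInjective cand hcandinj).symm]
  simp [Nat.card_eq_fintype_card]

omit hI hL in
/-- z is weakly closed in Q. -/
theorem weakly_closed {v : G} (hv : B.Conj v) (hQ : v ∈ B.Q) : v = B.z := by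
  by_contra hne
  have n : B.Nbr v := ⟨hv, hQ, hne⟩
  rcases B.R.typeI_or_typeII with hI | hII
  · obtain ⟨L, hL⟩ := B.R.exists_lab hI
    exact no_noncentre hI hL (fun w hw hc => no_centre hI hL hw hc) n
  · exact n.data.false_typeII hII

end Base

end Cfsg.Agent.S3A6Q9
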