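import Cfsg.Agent.Lib.S3A6Q9.WeakLocal

/-
An involution acting on V as the element of order 2 of S3 with fixed space S cannot be conjugate
to z when its group meets Q in a complement of Z(Q).
-/

set_option autoImplicit false
set_option linter.unusedSectionVars false

open scoped commutatorElement

namespace Cfsg.Agent.S3A6Q9

open Module Equiv Equiv.Perm

namespace Base

variable {G : Type*} [Group G] {H : Type*} [Group H] {V : Type*} [AddCommGroup V] [Module (ZMod 2) V]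
variable {B : Base G H V} [Finite G] [Finite H] [Finite V] {L : Lab} {a0 : V} {S : Submodule (ZMod 2) V}

/-- An even permutation has a lift centralizing such an involution. -/
theorem exists_lift_centralizing {u : B.M} (hu2 : (u : G) * u = 1) (hr : B.R.rho (B.phi u) = 1)
    (hmov : ∀ w, B.R.a (B.phi u) w = w → ∃ v, B.R.a (B.phi u) v + v = w) {σ : S6} (hσ : sign σ = 1) :
    ∃ m : B.M, B.phi m = B.R.el σ ∧ m * u * m⁻¹ = u := by
  have hu2' : u * u = 1 := Subtype.ext hu2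
  set x := B.phi u with hx
  have three : ∀ τ : S6, sign τ = 1 → τ ^ 3 = 1 → ∃ m : B.M, B.phi m = B.R.el τ ∧ m * u * m⁻¹ = u := by
    intro τ hτ h3
    obtain ⟨m, hm⟩ := B.exists_lift (B.R.el τ)
    set a1 := u * (m * u * m⁻¹) with ha1
    have hphi : B.phi a1 = 1 := by
      rw [ha1, map_mul, map_mul, map_mul, map_inv, hm, ← hx,
        show B.R.el τ * x * (B.R.el τ)⁻¹ = x by rw [← B.R.comm_el hr hτ, mul_inv_cancel_right], hx, ← map_mul,
        hu2', map_one]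
    have ha1Q : (a1 : G) ∈ B.Q := (B.phi_ker a1).mp hphi
    have hinvo : u * a1 * u⁻¹ = a1⁻¹ := by
      rw [ha1, inv_eq_of_mul_eq_one_right hu2']
      calc u * (u * (m * u * m⁻¹)) * u = (u * u) * (m * u * m⁻¹) * u := by group
        _ = (m * u⁻¹ * m⁻¹) * u⁻¹ := by rw [hu2', one_mul, inv_eq_of_mul_eq_one_right hu2']
        _ = (u * (m * u * m⁻¹))⁻¹ := by group
    have hfix : B.R.a x (B.p a1) = B.p a1 := by
      rw [hx, ← B.p_conj u a1 ha1Q]
      have h := congrArg Subtype.val hinvo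
      simp only [Subgroup.coe_mul, InvMemClass.coe_inv] at h
      rw [h, B.p_inv ha1Q]
    obtain ⟨v, hv⟩ := hmov _ hfix
    obtain ⟨q, hq, rfl⟩ := B.p_surj v
    set q' : B.M := ⟨q, B.Q_le_M hq⟩
    have hk : B.p ((u * q' * u⁻¹ * q'⁻¹ : B.M) : G) = B.p a1 := by
      show B.p ((u : G) * q * (u : G)⁻¹ * q⁻¹) = _
      rw [B.p_mul _ (B.Q_conj u.2 hq) _ (inv_mem hq), B.p_conj u q hq, B.p_inv hq, hv]
    set m' := q'⁻¹ * m with hm'
    have hm'phi : B.phi m' = B.R.el τ := by rw [hm', map_mul, map_inv, B.phi_Q hq, inv_one, one_mul, hm]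
    have hqconj : q' * u * q'⁻¹ = u * (u * q' * u⁻¹ * q'⁻¹) := by
      rw [inv_eq_of_mul_eq_one_right hu2']; calc q' * u * q'⁻¹ = (u * u) * (q' * u * q'⁻¹) := by rw [hu2', one_mul]
        _ = _ := by group
    have hmconj : m * u * m⁻¹ = u * a1 := by rw [ha1, ← mul_assoc, hu2', one_mul]
    set z' : B.M := ⟨B.z, B.Q_le_M B.D.z_mem⟩
    have hzc : ∀ w : B.M, z' * w = w * z' := fun w => Subtype.ext (B.mem_M.mp w.2).symm
    have hz2 : z' * z' = 1 := Subtype.ext B.D.z_sq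
    have hcase : m' * u * m'⁻¹ = u ∨ m' * u * m'⁻¹ = u * z' := by
      have e1 : m' * u * m'⁻¹ = q'⁻¹ * (m * u * m⁻¹) * q' := by rw [hm']; group
      rcases B.eq_of_p ha1Q (mul_mem (B.Q_conj u.2 hq) (inv_mem hq)) hk.symm with e | e
      · left
        have e' : a1 = u * q' * u⁻¹ * q'⁻¹ := Subtype.ext e
        rw [e1, hmconj, e', ← hqconj]; group
      · right
        have e' : a1 = u * q' * u⁻¹ * q'⁻¹ * z' := Subtype.ext e
        rw [e1, hmconj, e', ← mul_assoc u, ← hqconj,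
          show q'⁻¹ * (q' * u * q'⁻¹ * z') * q' = u * (q'⁻¹ * z') * q' by group, ← hzc q'⁻¹]
        group
    have h2 : (m' * m') * u * (m' * m')⁻¹ = u := by
      rcases hcase with e | e
      · calc m' * m' * u * (m' * m')⁻¹ = m' * (m' * u * m'⁻¹) * m'⁻¹ := by group
          _ = u := by rw [e, e]
      · calc m' * m' * u * (m' * m')⁻¹ = m' * (m' * u * m'⁻¹) * m'⁻¹ := by group
          _ = (m' * u) * (z' * m'⁻¹) := by rw [e]; group
          _ = m' * u * m'⁻¹ * z' := by rw [hzc]; group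
          _ = u := by rw [e, mul_assoc, hz2, mul_one]
    refine ⟨m' * m' * (m' * m'), ?_, ?_⟩
    · rw [map_mul, map_mul, hm'phi, ← B.R.el_mul hτ hτ, ← B.R.el_mul (by rw [map_mul, hτ, one_mul]) (by rw [map_mul, hτ, one_mul])]
      congr 1
      calc τ * τ * (τ * τ) = τ ^ 3 * τ := by simp [pow_succ, mul_assoc]
        _ = τ := by rw [h3, one_mul]
    · calc m' * m' * (m' * m') * u * (m' * m' * (m' * m'))⁻¹ =
          (m' * m') * ((m' * m') * u * (m' * m')⁻¹) * (m' * m')⁻¹ := by group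
        _ = u := by rw [h2, h2]
  have hmem : σ ∈ Subgroup.closure {τ : S6 | τ.IsThreeCycle} := by
    rw [closure_three_cycles_eq_alternating]; exact mem_alternatingGroup.mpr hσ
  suffices hh : sign σ = 1 ∧ ∃ m : B.M, B.phi m = B.R.el σ ∧ m * u * m⁻¹ = u from hh.2
  clear hσ
  induction hmem using Subgroup.closure_induction with
  | mem τ hτ =>
    refine ⟨IsThreeCycle.sign hτ, three τ (IsThreeCycle.sign hτ) ?_⟩
    rw [← IsThreeCycle.orderOf hτ]; exact pow_orderOf_eq_one τ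
  | one => exact ⟨map_one _, 1, by rw [map_one, B.R.el_one], by simp⟩
  | mul a b _ _ ha hb =>
    obtain ⟨hsa, m, hm, hm'⟩ := ha
    obtain ⟨hsb, n, hn, hn'⟩ := hb
    refine ⟨by rw [map_mul, hsa, hsb, one_mul], m * n, by rw [map_mul, hm, hn, B.R.el_mul hsa hsb], ?_⟩
    calc m * n * u * (m * n)⁻¹ = m * (n * u * n⁻¹) * m⁻¹ := by group
      _ = u := by rw [hn', hm']
  | inv a _ ha =>
    obtain ⟨hsa, m, hm, hm'⟩ := ha
    refine ⟨by rw [map_inv, hsa, inv_one], m⁻¹, by rw [map_inv, hm, B.R.el_inv hsa], ?_⟩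
    calc m⁻¹ * u * m⁻¹⁻¹ = m⁻¹ * (m * u * m⁻¹) * m := by rw [hm', inv_inv]
      _ = u := by group

theorem case_two (F : B.R.Frame L a0 S) {u : B.M} (hu : B.Conj (u : G))
    (hr : B.R.rho (B.phi u) = 1) (hfix : ∀ v, B.R.a (B.phi u) v = v ↔ v ∈ S)
    (hcomm : ∀ a ∈ B.Q, B.p a ∈ S → a * (u : G) = (u : G) * a) {z1 : G} (hz1Q : z1 ∈ B.Q)
    (hz1S : B.p z1 ∈ S) (hz1ne : B.p z1 ≠ 0) (hz1D : z1 ∈ B.Qof (u : G)) (hzD : B.z ∉ B.Qof (u : G)) : False := by
  set x := B.phi u with hx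
  have hu2 : (u : G) * u = 1 := hu.sq
  have hx2 : ∀ v, B.R.a x (B.R.a x v) = v := fun v => by
    rw [← B.R.a_mul, hx, ← map_mul, show u * u = 1 from Subtype.ext hu2, map_one, B.R.a_one]
  have hFix : Fix (B.R.a x) = S := by ext v; rw [mem_fix]; exact hfix v
  have hMov : Mov (B.R.a x) = S := by
    have h := finrank_fix_mov (B.R.a x)
    rw [hFix, F.dim, B.R.dim] at h
    exact Submodule.eq_of_le_of_finrank_le ((mov_le_fix hx2).trans hFix.le) (by rw [F.dim]; omega)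
  have hmov : ∀ w, B.R.a x w = w → ∃ v, B.R.a x v + v = w := fun w hw =>
    mem_mov.mp (hMov.symm ▸ (hfix w).mp hw)
  -- the lifts
  have hlift : ∀ w ∈ S, ∀ w' ∈ S, w ≠ 0 → w' ≠ 0 → ∃ m : B.M, B.R.a (B.phi m) w = w' ∧ m * u * m⁻¹ = u := by
    intro w hw w' hw' h0 h0'
    obtain ⟨σ1, hσ1, e1⟩ := F.trans w hw h0
    obtain ⟨σ2, hσ2, e2⟩ := F.trans w' hw' h0'
    have hs : sign (σ2 * σ1⁻¹) = 1 := by rw [map_mul, map_inv, hσ1, hσ2]; decide
    obtain ⟨m, hm, hm'⟩ := exists_lift_centralizing hu2 hr hmov hs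
    refine ⟨m, ?_, hm'⟩
    rw [hm, ← e1, ← B.R.a_el_mul hs hσ1, inv_mul_cancel_right, e2]
  have hinvD : ∀ m : B.M, m * u * m⁻¹ = u → ∀ a, (m : G) * a * (m : G)⁻¹ ∈ B.Qof (u : G) ↔ a ∈ B.Qof (u : G) := by
    intro m hm a
    have h := B.mem_Qof_conj hu (x := (m : G)) (a := a)
    have e : (m : G) * (u : G) * (m : G)⁻¹ = (u : G) := congrArg Subtype.val hm
    rwa [e] at h
  have hzc : ∀ a ∈ B.Q, B.z * a = a * B.z := fun a ha => (B.D.z_central a ha).symm
  have huniq : ∀ a, a ∈ B.Qof (u : G) → a * B.z ∉ B.Qof (u : G) := fun a ha ha' =>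
    hzD ((Subgroup.mul_mem_cancel_left _ ha).mp ha')
  -- every vector of S lifts to the group of u
  have hcover : ∀ a ∈ B.Q, B.p a ∈ S → a ∉ B.Qof (u : G) → a * B.z ∈ B.Qof (u : G) := by
    intro a ha haS hnot
    by_cases h0 : B.p a = 0
    · rcases (B.p_zero a ha).mp h0 with rfl | rfl
      · exact absurd (one_mem _) hnot
      · rw [B.D.z_sq]; exact one_mem _
    obtain ⟨m, hm, hm'⟩ := hlift _ hz1S _ haS hz1ne h0
    have hd := (hinvD m hm' z1).mpr hz1D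
    have hp : B.p a = B.p ((m : G) * z1 * (m : G)⁻¹) := by rw [B.p_conj m z1 hz1Q, hm]
    rcases B.eq_of_p ha (B.Q_conj m.2 hz1Q) hp with e | e
    · exact absurd (e ▸ hd) hnot
    · rw [e, mul_assoc, B.D.z_sq, mul_one]; exact hd
  -- the commutators with u
  set K : G → G := fun q => (u : G) * q * (u : G) * q⁻¹ with hK
  have huinv : (u : G)⁻¹ = (u : G) := inv_eq_of_mul_eq_one_right hu2
  have hKQ : ∀ q ∈ B.Q, K q ∈ B.Q := fun q hq => mul_mem (by
    have := B.Q_conj u.2 hq; rwa [huinv] at this) (inv_mem hq)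
  have hKp : ∀ q ∈ B.Q, B.p (K q) = B.R.a x (B.p q) + B.p q := fun q hq => by
    have e : K q = (u : G) * q * (u : G)⁻¹ * q⁻¹ := by simp only [hK, huinv]
    rw [e, B.p_mul _ (B.Q_conj u.2 hq) _ (inv_mem hq), B.p_conj u q hq, B.p_inv hq]
  have hKS : ∀ q ∈ B.Q, B.p (K q) ∈ S := fun q hq => by rw [hKp q hq, ← hMov]; exact mov_mem _ _
  have hwd : ∀ q ∈ B.Q, ∀ q' ∈ B.Q, B.p (K q) = B.p (K q') → K q = K q' := by
    intro q hq q' hq' e
    rw [hKp q hq, hKp q' hq'] at e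
    have hin : B.p (q⁻¹ * q') ∈ S := (hfix _).mp (by
      rw [B.p_mul _ (inv_mem hq) _ hq', B.p_inv hq, map_add]
      refine eq_of_add0 ?_
      rw [show B.R.a x (B.p q) + B.R.a x (B.p q') + (B.p q + B.p q') =
        (B.R.a x (B.p q) + B.p q) + (B.R.a x (B.p q') + B.p q') by abel, e, add_self0])
    have hc := hcomm _ (mul_mem (inv_mem hq) hq') hin
    calc K q = (u : G) * q * ((u : G) * (q⁻¹ * q')) * q'⁻¹ := by simp only [hK]; group
      _ = (u : G) * q * (q⁻¹ * q' * (u : G)) * q'⁻¹ := by rw [hc]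
      _ = K q' := by simp only [hK]; group
  have hKmap : ∀ m : B.M, m * u * m⁻¹ = u → ∀ q, K ((m : G) * q * (m : G)⁻¹) = (m : G) * K q * (m : G)⁻¹ := by
    intro m hm q
    have e : (m : G) * (u : G) * (m : G)⁻¹ = (u : G) := congrArg Subtype.val hm
    conv_lhs => simp only [hK]; rw [← e]
    simp only [hK]; group
  have hsame : ∀ q ∈ B.Q, ∀ q' ∈ B.Q, B.p (K q) ≠ 0 → B.p (K q') ≠ 0 →
      K q ∈ B.Qof (u : G) → K q' ∈ B.Qof (u : G) := by
    intro q hq q' hq' h0 h0' hD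
    obtain ⟨m, hm, hm'⟩ := hlift _ (hKS q hq) _ (hKS q' hq') h0 h0'
    have e := hwd _ (B.Q_conj m.2 hq) _ hq' (by rw [hKmap m hm', B.p_conj m _ (hKQ q hq), hm])
    rw [← e, hKmap m hm']
    exact (hinvD m hm' _).mpr hD
  have hKmul : ∀ q1 q2, K (q1 * q2) = K q1 * (q1 * K q2 * q1⁻¹) := fun q1 q2 => by
    calc K (q1 * q2) = (u : G) * q1 * ((u : G) * (u : G)) * q2 * (u : G) * (q2⁻¹ * q1⁻¹) := by
          rw [hu2]; simp only [hK, mul_one, mul_inv_rev]; group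
      _ = _ := by simp only [hK]; group
  have hconj : ∀ q1 ∈ B.Q, ∀ q2 ∈ B.Q,
      (B.R.Q.B (B.p q1) (B.p (K q2)) = 0 ∧ q1 * K q2 * q1⁻¹ = K q2) ∨
      (B.R.Q.B (B.p q1) (B.p (K q2)) = 1 ∧ q1 * K q2 * q1⁻¹ = K q2 * B.z) := by
    intro q1 h1 q2 h2
    rcases zmod2_cases (B.R.Q.B (B.p q1) (B.p (K q2))) with e | e
    · exact Or.inl ⟨e, by rw [(B.p_comm q1 h1 _ (hKQ q2 h2)).mpr e, mul_inv_cancel_right]⟩
    · refine Or.inr ⟨e, ?_⟩
      have hne : q1 * K q2 * q1⁻¹ ≠ K q2 := fun h => by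
        rw [(B.p_comm q1 h1 _ (hKQ q2 h2)).mp (mul_inv_eq_iff_eq_mul.mp h)] at e
        exact zero_ne_one e
      have e1 : q1 * K q2 * q1⁻¹ = ⁅q1, K q2⁆ * K q2 := by rw [commutatorElement_def]; group
      rcases B.D.comm q1 h1 _ (hKQ q2 h2) with h | h
      · rw [h, one_mul] at e1; exact absurd e1 hne
      · rw [e1, h, hzc _ (hKQ q2 h2)]
  by_cases hall : ∃ q ∈ B.Q, B.p (K q) ≠ 0 ∧ K q ∈ B.Qof (u : G)
  · obtain ⟨q0, hq0, h00, hD0⟩ := hall
    have hD : ∀ q ∈ B.Q, K q ∈ B.Qof (u : G) := by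
      intro q hq
      by_cases h : B.p (K q) = 0
      · have h1 : K 1 = 1 := by simp only [hK, mul_one, inv_one, hu2]
        rw [hwd q hq 1 (one_mem _) (by rw [h, h1, B.p_one]), h1]
        exact one_mem _
      · exact hsame q0 hq0 q hq h00 h hD0
    refine hz1ne (B.R.Q.nondeg _ fun v => ?_)
    obtain ⟨q1, hq1, rfl⟩ := B.p_surj v
    obtain ⟨w, hw⟩ := hmov _ ((hfix _).mpr hz1S)
    obtain ⟨q2, hq2, rfl⟩ := B.p_surj w
    rw [← hw, ← hKp q2 hq2, B.R.Q.comm]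
    rcases hconj q1 hq1 q2 hq2 with ⟨e, -⟩ | ⟨-, e⟩
    · exact e
    · exfalso
      have h := hD _ (mul_mem hq1 hq2)
      rw [hKmul, e, Subgroup.mul_mem_cancel_left _ (hD q1 hq1)] at h
      exact huniq _ (hD q2 hq2) h
  push Not at hall
  have hone : ∀ q1 ∈ B.Q, ∀ q2 ∈ B.Q, B.p (K q1) ≠ 0 → B.p (K q2) ≠ 0 → B.p (K q1) ≠ B.p (K q2) →
      B.R.Q.B (B.p q1) (B.p (K q2)) = 1 := by
    intro q1 h1 q2 h2 n1 n2 n12
    rcases hconj q1 h1 q2 h2 with ⟨-, e⟩ | ⟨e, -⟩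
    · exfalso
      have hp : B.p (K (q1 * q2)) ≠ 0 := by
        rw [hKmul, e, B.p_mul _ (hKQ q1 h1) _ (hKQ q2 h2)]
        exact fun h => n12 (eq_of_add0 h)
      apply hall _ (mul_mem h1 h2) hp
      have a1 := hcover _ (hKQ q1 h1) (hKS q1 h1) (hall q1 h1 n1)
      have a2 := hcover _ (hKQ q2 h2) (hKS q2 h2) (hall q2 h2 n2)
      rw [hKmul, e]
      have e' : K q1 * K q2 = (K q1 * B.z) * (K q2 * B.z) := by
        calc K q1 * K q2 = K q1 * (B.z * B.z) * K q2 := by rw [B.D.z_sq, mul_one]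
          _ = (K q1 * B.z) * (B.z * K q2) := by group
          _ = _ := by rw [hzc _ (hKQ q2 h2)]
      rw [e']
      exact mul_mem a1 a2
    · exact e
  -- three vectors
  obtain ⟨w1, hw1⟩ := hmov _ ((hfix _).mpr hz1S)
  obtain ⟨q1, hq1, rfl⟩ := B.p_surj w1
  set W := Submodule.span (ZMod 2) ({B.p z1} : Set V) with hWdef
  have hWlt : ¬ S ≤ W := fun h => by
    have := Submodule.finrank_mono h
    rw [F.dim, finrank_span_singleton hz1ne] at this; omega
  obtain ⟨w2, hw2S, hw2⟩ := SetLike.not_le_iff_exists.mp hWlt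
  have hW2lt : ¬ S ≤ Submodule.span (ZMod 2) {B.p z1, w2} := fun h => by
    have := (Submodule.finrank_mono h).trans (finrank_span_pair_le _ _)
    rw [F.dim] at this; omega
  obtain ⟨w3, hw3S, hw3⟩ := SetLike.not_le_iff_exists.mp hW2lt
  have n2 : w2 ≠ 0 := fun h => hw2 (h ▸ zero_mem _)
  have n12 : B.p z1 ≠ w2 := fun h => hw2 (h ▸ Submodule.mem_span_singleton_self _)
  have n3 : w3 ≠ 0 := fun h => hw3 (h ▸ zero_mem _)
  have n13 : B.p z1 ≠ w3 := fun h => hw3 (h ▸ Submodule.subset_span (by simp))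
  have n23 : w2 + w3 ≠ 0 := fun h => hw3 (eq_of_add0 h ▸ Submodule.subset_span (by simp))
  have n123 : B.p z1 ≠ w2 + w3 := fun h => hw3 (by
    rw [show w3 = B.p z1 + w2 by rw [h, add_comm, ← add_assoc, add_self0, zero_add]]
    exact add_mem (Submodule.subset_span (by simp)) (Submodule.subset_span (by simp)))
  have get : ∀ w ∈ S, w ≠ 0 → B.p z1 ≠ w → B.R.Q.B (B.p q1) w = 1 := by
    intro w hw h0 h1
    obtain ⟨v, hv⟩ := hmov _ ((hfix _).mpr hw)
    obtain ⟨q2, hq2, rfl⟩ := B.p_surj v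
    have := hone q1 hq1 q2 hq2 (by rwa [hKp q1 hq1, hw1]) (by rwa [hKp q2 hq2, hv]) (by rwa [hKp q1 hq1, hw1, hKp q2 hq2, hv])
    rwa [hKp q2 hq2, hv] at this
  have h := get _ (add_mem hw2S hw3S) n23 n123
  rw [map_add, get w2 hw2S n2 n12, get w3 hw3S n3 n13] at h
  exact absurd h (by decide)

end Base

end Cfsg.Agent.S3A6Q9
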