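import Cfsg.Agent.Lib.S3A6Q9.WeakCase

/-
No conjugate of z in Q other than z has centre image.
-/

set_option autoImplicit false
set_option linter.unusedSectionVars false

open scoped commutatorElement

namespace Cfsg.Agent.S3A6Q9

open Module Equiv Equiv.Perm
open Cfsg.Agent.LargeExtraspecial (conjS mem_conjS)

namespace Base

variable {G : Type*} [Group G] {H : Type*} [Group H] {V : Type*} [AddCommGroup V] [Module (ZMod 2) V]
variable (B : Base G H V)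

/-- Three neighbours with images a, b, e in S, where b(a,b) = 1 and e is orthogonal to a and b. -/
structure Triple (S : Submodule (ZMod 2) V) (s u c : G) : Prop where
  ns : B.Nbr s
  nu : B.Nbr u
  nc : B.Nbr c
  sS : B.p s ∈ S
  uS : B.p u ∈ S
  cS : B.p c ∈ S
  hsu : B.R.bs (B.p s) (B.p u) = 1
  hcs : B.R.bs (B.p c) (B.p s) = 0
  hcu : B.R.bs (B.p c) (B.p u) = 0

variable [Finite G] [Finite H] [Finite V] {B} {L : Lab} {a0 : V} {S : Submodule (ZMod 2) V}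
variable (hI : B.R.TypeI) (hL : B.R.Labelled L) (F : B.R.Frame L a0 S)
include hI hL F

theorem Triple.swap {s u c : G} (T : B.Triple S s u c) : B.Triple S u s c :=
  ⟨T.nu, T.ns, T.nc, T.uS, T.sS, T.cS, by rw [Rep.Frame.bs_symm hI hL F T.uS T.sS]; exact T.hsu, T.hcu, T.hcs⟩

/-- Seen from s, the element u is an involution of one of two kinds. -/
theorem Triple.pair {s u c : G} (T : B.Triple S s u c) :
    ∃ g : G, g * B.z * g⁻¹ = s ∧ ∃ u1 : B.M, (u1 : G) = g⁻¹ * u * g ∧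
      ((B.R.pi (B.phi u1) = 1 ∧ sign (B.R.rho (B.phi u1)) = -1 ∧
          ∃ a ∈ B.Q, ∃ b ∈ B.Q, a * (u1 : G) = (u1 : G) * a ∧ b * (u1 : G) = (u1 : G) * b ∧ a * b ≠ b * a) ∨
       (B.R.pi (B.phi u1) ≠ 1 ∧ B.R.rho (B.phi u1) = 1 ∧ (∀ v, B.R.a (B.phi u1) v = v ↔ v ∈ S) ∧
          (∀ a ∈ B.Q, B.p a ∈ S → a * (u1 : G) = (u1 : G) * a) ∧
          ∃ z1 ∈ B.Q, B.p z1 ∈ S ∧ B.p z1 ≠ 0 ∧ z1 ∈ B.Qof (u1 : G) ∧ B.z ∉ B.Qof (u1 : G))) := by
  obtain ⟨ns, nu, nc, hsS, huS, hcS, hsu, hcs, hcu⟩ := T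
  have hus : B.R.bs (B.p u) (B.p s) = 1 := by rw [Rep.Frame.bs_symm hI hL F huS hsS]; exact hsu
  have hDs := ns.data
  have hcP : c ∈ B.Qof s := (ns.mem_iff nc.2.1).mp
    ((Rep.Frame.space hI hL F hsS hDs).mpr ⟨B.p c, hcS, hcs, Or.inl rfl⟩)
  have hu_ne_s : u ≠ s := fun e => by
    rw [e, Rep.Frame.bs_self hI hL F hsS] at hsu; exact zero_ne_one hsu
  have huP : u ∉ B.Qof s := by
    intro h
    obtain ⟨w, hw, hwb, e | e⟩ := (Rep.Frame.space hI hL F hsS hDs).mp ((ns.mem_iff nu.2.1).mpr h)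
    · rw [← e, hus] at hwb; exact one_ne_zero hwb
    · exact ns.p_ne (Rep.Frame.unique hI hL F huS (zero_mem _) hw hsS (by rw [map_zero, add_zero]; exact e)).2.symm
  have hsQu : s ∉ B.Qof u := fun h => huP (B.symm ns.1 nu.1 h hu_ne_s.symm)
  have huc : u ∈ B.Qof c := by
    refine (nc.mem_iff nu.2.1).mp ((Rep.Frame.space hI hL F hcS nc.data).mpr ⟨B.p u, huS, ?_, Or.inl rfl⟩)
    rw [Rep.Frame.bs_symm hI hL F huS hcS]; exact hcu
  have hus_comm : u * s = s * u := (B.p_comm u nu.2.1 s ns.2.1).mpr (F.iso _ huS _ hsS)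
  -- every element over S is a neighbour
  have hnbrS : ∀ a ∈ B.Q, B.p a ∈ S → B.p a ≠ 0 → B.Nbr a := by
    intro a ha haS h0
    obtain ⟨σ1, hσ1, e1⟩ := F.trans _ hsS ns.p_ne
    obtain ⟨σ2, hσ2, e2⟩ := F.trans _ haS h0
    have hinv : sign σ1⁻¹ = 1 := by rw [map_inv, hσ1, inv_one]
    refine ns.of_a ha (h := B.R.el σ2 * (B.R.el σ1)⁻¹) ?_
    rw [← B.R.el_inv hσ1, B.R.a_mul, ← e1, ← B.R.a_el_mul hinv hσ1, inv_mul_cancel, B.R.a_el_one, e2]
  set W := S ⊓ B.R.Q.perp (Submodule.span (ZMod 2) {B.R.Y (B.p s)}) with hW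
  have hW3 : finrank (ZMod 2) W = 3 := Rep.Frame.finrank_hyp hI hL F hsS ns.p_ne
  set F0 : Subgroup G := B.Q ⊓ B.Qof s ⊓ Subgroup.centralizer {u} with hF0
  have memF0 : ∀ a, a ∈ F0 ↔ (a ∈ B.Q ∧ a ∈ B.Qof s) ∧ a * u = u * a := fun a => by
    rw [hF0, Subgroup.mem_inf, Subgroup.mem_inf, Subgroup.mem_centralizer_singleton_iff]
  have hzF0 : B.z ∈ F0 := (memF0 _).mpr ⟨⟨B.D.z_mem, ns.z_mem⟩, (B.D.z_central u nu.2.1).symm⟩
  have hsF0 : s ∈ F0 := (memF0 _).mpr ⟨⟨ns.2.1, (B.data ns.1).z_mem⟩, hus_comm.symm⟩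
  have hcF0 : c ∈ F0 := (memF0 _).mpr ⟨⟨nc.2.1, hcP⟩, (B.p_comm c nc.2.1 u nu.2.1).mpr (F.iso _ hcS _ huS)⟩
  have hpF0 : B.pimg F0 = W := by
    ext v
    constructor
    · rintro ⟨a, ha, -, rfl⟩
      obtain ⟨⟨haQ, haP⟩, hau⟩ := (memF0 a).mp ha
      obtain ⟨w, hw, hwb, e | e⟩ := (Rep.Frame.space hI hL F hsS hDs).mp ((ns.mem_iff haQ).mpr haP)
      · rw [e]; exact (Rep.Frame.mem_hyp hI hL F).mpr ⟨hw, hwb⟩
      · exfalso
        have h := (B.p_comm a haQ u nu.2.1).mp hau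
        rw [e, map_add, LinearMap.add_apply, F.iso w hw _ huS, zero_add, B.R.Q.comm] at h
        change B.R.bs (B.p u) (B.p s) = 0 at h
        rw [hus] at h; exact one_ne_zero h
    · intro hv
      obtain ⟨hvS, hvb⟩ := (Rep.Frame.mem_hyp hI hL F).mp hv
      obtain ⟨a, ha, rfl⟩ := B.p_surj v
      exact ⟨a, (memF0 a).mpr ⟨⟨ha, (ns.mem_iff ha).mp
        ((Rep.Frame.space hI hL F hsS hDs).mpr ⟨_, hvS, hvb, Or.inl rfl⟩)⟩,
        (B.p_comm a ha u nu.2.1).mpr (F.iso _ hvS _ huS)⟩, ha, rfl⟩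
  -- transport to s
  have key : ∀ g : G, g * B.z * g⁻¹ = s →
      B.Nbr (g⁻¹ * B.z * g) ∧ ∃ X : Submodule (ZMod 2) V, finrank (ZMod 2) X = 3 ∧ X ≤ B.Eof (g⁻¹ * B.z * g) ∧
        (∀ v ∈ X, v ≠ 0 → ∃ a ∈ F0, B.p (g⁻¹ * a * g) = v ∧ B.Nbr (g⁻¹ * a * g) ∧ g⁻¹ * a * g ∈ B.Qof (g⁻¹ * B.z * g)) ∧
        (∀ a ∈ F0, g⁻¹ * a * g ∈ B.Q ∧ B.p (g⁻¹ * a * g) ∈ X) := by
    intro g hg
    have hP : B.Qof s = conjS g B.Q := B.Qof_eq hg
    have hQ' : B.Qof (g⁻¹ * B.z * g) = conjS g⁻¹ B.Q := B.Qof_eq (g := g⁻¹) (by group)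
    have hz1 : g⁻¹ * B.z * g ∈ B.Q := by
      have := ns.z_mem; rw [hP, mem_conjS] at this; exact this
    have hz1ne : g⁻¹ * B.z * g ≠ B.z := fun e => ns.2.2 (by
      rw [← hg]
      calc g * B.z * g⁻¹ = g * (g⁻¹ * B.z * g) * g⁻¹ := by rw [e]
        _ = B.z := by group)
    have hn1 : B.Nbr (g⁻¹ * B.z * g) := ⟨⟨g⁻¹, by group⟩, hz1, hz1ne⟩
    set K := conjS g⁻¹ F0 with hK
    have memK : ∀ a, a ∈ F0 → g⁻¹ * a * g ∈ K := fun a ha => by
      rw [hK, mem_conjS]; convert ha using 1; group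
    have memK' : ∀ k ∈ K, ∃ a ∈ F0, g⁻¹ * a * g = k := fun k hk => by
      rw [hK, mem_conjS] at hk
      exact ⟨g * k * g⁻¹, by convert hk using 1; group, by group⟩
    have hKQ : ∀ a ∈ F0, g⁻¹ * a * g ∈ B.Q := fun a ha => by
      have := ((memF0 a).mp ha).1.2; rw [hP, mem_conjS] at this; exact this
    have hKQ1 : ∀ a ∈ F0, g⁻¹ * a * g ∈ B.Qof (g⁻¹ * B.z * g) := fun a ha => by
      rw [hQ', mem_conjS]; convert ((memF0 a).mp ha).1.1 using 1; group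
    have hzK : B.z ∈ K := by
      have h := memK s hsF0
      have e : g⁻¹ * s * g = B.z := by rw [← hg]; group
      rwa [e] at h
    have hcard : Nat.card (K ⊓ B.Q : Subgroup G) = Nat.card (F0 ⊓ B.Q : Subgroup G) := Nat.card_congr
      { toFun := fun k => ⟨g * (k : G) * g⁻¹, by
          obtain ⟨a, ha, e⟩ := memK' _ k.2.1
          have e' : g * (k : G) * g⁻¹ = a := by rw [← e]; group
          rw [e']; exact ⟨ha, ((memF0 a).mp ha).1.1⟩⟩
        invFun := fun a => ⟨g⁻¹ * (a : G) * g, memK _ a.2.1, hKQ _ a.2.1⟩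
        left_inv := fun k => Subtype.ext (by show g⁻¹ * (g * (k : G) * g⁻¹) * g = _; group)
        right_inv := fun a => Subtype.ext (by show g * (g⁻¹ * (a : G) * g) * g⁻¹ = _; group) }
    have h3 : finrank (ZMod 2) (B.pimg K) = 3 := by
      rw [B.card_pimg hzK, B.card_pimg hzF0, hpF0, hW3] at hcard
      have : 2 ^ finrank (ZMod 2) (B.pimg K) = 2 ^ 3 := by omega
      exact Nat.pow_right_injective le_rfl this
    refine ⟨hn1, B.pimg K, h3, ?_, ?_, fun a ha => ⟨hKQ a ha, _, memK a ha, hKQ a ha, rfl⟩⟩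
    · rintro _ ⟨k, hk, hkQ, rfl⟩
      obtain ⟨a, ha, rfl⟩ := memK' k hk
      exact ⟨_, hKQ1 a ha, hkQ, rfl⟩
    · rintro _ ⟨k, hk, hkQ, rfl⟩ hk0
      obtain ⟨a, ha, rfl⟩ := memK' k hk
      refine ⟨a, ha, rfl, ?_, hKQ1 a ha⟩
      by_cases h0 : B.p a = 0
      · rcases (B.p_zero a ((memF0 a).mp ha).1.1).mp h0 with rfl | rfl
        · rw [mul_one, inv_mul_cancel, B.p_one] at hk0; exact absurd rfl hk0
        · exact hn1
      · have haW : B.p a ∈ W := hpF0 ▸ ⟨a, ha, ((memF0 a).mp ha).1.1, rfl⟩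
        obtain ⟨k', hk'⟩ := (hnbrS a ((memF0 a).mp ha).1.1 haW.1 h0).1
        refine ⟨⟨g⁻¹ * k', by rw [← hk']; group⟩, hkQ, fun e => hk0 ?_⟩
        rw [e, B.p_z]
  obtain ⟨g0, hg0⟩ := id ns.1
  obtain ⟨hn0, X0, hX3, hX0E, hX0n, -⟩ := key g0 hg0
  have hcz : B.R.Centre L (B.p (g0⁻¹ * B.z * g0)) := by
    by_contra hnc
    obtain ⟨x, hx, hx0, hxC⟩ := six hI hL hn0 hnc hX0E hX3
    obtain ⟨a, -, rfl, hna, hmem⟩ := hX0n x hx hx0
    exact hnc (r_trick hI hL hn0 hna hmem hxC)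
  obtain ⟨x1, hx1, i, hi, hxe⟩ := (Rep.Frame.centre_iff hI hL F hn0.p_ne).mp hcz
  obtain ⟨m, hm⟩ := B.exists_lift (B.R.y ^ (3 - i))
  set g := g0 * (m : G)⁻¹ with hgdef
  have hg : g * B.z * g⁻¹ = s := by
    calc g * B.z * g⁻¹ = g0 * ((m : G)⁻¹ * (B.z * (m : G))) * g0⁻¹ := by rw [hgdef]; group
      _ = g0 * ((m : G)⁻¹ * ((m : G) * B.z)) * g0⁻¹ := by rw [← B.mem_M.mp m.2]
      _ = s := by rw [inv_mul_cancel_left, hg0]
  obtain ⟨hn1, X, h3, hXE, hXn, hXmem⟩ := key g hg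
  set z1 := g⁻¹ * B.z * g with hz1
  have hpz1 : B.p z1 = x1 := by
    rw [hz1, show g⁻¹ * B.z * g = (m : G) * (g0⁻¹ * B.z * g0) * (m : G)⁻¹ by rw [hgdef]; group,
      B.p_conj m _ hn0.2.1, hm, hxe, ← B.R.a_mul, ← pow_add, Nat.sub_add_cancel hi.le, B.R.y3, B.R.a_one]
  have hx1S : B.p z1 ∈ S := hpz1 ▸ hx1
  have hcz1 : B.R.Centre L (B.p z1) :=
    (Rep.Frame.centre_iff hI hL F hn1.p_ne).mpr ⟨B.p z1, hx1S, 0, by norm_num, by rw [pow_zero, B.R.a_one]⟩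
  have hpure : ∀ v ∈ X, v ≠ 0 → B.R.Centre L v := by
    intro v hv hv0
    obtain ⟨a, -, rfl, hna, hmem⟩ := hXn v hv hv0
    by_cases e : g⁻¹ * a * g = z1
    · rw [e]; exact hcz1
    · exact r_trick hI hL hna hn1 (B.symm hna.1 hn1.1 hmem e) hcz1
  have hXhyp := Rep.Frame.pure_le hI hL F hx1S hn1.data hXE h3 hpure
  -- the element u
  have hu1M : g⁻¹ * u * g ∈ B.M := by
    refine B.mem_M.mpr ?_
    calc g⁻¹ * u * g * B.z = g⁻¹ * (u * (g * B.z * g⁻¹)) * g := by group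
      _ = g⁻¹ * ((g * B.z * g⁻¹) * u) * g := by rw [hg, hus_comm]
      _ = _ := by group
  set u1 : B.M := ⟨g⁻¹ * u * g, hu1M⟩ with hu1def
  have hu1Q : g⁻¹ * u * g ∉ B.Q := fun h => huP (by rw [B.Qof_eq hg, mem_conjS]; exact h)
  set x := B.phi u1 with hxdef
  have hx2 : x * x = 1 := by
    rw [hxdef, ← map_mul, show u1 * u1 = 1 from Subtype.ext (by
      show g⁻¹ * u * g * (g⁻¹ * u * g) = 1
      calc g⁻¹ * u * g * (g⁻¹ * u * g) = g⁻¹ * (u * u) * g := by group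
        _ = 1 := by rw [nu.1.sq B]; group), map_one]
  have hx1' : x ≠ 1 := fun h => hu1Q ((B.phi_ker _).mp h)
  have hfixcomm : ∀ a ∈ B.Q, a * (u1 : G) = (u1 : G) * a → B.R.a x (B.p a) = B.p a := fun a ha h => by
    rw [hxdef, ← B.p_conj u1 a ha, ← h, mul_inv_cancel_right]
  have hFcomm : ∀ a ∈ F0, (g⁻¹ * a * g) * (u1 : G) = (u1 : G) * (g⁻¹ * a * g) := fun a ha => by
    show g⁻¹ * a * g * (g⁻¹ * u * g) = g⁻¹ * u * g * (g⁻¹ * a * g)
    calc g⁻¹ * a * g * (g⁻¹ * u * g) = g⁻¹ * (a * u) * g := by group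
      _ = g⁻¹ * (u * a) * g := by rw [((memF0 a).mp ha).2]
      _ = _ := by group
  have hXlift : ∀ v ∈ X, ∃ k ∈ B.Q, B.p k = v ∧ k * (u1 : G) = (u1 : G) * k := by
    intro v hv
    by_cases h0 : v = 0
    · exact ⟨1, one_mem _, by rw [h0, B.p_one], by rw [one_mul, mul_one]⟩
    obtain ⟨a, ha, rfl, -, -⟩ := hXn v hv h0
    exact ⟨_, (hXmem a ha).1, rfl, hFcomm a ha⟩
  have hfx : ∀ w ∈ S, B.R.bs w (B.p z1) = 0 → B.R.a x w = w := by
    intro w hw hb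
    obtain ⟨k, hk, rfl, hku⟩ := hXlift w (hXhyp ▸ (Rep.Frame.mem_hyp hI hL F).mpr ⟨hw, hb⟩)
    exact hfixcomm k hk hku
  -- the element c
  set c1 := g⁻¹ * c * g with hc1
  have hpc1ne : B.p c1 ≠ 0 := by
    intro h
    rcases (B.p_zero _ (hXmem c hcF0).1).mp h with e | e
    · exact nc.1.ne_one B (by
        calc c = g * (g⁻¹ * c * g) * g⁻¹ := by group
          _ = 1 := by rw [e]; group)
    · have : c = s := by
        calc c = g * (g⁻¹ * c * g) * g⁻¹ := by group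
          _ = s := by rw [e, hg]
      rw [this, hsu] at hcu; exact one_ne_zero hcu
  have hnc1 : B.Nbr c1 := by
    obtain ⟨k', hk'⟩ := id nc.1
    refine ⟨⟨g⁻¹ * k', by rw [hc1, ← hk']; group⟩, (hXmem c hcF0).1, fun e => hpc1ne (by rw [e, B.p_z])⟩
  obtain ⟨hc1S, hc1b⟩ := (Rep.Frame.mem_hyp hI hL F).mp (hXhyp ▸ (hXmem c hcF0).2)
  have hc1x : B.p c1 ≠ B.p z1 := by
    intro h
    rcases B.eq_of_p (hXmem c hcF0).1 hn1.2.1 h with e | e
    · have : c = B.z := by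
        calc c = g * c1 * g⁻¹ := by rw [hc1]; group
          _ = B.z := by rw [show c1 = z1 from e, hz1]; group
      exact nc.2.2 this
    · have : c = B.z * s := by
        calc c = g * c1 * g⁻¹ := by rw [hc1]; group
          _ = B.z * (g * B.z * g⁻¹) := by rw [show c1 = z1 * B.z from e, hz1]; group
          _ = B.z * s := by rw [hg]
      rw [this, B.p_mul _ B.D.z_mem s ns.2.1, B.p_z, zero_add] at hcu
      rw [hsu] at hcu; exact one_ne_zero hcu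
  have hu1c : (u1 : G) ∈ B.Qof c1 := by
    have h := (B.mem_Qof_conj nc.1 (x := g⁻¹)).mpr huc
    simpa only [inv_inv] using h
  have hxT : x ∈ B.Tof c1 := ⟨u1, hu1c, rfl⟩
  set Xc := Fix (B.R.a x) ⊓ B.Eof c1 with hXcdef
  have hXc3 : 3 ≤ finrank (ZMod 2) Xc := by
    have h4 : finrank (ZMod 2) (B.Eof c1) = 4 := by
      obtain ⟨h, hh, hm⟩ := (Rep.Frame.centre_iff hI hL F hpc1ne).mpr
        ⟨B.p c1, hc1S, 0, by norm_num, by rw [pow_zero, B.R.a_one]⟩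
      have := ((hnc1.data.map (B.R.el h)).at_centre hI hL hm).1
      rwa [LinearEquiv.finrank_map_eq] at this
    let f := ((B.R.a x).toLinearMap + LinearMap.id).comp (B.Eof c1).subtype
    have hr : LinearMap.range f ≤ Submodule.span (ZMod 2) {B.p c1} := by
      rintro _ ⟨v, rfl⟩
      rcases hnc1.data.small x hxT v v.2 with e | e
      · show B.R.a x v + v ∈ _
        rw [e, add_self0]; exact zero_mem _
      · show B.R.a x v + v ∈ _
        rw [e]; exact Submodule.mem_span_singleton_self _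
    have h1 := LinearMap.finrank_range_add_finrank_ker f
    have h2 := Submodule.finrank_mono hr
    rw [finrank_span_singleton hpc1ne] at h2
    have h3 : finrank (ZMod 2) (LinearMap.ker f) ≤ finrank (ZMod 2) Xc := by
      refine LinearMap.finrank_le_finrank_of_injective
        (f := ((B.Eof c1).subtype.comp (LinearMap.ker f).subtype).codRestrict Xc fun v =>
          ⟨v.2, v.1.2⟩) ?_
      intro a b e
      exact Subtype.ext (Subtype.ext (congrArg (Subtype.val : Xc → V) e))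
    omega
  have hXclift : ∀ v ∈ Xc, ∃ k ∈ B.Q, B.p k = v ∧ k * (u1 : G) = (u1 : G) * k := by
    rintro _ ⟨hv, a, ha, haQ, rfl⟩
    refine ⟨a, haQ, rfl, ?_⟩
    have e : (u1 : G) * a * (u1 : G)⁻¹ = ⁅(u1 : G), a⁆ * a := by rw [commutatorElement_def]; group
    rcases (B.data hnc1.1).comm _ hu1c a ha with h | h
    · rw [h, one_mul] at e; exact (mul_inv_eq_iff_eq_mul.mp e).symm
    · exfalso
      have hp := B.p_conj u1 a haQ
      rw [e, h, B.p_mul c1 hnc1.2.1 a haQ, mem_fix.mp hv] at hp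
      exact hpc1ne (by simpa using hp)
  refine ⟨g, hg, u1, rfl, ?_⟩
  rcases Rep.Frame.endgame hI hL F hx2 hx1' hx1S hn1.p_ne hc1S hc1b hc1x hnc1.data
      (Xc := Xc) inf_le_right hXc3 hfx (fun w hw => mem_fix.mp hw.1) with
    ⟨hp, hs, w, hw, hwb, w', hw', hB⟩ | ⟨hp, hr, hfix, hSle⟩
  · left
    obtain ⟨a, ha, rfl, hau⟩ := hXlift w (hXhyp ▸ (Rep.Frame.mem_hyp hI hL F).mpr ⟨hw, hwb⟩)
    obtain ⟨b, hb, rfl, hbu⟩ := hXclift w' hw'
    exact ⟨hp, hs, a, ha, b, hb, hau, hbu, fun h => one_ne_zero (hB.symm.trans ((B.p_comm a ha b hb).mp h))⟩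
  · refine Or.inr ⟨hp, hr, hfix, ?_, z1, hn1.2.1, hx1S, hn1.p_ne, ?_, ?_⟩
    · intro q hq hqS
      obtain ⟨w, hw, w', hw', e⟩ := Submodule.mem_sup.mp (hSle hqS)
      obtain ⟨a, ha, rfl, hau⟩ := hXlift w (hXhyp ▸ hw)
      obtain ⟨b, hb, rfl, hbu⟩ := hXclift w' hw'
      rw [← B.p_mul a ha b hb] at e
      have hab : a * b * (u1 : G) = (u1 : G) * (a * b) := by rw [mul_assoc, hbu, ← mul_assoc, hau, mul_assoc]
      rcases B.eq_of_p hq (mul_mem ha hb) e.symm with rfl | rfl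
      · exact hab
      · rw [mul_assoc (a * b), ← B.mem_M.mp u1.2, ← mul_assoc, hab, mul_assoc]
    · have h := (B.mem_Qof_conj nu.1 (x := g⁻¹)).mpr nu.z_mem
      simpa only [inv_inv] using h
    · intro h
      apply hsQu
      refine (B.mem_Qof_conj nu.1 (x := g⁻¹)).mp ?_
      have e : g⁻¹ * s * g⁻¹⁻¹ = B.z := by rw [← hg]; group
      rw [e, inv_inv]; exact h
omit F in
/-- No neighbour has centre image. -/
theorem no_centre {v : G} (n : B.Nbr v) (hc : B.R.Centre L (B.p v)) : False := by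
  obtain ⟨h, hh, hm⟩ := hc
  obtain ⟨m, hmh⟩ := B.exists_lift (B.R.el h)
  obtain ⟨ns, hps⟩ := n.map m
  set s := (m : G) * v * (m : G)⁻¹ with hs
  have hscen : B.p s ∈ B.R.cen L := by rw [hps, hmh]; exact hm
  obtain ⟨S, F⟩ := B.R.exists_frame hI hL hscen ns.p_ne
  set a := B.p s with ha
  have ha0 : a ≠ 0 := ns.p_ne
  obtain ⟨b, hbS, hab⟩ : ∃ b ∈ S, B.R.bs a b = 1 := by
    by_contra! hcon
    exact ha0 (Rep.Frame.bs_nondeg hI hL F F.mem fun c hc => (zmod2_cases _).resolve_right (hcon c hc))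
  have hb0 : b ≠ 0 := fun e => by
    have h0 : B.R.Q.B a (B.R.Y b) = 0 := by rw [e, map_zero, map_zero]
    exact one_ne_zero (hab.symm.trans h0)
  obtain ⟨e, he, he0⟩ : ∃ e ∈ (S ⊓ B.R.Q.perp (Submodule.span (ZMod 2) {B.R.Y a})) ⊓
      (S ⊓ B.R.Q.perp (Submodule.span (ZMod 2) {B.R.Y b})), e ≠ 0 := by
    refine Submodule.exists_mem_ne_zero_of_ne_bot fun hbot => ?_
    have h := Submodule.finrank_sup_add_finrank_inf_eq (S ⊓ B.R.Q.perp (Submodule.span (ZMod 2) {B.R.Y a}))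
      (S ⊓ B.R.Q.perp (Submodule.span (ZMod 2) {B.R.Y b}))
    rw [hbot, finrank_bot, Rep.Frame.finrank_hyp hI hL F F.mem ha0, Rep.Frame.finrank_hyp hI hL F hbS hb0] at h
    have hle : (S ⊓ B.R.Q.perp (Submodule.span (ZMod 2) {B.R.Y a})) ⊔
        (S ⊓ B.R.Q.perp (Submodule.span (ZMod 2) {B.R.Y b})) ≤ S := sup_le inf_le_left inf_le_left
    have := Submodule.finrank_mono hle
    rw [F.dim] at this; omega
  obtain ⟨heS, hea⟩ := (Rep.Frame.mem_hyp hI hL F).mp he.1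
  obtain ⟨-, heb⟩ := (Rep.Frame.mem_hyp hI hL F).mp he.2
  have lift : ∀ w ∈ S, w ≠ 0 → ∃ q, B.Nbr q ∧ B.p q = w := by
    intro w hw hw0
    obtain ⟨σ, hσ, e'⟩ := F.trans w hw hw0
    obtain ⟨q, hq, rfl⟩ := B.p_surj w
    exact ⟨q, ns.of_a hq e'.symm, rfl⟩
  obtain ⟨u, nu, rfl⟩ := lift b hbS hb0
  obtain ⟨c, nc, rfl⟩ := lift e heS he0
  have T : B.Triple S s u c := ⟨ns, nu, nc, F.mem, hbS, heS, hab, hea, heb⟩
  obtain ⟨g, hg, u1, hu1, hcase⟩ := T.pair hI hL F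
  rcases hcase with ⟨-, -, a1, ha1, a2, ha2, hc1, hc2, hnc⟩ | ⟨-, hr, hfix, hcomm, z1, hz1, hz1S, hz1ne, hz1D, hzD⟩
  · -- s is a commutator of elements centralizing u
    obtain ⟨k, hk, s2, hs2, hcase'⟩ := (T.swap hI hL F).pair hI hL F
    have hcom : ⁅a1, a2⁆ = B.z := (B.D.comm a1 ha1 a2 ha2).resolve_left fun h =>
      hnc (commutatorElement_eq_one_iff_mul_comm.mp h)
    have hMk : ∀ a, a * (u1 : G) = (u1 : G) * a → k⁻¹ * (g * a * g⁻¹) * k ∈ B.M := by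
      intro a h
      refine B.mem_M.mpr ?_
      rw [hu1] at h
      have hz' : B.z = k⁻¹ * u * k := by rw [← hk]; group
      calc k⁻¹ * (g * a * g⁻¹) * k * B.z = k⁻¹ * g * (a * (g⁻¹ * u * g)) * g⁻¹ * k := by rw [hz']; group
        _ = k⁻¹ * g * ((g⁻¹ * u * g) * a) * g⁻¹ * k := by rw [h]
        _ = B.z * (k⁻¹ * (g * a * g⁻¹) * k) := by rw [hz']; group
    set m1 : B.M := ⟨_, hMk a1 hc1⟩
    set m2 : B.M := ⟨_, hMk a2 hc2⟩
    have hs2' : s2 = m1 * m2 * m1⁻¹ * m2⁻¹ := by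
      refine Subtype.ext ?_
      show (s2 : G) = k⁻¹ * (g * a1 * g⁻¹) * k * (k⁻¹ * (g * a2 * g⁻¹) * k) * (k⁻¹ * (g * a1 * g⁻¹) * k)⁻¹ *
        (k⁻¹ * (g * a2 * g⁻¹) * k)⁻¹
      rw [hs2]
      calc k⁻¹ * s * k = k⁻¹ * (g * B.z * g⁻¹) * k := by rw [hg]
        _ = k⁻¹ * (g * ⁅a1, a2⁆ * g⁻¹) * k := by rw [hcom]
        _ = _ := by rw [commutatorElement_def]; group
    have hs22 : s2 * s2 = 1 := Subtype.ext (by
      show (s2 : G) * s2 = 1
      rw [hs2]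
      calc k⁻¹ * s * k * (k⁻¹ * s * k) = k⁻¹ * (s * s) * k := by group
        _ = 1 := by rw [ns.1.sq B]; group)
    have hsgn : sign (B.R.rho (B.phi s2)) = 1 := by
      rw [hs2']; simp only [map_mul, map_inv]; rw [mul_right_comm (sign _) (sign _), mul_inv_cancel, one_mul, mul_inv_cancel]
    have hpi : B.R.pi (B.phi s2) = 1 := by
      have h2 : B.R.pi (B.phi s2) * B.R.pi (B.phi s2) = 1 := by rw [← map_mul, ← map_mul, hs22, map_one, map_one]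
      have hsg : sign (B.R.pi (B.phi s2)) = 1 := by
        rw [hs2']; simp only [map_mul, map_inv]; rw [mul_right_comm (sign _) (sign _), mul_inv_cancel, one_mul, mul_inv_cancel]
      revert h2 hsg
      generalize B.R.pi (B.phi s2) = p
      revert p; decide
    rcases hcase' with ⟨-, hs, -⟩ | ⟨hp, -⟩
    · rw [hsgn] at hs; exact absurd hs (by decide)
    · exact hp hpi
  · have hu : B.Conj (u1 : G) := by
      obtain ⟨k, hk⟩ := nu.1
      exact ⟨g⁻¹ * k, by rw [hu1, ← hk]; group⟩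
    exact case_two F hu hr hfix hcomm hz1 hz1S hz1ne hz1D hzD

end Base

end Cfsg.Agent.S3A6Q9
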