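import Cfsg.Agent.Lib.S3A6Q9.Base

/-
Conjugates of z in Q other than z (`Nbr`): the two possible shapes of their linear data, and the
observation that a noncentre one is not collinear with a centre one.
-/

set_option autoImplicit false
set_option linter.unusedSectionVars false

namespace Cfsg.Agent.S3A6Q9

open Module Equiv Equiv.Perm

namespace Base

variable {G : Type*} [Group G] {H : Type*} [Group H] {V : Type*} [AddCommGroup V] [Module (ZMod 2) V]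
variable (B : Base G H V)

/-- A conjugate of z in Q different from z. -/
def Nbr (v : G) : Prop := B.Conj v ∧ v ∈ B.Q ∧ v ≠ B.z

variable [Finite G] {B}

theorem Nbr.p_ne {v : G} (n : B.Nbr v) : B.p v ≠ 0 := B.p_ne_zero n.1 n.2.1 n.2.2

theorem Nbr.z_mem {v : G} (n : B.Nbr v) : B.z ∈ B.Qof v := B.symm_z n.1 n.2.1 n.2.2

theorem Nbr.map {v : G} (n : B.Nbr v) (m : B.M) :
    B.Nbr ((m : G) * v * (m : G)⁻¹) ∧ B.p ((m : G) * v * (m : G)⁻¹) = B.R.a (B.phi m) (B.p v) :=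
  have h := B.conj_image n.1 n.2.1 n.2.2 m
  ⟨⟨h.1, h.2.1, h.2.2.1⟩, h.2.2.2⟩

theorem Nbr.data [Finite V] {v : G} (n : B.Nbr v) : B.R.Local (B.p v) (B.Eof v) (B.Tof v) :=
  B.local_data n.1 n.2.1 n.2.2

/-- Membership in the group of a neighbour can be read off in V. -/
theorem Nbr.mem_iff {v : G} (n : B.Nbr v) {a : G} (ha : a ∈ B.Q) : B.p a ∈ B.Eof v ↔ a ∈ B.Qof v :=
  B.p_mem_pimg n.z_mem ha

/-- An element with the image of a neighbour is a neighbour. -/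
theorem Nbr.of_p {v a : G} (n : B.Nbr v) (ha : a ∈ B.Q) (h : B.p a = B.p v) : B.Nbr a := by
  obtain ⟨q, hq, rfl⟩ := B.conj_of_p n.1 n.2.1 n.2.2 ha h
  exact (n.map ⟨q, B.Q_le_M hq⟩).1

theorem Nbr.of_a {v a : G} (n : B.Nbr v) (ha : a ∈ B.Q) {h : H} (e : B.p a = B.R.a h (B.p v)) : B.Nbr a := by
  obtain ⟨m, rfl⟩ := B.exists_lift h
  exact Nbr.of_p (n.map m).1 ha (e.trans (n.map m).2.symm)

variable [Finite H] [Finite V] {L : Lab} (hI : B.R.TypeI) (hL : B.R.Labelled L)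
include hI hL

/-- After moving by an even element, the space of a noncentre neighbour is `S c0`. -/
theorem noncentre_std {v : G} (n : B.Nbr v) (hnc : ¬ B.R.Centre L (B.p v)) :
    ∃ h : S6, sign h = 1 ∧ B.R.a (B.R.el h) (B.p v) ∈ B.R.S c0 ∧
      ¬ B.R.Centre L (B.R.a (B.R.el h) (B.p v)) ∧
      (B.Eof v).map (B.R.a (B.R.el h)).toLinearMap = B.R.S c0 := by
  obtain ⟨t, ht, htp, hts, ht1⟩ := n.data.exists_even_invol
  have hσ2 : B.R.rho t * B.R.rho t = 1 := by rw [← map_mul, n.data.elem.2 t ht, map_one]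
  have hσ1 : B.R.rho t ≠ 1 := fun e => ht1 (B.R.inj t htp e)
  obtain ⟨k, hk, hkc⟩ := exists_conj_c0 _ hts hσ2 hσ1
  have hk' : sign k⁻¹ = 1 := by rw [map_inv, hk, inv_one]
  have D := n.data.map (B.R.el k⁻¹)
  have hmem : B.R.el c0 ∈ (B.Tof v).map (MulAut.conj (B.R.el k⁻¹)).toMonoidHom := by
    refine ⟨t, ht, ?_⟩
    show B.R.el k⁻¹ * t * (B.R.el k⁻¹)⁻¹ = B.R.el c0
    rw [← B.R.el_eq htp hts, B.R.el_conj hts, B.R.rho_el hk', ← hkc]
    congr 1; group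
  have hS : B.R.a (B.R.el k⁻¹) (B.p v) ∈ B.R.S c0 := B.R.mem_S.mpr (D.fixT _ hmem)
  have hnc' : ¬ B.R.Centre L (B.R.a (B.R.el k⁻¹) (B.p v)) := fun h => hnc (Rep.Centre.of_el B.R hk' h)
  exact ⟨k⁻¹, hk', hS, hnc', D.off_centre hI hL hS hnc' hmem⟩

theorem Eof_Y {v : G} (n : B.Nbr v) (hnc : ¬ B.R.Centre L (B.p v)) {u : V} (hu : u ∈ B.Eof v) :
    B.R.Y u ∈ B.Eof v := by
  obtain ⟨h, hh, -, -, e⟩ := noncentre_std hI hL n hnc
  have h1 : B.R.a (B.R.el h) u ∈ B.R.S c0 := e ▸ Submodule.mem_map_of_mem (f := (B.R.a (B.R.el h)).toLinearMap) hu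
  have h2 := B.R.Y_S h1
  rw [B.R.Y_el, ← e] at h2
  obtain ⟨u', hu', e'⟩ := h2
  rwa [← (B.R.a (B.R.el h)).injective e']

/-- Pairs u, Yu in the space of a centre neighbour are centres. -/
theorem centre_pair {r : G} (n : B.Nbr r) (hc : B.R.Centre L (B.p r)) {u : V} (hu : u ∈ B.Eof r)
    (hYu : B.R.Y u ∈ B.Eof r) : B.R.Centre L u := by
  obtain ⟨h, hh, hm⟩ := hc
  have D := n.data.map (B.R.el h)
  refine ⟨h, hh, (D.at_centre hI hL hm).2.2.1 _ (Submodule.mem_map_of_mem hu) ?_⟩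
  rw [B.R.Y_el]
  exact Submodule.mem_map_of_mem hYu

/-- A neighbour collinear with a centre neighbour is a centre. -/
theorem r_trick {v r : G} (nv : B.Nbr v) (nr : B.Nbr r) (hr : r ∈ B.Qof v) (hc : B.R.Centre L (B.p r)) :
    B.R.Centre L (B.p v) := by
  by_contra hnc
  have hne : r ≠ v := fun e => hnc (e ▸ hc)
  obtain ⟨m, hm⟩ := B.exists_lift B.R.y
  obtain ⟨nr', hpr'⟩ := nr.map m
  have hY : B.p ((m : G) * r * (m : G)⁻¹) ∈ B.Eof v := by
    rw [hpr', hm]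
    exact Eof_Y hI hL nv hnc ((nv.mem_iff nr.2.1).mpr hr)
  have hne' : (m : G) * r * (m : G)⁻¹ ≠ v := fun e => hnc (by
    rw [← e, hpr', hm, show B.R.y = B.R.y ^ 1 from (pow_one _).symm]
    exact Rep.Centre.ypow B.R hc 1)
  have h1 : B.p v ∈ B.Eof r := (nr.mem_iff nv.2.1).mpr (B.symm nr.1 nv.1 hr hne)
  have h2 : B.p v ∈ B.Eof ((m : G) * r * (m : G)⁻¹) :=
    (nr'.mem_iff nv.2.1).mpr (B.symm nr'.1 nv.1 ((nv.mem_iff nr'.2.1).mp hY) hne')
  rw [B.Eof_conj nr.1, hm] at h2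
  obtain ⟨u, hu, hue⟩ := h2
  have hue' : B.R.Y u = B.p v := hue
  have hC := centre_pair hI hL nr hc hu (hue' ▸ h1)
  apply hnc
  rw [← hue', show B.R.Y u = B.R.a (B.R.y ^ 1) u by rw [pow_one]]
  exact Rep.Centre.ypow B.R hC 1

/-- The space of a noncentre neighbour contains no 3-space of noncentres. -/
theorem six {v : G} (n : B.Nbr v) (hnc : ¬ B.R.Centre L (B.p v)) {X : Submodule (ZMod 2) V} (hX : X ≤ B.Eof v)
    (h3 : finrank (ZMod 2) X = 3) : ∃ x ∈ X, x ≠ 0 ∧ B.R.Centre L x := by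
  classical
  by_contra! hall
  obtain ⟨h, hh, hS, hnc', e⟩ := noncentre_std hI hL n hnc
  obtain ⟨hcover, -, -⟩ := B.R.noncentre hI hL hS (fun e0 => n.p_ne ((B.R.a _).map_eq_zero_iff.mp e0)) hnc'
  set s := B.R.a (B.R.el h) (B.p v) with hs
  let val : Option (Fin 3 × Bool) → V := fun o =>
    o.elim 0 fun p => B.R.a (B.R.y ^ p.1.val) (if p.2 then B.R.a (B.R.el L.ga) s else s)
  have hsurj : ∀ x : X, ∃ o, val o = B.R.a (B.R.el h) x.1 := by
    intro x
    have hx : B.R.a (B.R.el h) x.1 ∈ B.R.S c0 :=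
      e ▸ Submodule.mem_map_of_mem (f := (B.R.a (B.R.el h)).toLinearMap) (hX x.2)
    rcases hcover _ hx with h0 | hC | ⟨i, hi, hv | hv⟩
    · exact ⟨none, h0.symm⟩
    · by_cases hx0 : x.1 = 0
      · exact ⟨none, by rw [hx0, map_zero]; rfl⟩
      · exact absurd (Rep.Centre.of_el B.R hh hC) (hall _ x.2 hx0)
    · exact ⟨some (⟨i, hi⟩, false), hv.symm⟩
    · exact ⟨some (⟨i, hi⟩, true), hv.symm⟩
  choose f hf using hsurj
  have hinj : Function.Injective f := fun a b hab =>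
    Subtype.ext ((B.R.a (B.R.el h)).injective ((hf a).symm.trans ((congrArg val hab).trans (hf b))))
  have := Nat.card_le_card_of_injective f hinj
  rw [Module.natCard_eq_pow_finrank (K := ZMod 2), Nat.card_zmod, h3] at this
  simp [Nat.card_eq_fintype_card] at this

end Base

end Cfsg.Agent.S3A6Q9
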